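import Groth.Agent.DescLib.Main
import Groth.Agent.RichLib.QuasiAffineMor
import Groth.Agent.AlgSpLib.FpqcMore
import Groth.Agent.AlgSpLib.RepDescent
import Mathlib.RingTheory.Unramified.LocalStructure

/-!
# Effective descent for quasi-affine and for separated étale schemes
-/

set_option autoImplicit false
set_option linter.style.haveILetI false
set_option backward.isDefEq.respectTransparency false
set_option backward.isDefEq.respectTransparency.types false

universe u

open CategoryTheory CategoryTheory.Limits AlgebraicGeometry TopologicalSpace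

namespace DescLib

open Desc

/-- Quasi-affine morphisms as a property. -/
def qaff : MorphismProperty Scheme.{u} := fun _ _ f => Mor2.IsQuasiAffine f

instance : qaff.{u}.IsStableUnderBaseChange where
  of_isPullback sq hg := RichLib.QA.of_isPullback sq hg

variable {X S : Scheme.{u}} {p : X ⟶ S} (D : SchDD p)

theorem effective_of_quasiAffine [Fpqc p] (hD : Mor2.IsQuasiAffine D.obj.hom) :
    ∃ U : Over S, Nonempty ((Desc.toDD p).obj U ≅ D) := by
  refine effective_of_affine_case D qaff hD fun X' S' p' hX hS hfl hsurj D' hP => ?_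
  haveI : D'.obj.left.IsQuasiAffine := by
    haveI : (⊤ : D'.obj.left.Opens).toScheme.IsQuasiAffine := hP.2 ⊤ (isAffineOpen_top X')
    exact RichLib.QA.isQuasiAffine_of_iso (Scheme.topIso D'.obj.left).inv
  exact effective_affine_case D'

theorem effective_of_lqf [Fpqc p] [QuasiCompact D.obj.hom] [IsSeparated D.obj.hom] [LocallyQuasiFinite D.obj.hom]
    [LocallyOfFiniteType D.obj.hom] : ∃ U : Over S, Nonempty ((Desc.toDD p).obj U ≅ D) := by
  refine effective_of_affine_case D (@QuasiCompact ⊓ @IsSeparated ⊓ @LocallyQuasiFinite ⊓ @LocallyOfFiniteType)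
    ⟨⟨⟨‹_›, ‹_›⟩, ‹_›⟩, ‹_›⟩ fun X' S' p' hX hS hfl hsurj D' hP => ?_
  obtain ⟨⟨⟨h₁, h₂⟩, h₃⟩, h₄⟩ := hP
  haveI : D'.obj.left.IsQuasiAffine := AlgSpLib.quasiAffine_of_lqf D'.obj.hom
  exact effective_affine_case D'

theorem quasiCompact_of_surjective_comp {V U S : Scheme.{u}} (q : V ⟶ U) (g : U ⟶ S) [Surjective q]
    [QuasiCompact (q ≫ g)] : QuasiCompact g := by
  refine ⟨fun O hO hc => ?_⟩
  have e : g ⁻¹' O = q '' ((q ≫ g) ⁻¹' O) := by
    ext u
    constructor
    · intro hu
      obtain ⟨v, rfl⟩ := q.surjective u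
      exact ⟨v, by rwa [Set.mem_preimage, Scheme.Hom.comp_apply], rfl⟩
    · rintro ⟨v, hv, rfl⟩
      rwa [Set.mem_preimage, Scheme.Hom.comp_apply] at hv
  rw [e]
  exact ((inferInstance : QuasiCompact (q ≫ g)).isCompact_preimage O hO hc).image q.continuous

theorem lqf_of_unramified {A B : Scheme.{u}} (f : A ⟶ B) [FormallyUnramified f] [LocallyOfFiniteType f] :
    LocallyQuasiFinite f := by
  refine ⟨fun {U} hU {V} hV e => ?_⟩
  have h1 := HasRingHomProperty.appLE @FormallyUnramified f inferInstance ⟨U, hU⟩ ⟨V, hV⟩ e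
  have h2 := HasRingHomProperty.appLE @LocallyOfFiniteType f inferInstance ⟨U, hU⟩ ⟨V, hV⟩ e
  algebraize [(f.appLE U V e).hom]
  change Algebra.QuasiFinite Γ(B, U) Γ(A, V)
  infer_instance

theorem effective_etale [Flat p] [Surjective p] [QuasiCompact p] [QuasiCompact D.obj.hom] [IsSeparated D.obj.hom]
    [Etale D.obj.hom] :
    ∃ U : Over S, QuasiCompact U.hom ∧ IsSeparated U.hom ∧ Etale U.hom ∧
      Nonempty ((Desc.toDD p).obj U ≅ D) := by
  haveI : LocallyQuasiFinite D.obj.hom := lqf_of_unramified _
  obtain ⟨U, ⟨e⟩⟩ := effective_of_lqf D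
  refine ⟨U, ?_, ?_, ?_, ⟨e⟩⟩
  all_goals
    have sq : IsPullback (pullback.fst p U.hom) (pullback.snd p U.hom) p U.hom := IsPullback.of_hasPullback _ _
    let ei : pullback p U.hom ≅ D.obj.left :=
      ⟨e.hom.hom.left, e.inv.hom.left, congrArg (fun z => z.hom.left) e.hom_inv_id,
        congrArg (fun z => z.hom.left) e.inv_hom_id⟩
    haveI : IsIso ei.hom := Iso.isIso_hom ei
    have hfst : pullback.fst p U.hom = ei.hom ≫ D.obj.hom := (Over.w e.hom.hom).symm
    have hp : (@Surjective ⊓ @Flat ⊓ @QuasiCompact : MorphismProperty Scheme.{u}) p :=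
      ⟨⟨inferInstance, inferInstance⟩, inferInstance⟩
  · haveI : QuasiCompact (pullback.snd p U.hom ≫ U.hom) := by
      rw [← pullback.condition, hfst, Category.assoc]
      exact (MorphismProperty.cancel_left_of_respectsIso @QuasiCompact ei.hom _).2 inferInstance
    exact quasiCompact_of_surjective_comp (pullback.snd p U.hom) U.hom
  · haveI : MorphismProperty.DescendsAlong (@IsSeparated : MorphismProperty Scheme.{u})
        (@Surjective ⊓ @Flat ⊓ @QuasiCompact) := by
      rw [IsSeparated.isSeparated_eq_diagonal_isClosedImmersion]; infer_instance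
    exact MorphismProperty.of_isPullback_of_descendsAlong (P := @IsSeparated) sq hp
      (by rw [hfst]; exact (MorphismProperty.cancel_left_of_respectsIso @IsSeparated ei.hom _).2 ‹_›)
  · exact MorphismProperty.of_isPullback_of_descendsAlong (P := @Etale) sq hp
      (by rw [hfst]; exact (MorphismProperty.cancel_left_of_respectsIso @Etale ei.hom _).2 ‹_›)

end DescLib
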