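import Mathlib.AlgebraicGeometry.Sites.Fpqc
import Mathlib.AlgebraicGeometry.Morphisms.Flat
import Mathlib.AlgebraicGeometry.Limits

/-!
# Morphisms forming an fpqc covering by themselves
-/

set_option autoImplicit false
set_option linter.style.haveILetI false
set_option backward.isDefEq.respectTransparency false
set_option backward.isDefEq.respectTransparency.types false

universe u

open CategoryTheory CategoryTheory.Limits AlgebraicGeometry TopologicalSpace

namespace DescLib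

/-- `p` alone is an fpqc covering. -/
class Fpqc {X S : Scheme.{u}} (p : X ⟶ S) : Prop where
  mem : Presieve.singleton p ∈ Scheme.fpqcPrecoverage S

instance (priority := 900) {X S : Scheme.{u}} (p : X ⟶ S) [Flat p] [Surjective p] [QuasiCompact p] : Fpqc p :=
  ⟨p.singleton_mem_fpqcPrecoverage⟩

theorem ofArrows_flat {ι : Type u} {S : Scheme.{u}} {X : ι → Scheme.{u}} {f : ∀ i, X i ⟶ S}
    (hf : Presieve.ofArrows X f ∈ Scheme.fpqcPrecoverage S) (i : ι) : Flat (f i) :=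
  (((Scheme.ofArrows_mem_precoverage_iff _).mp hf.2)).2 i

theorem ofArrows_surj {ι : Type u} {S : Scheme.{u}} {X : ι → Scheme.{u}} {f : ∀ i, X i ⟶ S}
    (hf : Presieve.ofArrows X f ∈ Scheme.fpqcPrecoverage S) (s : S) : ∃ i, s ∈ Set.range (f i) :=
  (((Scheme.ofArrows_mem_precoverage_iff _).mp hf.2)).1 s

/-- Over an affine open, an fpqc family is refined by finitely many affines. -/
theorem exists_affine_refinement {ι : Type u} {S : Scheme.{u}} {X : ι → Scheme.{u}} {f : ∀ i, X i ⟶ S}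
    (hf : Presieve.ofArrows X f ∈ Scheme.fpqcPrecoverage S) {S₀ : S.Opens} (hS₀ : IsAffineOpen S₀) :
    ∃ (m : ℕ) (a : Fin m → ι) (V : Fin m → Scheme.{u}) (o : ∀ k, V k ⟶ X (a k)) (b : ∀ k, V k ⟶ S₀.toScheme),
      (∀ k, IsAffine (V k)) ∧ (∀ k, IsOpenImmersion (o k)) ∧ (∀ k, o k ≫ f (a k) = b k ≫ S₀.ι) ∧
      IsAffine (∐ V) ∧ Flat (Limits.Sigma.desc b) ∧ Surjective (Limits.Sigma.desc b) ∧
      QuasiCompact (Limits.Sigma.desc b) := by
  let E : PreZeroHypercover.{u} S := ⟨ι, X, f⟩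
  haveI : QuasiCompactCover E := Scheme.presieve₀_mem_qcPrecoverage_iff.mp hf.1
  obtain ⟨m, a, W, hW, hc⟩ := QuasiCompactCover.exists_isAffineOpen_of_isCompact E hS₀.isCompact
  have hsub : ∀ k, W k ≤ f (a k) ⁻¹ᵁ S₀ := fun k x hx => by
    change f (a k) x ∈ (S₀ : Set S)
    rw [← hc]; exact Set.mem_iUnion_of_mem k ⟨x, hx, rfl⟩
  let b : ∀ k, (W k).toScheme ⟶ S₀.toScheme := fun k =>
    IsOpenImmersion.lift S₀.ι ((W k).ι ≫ f (a k)) (by
      rintro _ ⟨x, rfl⟩; rw [Scheme.Opens.range_ι]; exact hsub k x.2)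
  have hb : ∀ k, b k ≫ S₀.ι = (W k).ι ≫ f (a k) := fun k => IsOpenImmersion.lift_fac _ _ _
  haveI : IsAffine S₀.toScheme := hS₀
  haveI : ∀ k, IsAffine (W k).toScheme := fun k => hW k
  have haff : IsAffine (∐ fun k => (W k).toScheme) := inferInstance
  refine ⟨m, a, fun k => (W k).toScheme, fun k => (W k).ι, b, fun k => hW k,
    fun k => (inferInstance : IsOpenImmersion (W k).ι), fun k => (hb k).symm, haff, ?_, ?_, inferInstance⟩
  · refine IsZariskiLocalAtSource.of_openCover (sigmaOpenCover (fun k => (W k).toScheme)) fun k => ?_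
    change Flat (Sigma.ι (fun k => (W k).toScheme) k ≫ Sigma.desc b)
    rw [Sigma.ι_desc]
    haveI : Flat (f (a k)) := ofArrows_flat hf (a k)
    haveI : Flat (b k ≫ S₀.ι) := hb k ▸ inferInstance
    refine MorphismProperty.of_postcomp (W := @Flat) (W' := @IsOpenImmersion) (b k) S₀.ι inferInstance ?_
    infer_instance
  · refine ⟨fun s => ?_⟩
    have : (s.1 : S) ∈ (S₀ : Set S) := s.2
    rw [← hc, Set.mem_iUnion] at this
    obtain ⟨k, x, hx, hxs⟩ := this
    refine ⟨Sigma.ι (fun k => (W k).toScheme) k ⟨x, hx⟩, ?_⟩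
    apply S₀.ι.isOpenEmbedding.injective
    rw [← Scheme.Hom.comp_apply, ← Scheme.Hom.comp_apply, Sigma.ι_desc_assoc, hb]
    exact hxs

variable {X S : Scheme.{u}} (p : X ⟶ S)

theorem Fpqc.memOfArrows [Fpqc p] :
    Presieve.ofArrows (fun _ : PUnit.{u + 1} => X) (fun _ => p) ∈ Scheme.fpqcPrecoverage S := by
  rw [Presieve.ofArrows_pUnit.{u}]; exact Fpqc.mem

theorem Fpqc.of_memOfArrows (h : Presieve.ofArrows (fun _ : PUnit.{u + 1} => X) (fun _ => p) ∈
    Scheme.fpqcPrecoverage S) : Fpqc p :=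
  ⟨by rwa [Presieve.ofArrows_pUnit.{u}] at h⟩

instance (priority := 900) Fpqc.flat [Fpqc p] : Flat p := ofArrows_flat (Fpqc.memOfArrows p) PUnit.unit

instance (priority := 900) Fpqc.surjective [Fpqc p] : Surjective p :=
  ⟨fun s => (ofArrows_surj (Fpqc.memOfArrows p) s).elim fun _ h => h⟩

instance (priority := 900) Fpqc.effectiveEpi [Fpqc p] : EffectiveEpi p := by
  rw [← Sieve.effectiveEpimorphic_singleton, Presieve.EffectiveEpimorphic.iff_forall_isSheafFor_yoneda]
  intro Z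
  exact (GrothendieckTopology.Subcanonical.isSheaf_of_isRepresentable _).isSheafFor _
    (Precoverage.generate_mem_toGrothendieck (J := Scheme.fpqcPrecoverage) Fpqc.mem)

variable {p}

theorem Fpqc.of_isPullback {Y P : Scheme.{u}} {g : Y ⟶ S} {p₁ : P ⟶ Y} {p₂ : P ⟶ X}
    (h : IsPullback p₁ p₂ g p) [Fpqc p] : Fpqc p₁ :=
  Fpqc.of_memOfArrows p₁
    (Precoverage.mem_coverings_of_isPullback _ (Fpqc.memOfArrows p) g _ (fun _ => p₂) fun _ => h)

instance {Y : Scheme.{u}} (g : Y ⟶ S) [Fpqc p] : Fpqc (pullback.fst g p) :=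
  Fpqc.of_isPullback (IsPullback.of_hasPullback g p)

instance {Y : Scheme.{u}} (g : Y ⟶ S) [Fpqc p] : Fpqc (pullback.snd p g) :=
  Fpqc.of_isPullback (IsPullback.of_hasPullback p g).flip

/-- An fpqc morphism is a topological quotient map. -/
theorem isOpen_of_isOpen_preimage (p : X ⟶ S) [Fpqc p] {O : Set S} (hO : IsOpen (p ⁻¹' O)) : IsOpen O := by
  refine isOpen_iff_forall_mem_open.mpr fun s hs => ?_
  obtain ⟨S₀, hS₀, hsS₀, -⟩ := Opens.isBasis_iff_nbhd.mp S.isBasis_affineOpens (Opens.mem_top s)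
  obtain ⟨m, a, V, o, b, -, -, hb, -, hfl, hsurj, hqc⟩ := exists_affine_refinement (Fpqc.memOfArrows p) hS₀
  have hq : Topology.IsQuotientMap (Limits.Sigma.desc b) := Flat.isQuotientMap_of_surjective _
  have hopen : IsOpen (Scheme.Opens.ι S₀ ⁻¹' O) := by
    rw [← hq.isOpen_preimage]
    have e : Limits.Sigma.desc b ⁻¹' (Scheme.Opens.ι S₀ ⁻¹' O) = Limits.Sigma.desc o ⁻¹' (p ⁻¹' O) := by
      have : Limits.Sigma.desc b ≫ Scheme.Opens.ι S₀ = Limits.Sigma.desc o ≫ p :=
        Sigma.hom_ext _ _ fun k => by rw [Sigma.ι_desc_assoc, Sigma.ι_desc_assoc, ← hb k]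
      ext x
      simp only [Set.mem_preimage, ← Scheme.Hom.comp_apply, this]
    rw [e]
    exact hO.preimage (Limits.Sigma.desc o).continuous
  refine ⟨Scheme.Opens.ι S₀ '' (Scheme.Opens.ι S₀ ⁻¹' O), Set.image_preimage_subset _ _, (Scheme.Opens.ι S₀).isOpenEmbedding.isOpenMap _ hopen,
    ⟨s, hsS₀⟩, hs, rfl⟩

theorem Fpqc.epi_of (p : X ⟶ S) [Fpqc p] : Epi p := inferInstance

end DescLib
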