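import Groth.Agent.DescLib.Main
import Mathlib.AlgebraicGeometry.Morphisms.Finite
import Mathlib.AlgebraicGeometry.Morphisms.QuasiFinite

/-!
# Effective descent along finite locally free morphisms
-/

set_option autoImplicit false
set_option linter.style.haveILetI false
set_option backward.isDefEq.respectTransparency false
set_option backward.isDefEq.respectTransparency.types false

universe u

open CategoryTheory CategoryTheory.Limits AlgebraicGeometry TopologicalSpace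

namespace DescLib

open Desc

variable {X S : Scheme.{u}} {p : X ⟶ S} (D : SchDD p)

/-- The action morphism `V ×_S X → V` of a descent datum. -/
theorem exists_act : ∃ (d : pullback (D.obj.hom ≫ p) p ⟶ D.obj.left)
    (σ : pullback (D.obj.hom ≫ p) p ≅ pullback (D.obj.hom ≫ p) p),
    Rel D (pullback.fst _ _) d ∧ d ≫ D.obj.hom = pullback.snd _ _ ∧ σ.hom ≫ pullback.fst _ _ = d ∧
      σ.hom ≫ d = pullback.fst _ _ ∧
      ∀ {T : Scheme.{u}} {a b : T ⟶ D.obj.left} (z : T ⟶ pullback (D.obj.hom ≫ p) p),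
        z ≫ pullback.fst _ _ = a → z ≫ pullback.snd _ _ = b ≫ D.obj.hom → Rel D a b → z ≫ d = b := by
  let fst := pullback.fst (D.obj.hom ≫ p) p
  let snd := pullback.snd (D.obj.hom ≫ p) p
  obtain ⟨d, hd, hdr⟩ := exists_rel fst snd (by rw [Category.assoc, pullback.condition])
  have hz : ∀ {T : Scheme.{u}} {a b : T ⟶ D.obj.left} (z : T ⟶ pullback (D.obj.hom ≫ p) p),
      z ≫ fst = a → z ≫ snd = b ≫ D.obj.hom → Rel D a b → z ≫ d = b := by
    intro T a b z h₁ h₂ r
    have h := hdr.comp z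
    rw [h₁] at h
    exact (h.symm.trans r).eq (by rw [Category.assoc, hd]; exact h₂)
  let σ : pullback (D.obj.hom ≫ p) p ⟶ pullback (D.obj.hom ≫ p) p :=
    pullback.lift d (fst ≫ D.obj.hom) (by rw [← Category.assoc d, hd, Category.assoc]; exact pullback.condition.symm)
  have hσ₁ : σ ≫ fst = d := pullback.lift_fst _ _ _
  have hσ₂ : σ ≫ snd = fst ≫ D.obj.hom := pullback.lift_snd _ _ _
  have hσd : σ ≫ d = fst := hz σ hσ₁ hσ₂ hdr.symm
  have hσσ : σ ≫ σ = 𝟙 _ := pullback.hom_ext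
    (by change (σ ≫ σ) ≫ fst = 𝟙 _ ≫ fst; rw [Category.assoc, hσ₁, hσd, Category.id_comp])
    (by change (σ ≫ σ) ≫ snd = 𝟙 _ ≫ snd
        rw [Category.assoc, hσ₂, ← Category.assoc, hσ₁, hd, Category.id_comp])
  exact ⟨d, ⟨σ, σ, hσσ, hσσ⟩, hdr, hd, hσ₁, hσd, hz⟩

/-- Saturation is stable. -/
theorem stable_sat (d : pullback (D.obj.hom ≫ p) p ⟶ D.obj.left) (hdr : Rel D (pullback.fst _ _) d)
    (hz : ∀ {T : Scheme.{u}} {a b : T ⟶ D.obj.left} (z : T ⟶ pullback (D.obj.hom ≫ p) p),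
        z ≫ pullback.fst _ _ = a → z ≫ pullback.snd _ _ = b ≫ D.obj.hom → Rel D a b → z ≫ d = b)
    (A : Set D.obj.left) : Stable D (d '' (pullback.fst (D.obj.hom ≫ p) p ⁻¹' A)) := by
  let fst := pullback.fst (D.obj.hom ≫ p) p
  rintro T a b r t ⟨y, hy, hyt⟩
  let z := pullback.lift (f := D.obj.hom ≫ p) (g := p) a (b ≫ D.obj.hom) (by rw [← Category.assoc]; exact r.1)
  have hza : z ≫ fst = a := pullback.lift_fst _ _ _
  obtain ⟨w, hw₁, hw₂⟩ := Scheme.Pullback.exists_preimage_pullback (f := d) (g := fst) y (z t)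
    (by rw [hyt, ← Scheme.Hom.comp_apply z fst, hza])
  let q₁ := pullback.fst d fst
  let q₂ := pullback.snd d fst
  have r₁ := hdr.comp q₁
  have r₂ := hdr.comp q₂
  rw [← pullback.condition] at r₂
  have r₁₂ := r₁.trans r₂
  let ρ := pullback.lift (f := D.obj.hom ≫ p) (g := p) (q₁ ≫ fst) ((q₂ ≫ d) ≫ D.obj.hom)
    (by rw [← Category.assoc]; exact r₁₂.1)
  have hρd : ρ ≫ d = q₂ ≫ d := hz ρ (pullback.lift_fst _ _ _) (pullback.lift_snd _ _ _) r₁₂
  refine ⟨ρ w, ?_, ?_⟩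
  · change fst (ρ w) ∈ A
    rw [← Scheme.Hom.comp_apply ρ fst, show ρ ≫ fst = q₁ ≫ fst from pullback.lift_fst _ _ _,
      Scheme.Hom.comp_apply, hw₁]
    exact hy
  · rw [← Scheme.Hom.comp_apply, hρd, Scheme.Hom.comp_apply, hw₂, ← Scheme.Hom.comp_apply,
      hz z hza (pullback.lift_snd _ _ _) r]

/-- Every point whose fibre over the base is finite-affine has a stable quasi-affine neighbourhood. -/
theorem exists_stable_quasiAffine [IsFinite p] [Flat p] [LocallyOfFinitePresentation p]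
    (hV : ∀ (v : D.obj.left) (d : pullback (D.obj.hom ≫ p) p ⟶ D.obj.left),
      d ≫ D.obj.hom = pullback.snd _ _ → ∃ U : D.obj.left.Opens, IsAffineOpen U ∧
        d '' (pullback.fst (D.obj.hom ≫ p) p ⁻¹' {v}) ⊆ (U : Set D.obj.left)) (S₀ : S.Opens) (v : D.obj.left)
    (hv : p (D.obj.hom v) ∈ S₀) :
    ∃ W : D.obj.left.Opens, v ∈ W ∧ W.toScheme.IsQuasiAffine ∧ Stable D (W : Set D.obj.left) ∧
      W ≤ (D.obj.hom ≫ p) ⁻¹ᵁ S₀ := by
  obtain ⟨d, σ, hdr, hd, hσ₁, hσd, hz⟩ := exists_act D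
  let fst := pullback.fst (D.obj.hom ≫ p) p
  haveI : IsFinite fst := MorphismProperty.pullback_fst _ _ ‹_›
  haveI : UniversallyOpen p := inferInstance
  haveI : UniversallyOpen fst := MorphismProperty.pullback_fst _ _ ‹_›
  let s := pullback.lift (f := D.obj.hom ≫ p) (g := p) (𝟙 D.obj.left) D.obj.hom (Category.id_comp _)
  have hs : s ≫ fst = 𝟙 _ := pullback.lift_fst _ _ _
  have hsd : s ≫ d = 𝟙 _ := hz s hs ((pullback.lift_snd _ _ _).trans (Category.id_comp _).symm) (Rel.refl _)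
  have hself : ∀ A : Set D.obj.left, A ⊆ d '' (fst ⁻¹' A) := fun A x hx => ⟨s x, by
    change fst (s x) ∈ A
    rw [← Scheme.Hom.comp_apply, hs]; exact hx, by rw [← Scheme.Hom.comp_apply, hsd]; rfl⟩
  obtain ⟨U, hU, horb⟩ := hV v d hd
  let O : D.obj.left.Opens := U ⊓ (D.obj.hom ≫ p) ⁻¹ᵁ S₀
  let E : Set D.obj.left := d '' (fst ⁻¹' (O : Set D.obj.left)ᶜ)
  have hEst : Stable D E := stable_sat D d hdr hz _
  have hdclosed : IsClosedMap d := by
    rw [← hσ₁]
    exact (σ.hom ≫ fst).isClosedMap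
  have hEc : IsClosed E := hdclosed _ (O.2.isClosed_compl.preimage fst.continuous)
  have hvE : v ∉ E := by
    rintro ⟨y, hy, hyv⟩
    refine hy ?_
    have hmem : fst (σ.hom y) = v := by rw [← Scheme.Hom.comp_apply, hσ₁, hyv]
    have hin : fst y ∈ d '' (fst ⁻¹' {v}) := ⟨σ.hom y, hmem, by rw [← Scheme.Hom.comp_apply, hσd]⟩
    refine ⟨horb hin, ?_⟩
    change (D.obj.hom ≫ p) (fst y) ∈ S₀
    rw [← Scheme.Hom.comp_apply, pullback.condition, ← hd, Category.assoc, Scheme.Hom.comp_apply, hyv,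
      Scheme.Hom.comp_apply]
    exact hv
  obtain ⟨W₀, hW₀, hvW₀, hW₀E⟩ := Opens.isBasis_iff_nbhd.mp D.obj.left.isBasis_affineOpens
    (show v ∈ (⟨Eᶜ, hEc.isOpen_compl⟩ : D.obj.left.Opens) from hvE)
  have hdopen : IsOpenMap d := by
    rw [← hσ₁]
    exact (σ.hom ≫ fst).isOpenMap
  let W : D.obj.left.Opens := ⟨d '' (fst ⁻¹' (W₀ : Set D.obj.left)), hdopen _ (W₀.2.preimage fst.continuous)⟩
  have hWO : W ≤ O := by
    rintro _ ⟨y, hy, rfl⟩
    by_contra hcon
    exact hW₀E hy (hEst d fst hdr.symm y (hself _ hcon))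
  haveI : IsAffine U.toScheme := hU
  have hWc : IsCompact (W : Set D.obj.left) :=
    (fst.isCompact_preimage (IsAffineOpen.isCompact hW₀)).image d.continuous
  haveI : CompactSpace W.toScheme := isCompact_iff_compactSpace.mp hWc
  exact ⟨W, hself _ hvW₀, Scheme.IsQuasiAffine.of_isImmersion (D.obj.left.homOfLE (hWO.trans inf_le_left)),
    stable_sat D d hdr hz _, hWO.trans inf_le_right⟩

/-- Descent along finite locally free morphisms, orbits lying in affine opens. -/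
theorem effective_of_finLocFree_orbit [Surjective p] [IsFinite p] [Flat p] [LocallyOfFinitePresentation p]
    (hV : ∀ (v : D.obj.left) (d : pullback (D.obj.hom ≫ p) p ⟶ D.obj.left),
      d ≫ D.obj.hom = pullback.snd _ _ → ∃ U : D.obj.left.Opens, IsAffineOpen U ∧
        d '' (pullback.fst (D.obj.hom ≫ p) p ⁻¹' {v}) ⊆ (U : Set D.obj.left)) :
    ∃ U : Over S, Nonempty ((Desc.toDD p).obj U ≅ D) := by
  refine effective_of_forall_good D fun v => ?_
  obtain ⟨S₀, hS₀, hv, -⟩ :=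
    Opens.isBasis_iff_nbhd.mp S.isBasis_affineOpens (Opens.mem_top (p (D.obj.hom v)))
  obtain ⟨W, hvW, hWq, hWst, hWle⟩ := exists_stable_quasiAffine D hV S₀ v hv
  have hc := (isPullback_morphismRestrict p S₀).flip
  haveI : IsAffine (Scheme.Opens.toScheme S₀) := hS₀
  haveI : IsAffine (p ⁻¹ᵁ S₀).toScheme := hS₀.preimage p
  haveI : Surjective (p ∣_ S₀) := MorphismProperty.of_isPullback (P := @Surjective) hc ‹_›
  haveI : Flat (p ∣_ S₀) := MorphismProperty.of_isPullback (P := @Flat) hc ‹_›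
  let D' := pullDD D (p ∣_ S₀) (p ⁻¹ᵁ S₀).ι (Scheme.Opens.ι S₀) hc.w
  let wlift : W.toScheme ⟶ (p ⁻¹ᵁ S₀).toScheme :=
    IsOpenImmersion.lift (p ⁻¹ᵁ S₀).ι (W.ι ≫ D.obj.hom) (by
      rintro _ ⟨y, rfl⟩
      rw [Scheme.Opens.range_ι, Scheme.Hom.comp_apply]
      exact hWle y.2)
  let j : W.toScheme ⟶ D'.obj.left :=
    pullback.lift (f := D.obj.hom) (g := (p ⁻¹ᵁ S₀).ι) W.ι wlift (IsOpenImmersion.lift_fac _ _ _).symm
  have hj : j ≫ pullFst (D := D) (w := hc.w) = W.ι := pullback.lift_fst _ _ _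
  haveI : IsOpenImmersion (j ≫ pullFst (D := D) (w := hc.w)) := hj ▸ inferInstance
  haveI : IsOpenImmersion (pullFst (D := D) (w := hc.w)) :=
    inferInstanceAs (IsOpenImmersion (pullback.fst D.obj.hom (p ⁻¹ᵁ S₀).ι))
  haveI : IsOpenImmersion j := IsOpenImmersion.of_comp j (pullFst (D := D) (w := hc.w))
  have hjst : Stable D' (Set.range j) := by
    rintro T a b r t ⟨y, hy⟩
    have h := hWst _ _ ((rel_pull a b).1 r).2 t (by
      rw [Scheme.Hom.comp_apply, ← hy, ← Scheme.Hom.comp_apply, hj]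
      exact y.2)
    refine ⟨⟨_, h⟩, (pullFst (D := D) (w := hc.w)).isOpenEmbedding.injective ?_⟩
    rw [← Scheme.Hom.comp_apply, hj]
    exact Scheme.Hom.comp_apply _ _ _
  haveI := hWq
  obtain ⟨U, g, q, hq⟩ := exists_isQuot_of_quasiAffine D' (j := j) hjst
  have hq' := hq.of_pull hc
  rw [hj] at hq'
  exact ⟨W, hvW, hWst, U, _, q, hq'⟩

/-- Descent along finite locally free morphisms, fibres lying in affine opens. -/
theorem effective_of_finLocFree [Surjective p] [IsFinite p] [Flat p] [LocallyOfFinitePresentation p]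
    (hV : ∀ (y : S) (s : Finset D.obj.left), (∀ v ∈ s, p (D.obj.hom v) = y) →
      ∃ U : D.obj.left.Opens, IsAffineOpen U ∧ ∀ v ∈ s, v ∈ U) :
    ∃ U : Over S, Nonempty ((Desc.toDD p).obj U ≅ D) := by
  refine effective_of_finLocFree_orbit D fun v d hd => ?_
  haveI : IsFinite (pullback.fst (D.obj.hom ≫ p) p) := MorphismProperty.pullback_fst _ _ ‹_›
  have hfin := (pullback.fst (D.obj.hom ≫ p) p).finite_preimage_singleton v
  obtain ⟨U, hU, h⟩ := hV (p (D.obj.hom v)) (hfin.image d).toFinset (fun x hx => by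
    obtain ⟨y, hy, rfl⟩ := (Set.Finite.mem_toFinset _).mp hx
    rw [← Scheme.Hom.comp_apply, ← Scheme.Hom.comp_apply, ← Category.assoc, hd, ← pullback.condition,
      Scheme.Hom.comp_apply, show pullback.fst (D.obj.hom ≫ p) p y = v from hy, Scheme.Hom.comp_apply])
  exact ⟨U, hU, fun x hx => h x ((Set.Finite.mem_toFinset _).mpr hx)⟩

end DescLib
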