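import Groth.Agent.DescLib.Aff

/-!
# Reduction of effective descent to the affine case
-/

set_option autoImplicit false
set_option linter.style.haveILetI false
set_option backward.isDefEq.respectTransparency false
set_option backward.isDefEq.respectTransparency.types false

universe u

open CategoryTheory CategoryTheory.Limits AlgebraicGeometry TopologicalSpace

namespace DescLib

open Desc

variable {X S : Scheme.{u}} {p : X ⟶ S} (D : SchDD p)

theorem exists_isQuot_of_effective (h : ∃ U : Over S, Nonempty ((Desc.toDD p).obj U ≅ D)) :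
    ∃ (U : Scheme.{u}) (g : U ⟶ S) (q : D.obj.left ⟶ U), IsQuot D (𝟙 _) g q := by
  obtain ⟨U, ⟨e⟩⟩ := h
  haveI : IsOpenImmersion (𝟙 D : D ⟶ D).hom.left := inferInstanceAs (IsOpenImmersion (𝟙 D.obj.left))
  obtain ⟨q, hq⟩ := exists_isQuot_of_hom (𝟙 D) e
  exact ⟨_, _, q, hq⟩

theorem good_of_refinement {S₀ : S.Opens} {X' : Scheme.{u}} {r : X' ⟶ X} {p' : X' ⟶ S₀.toScheme} [Fpqc p']
    (w : r ≫ p = p' ≫ S₀.ι)
    (h : ∃ U : Over S₀.toScheme, Nonempty ((Desc.toDD p').obj U ≅ pullDD D p' r S₀.ι w)) :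
    Good D ((D.obj.hom ≫ p) ⁻¹ᵁ S₀) := by
  obtain ⟨U, g, q', hq'⟩ := exists_isQuot_of_effective _ h
  obtain ⟨q, hq⟩ := exists_isQuot_of_refine (D := D)
    (isPullback_morphismRestrict (D.obj.hom ≫ p) S₀).flip hq'
  exact ⟨stable_base (S₀ : Set S), U, g ≫ S₀.ι, q, hq⟩

/-- Effectivity of descent is reduced to refinements by morphisms of affine schemes. -/
theorem effective_of_refinements [Fpqc p]
    (h : ∀ S₀ : S.Opens, IsAffineOpen S₀ → ∃ (X' : Scheme.{u}) (r : X' ⟶ X) (p' : X' ⟶ S₀.toScheme)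
      (_ : Fpqc p') (w : r ≫ p = p' ≫ S₀.ι),
      ∃ U : Over S₀.toScheme, Nonempty ((Desc.toDD p').obj U ≅ pullDD D p' r S₀.ι w)) :
    ∃ U : Over S, Nonempty ((Desc.toDD p).obj U ≅ D) := by
  refine effective_of_forall_good D fun v => ?_
  obtain ⟨S₀, hS₀, hv, -⟩ :=
    Opens.isBasis_iff_nbhd.mp S.isBasis_affineOpens (Opens.mem_top ((D.obj.hom ≫ p) v))
  obtain ⟨X', r, p', hp', w, hU⟩ := h S₀ hS₀
  exact ⟨(D.obj.hom ≫ p) ⁻¹ᵁ S₀, hv, good_of_refinement D w hU⟩

/-- Effectivity for a class stable under base change is checked on affine schemes. -/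
theorem effective_of_affine_case [Fpqc p] (P : MorphismProperty Scheme.{u}) [P.IsStableUnderBaseChange]
    (hP : P D.obj.hom)
    (h : ∀ (X' S' : Scheme.{u}) (p' : X' ⟶ S'), IsAffine X' → IsAffine S' → Flat p' → Surjective p' →
      ∀ D' : SchDD p', P D'.obj.hom → ∃ U : Over S', Nonempty ((Desc.toDD p').obj U ≅ D')) :
    ∃ U : Over S, Nonempty ((Desc.toDD p).obj U ≅ D) := by
  refine effective_of_refinements D fun S₀ hS₀ => ?_
  obtain ⟨m, a, V, o, b, -, -, hob, haff, hfl, hsurj, hqc⟩ :=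
    exists_affine_refinement (Fpqc.memOfArrows p) hS₀
  have w : Limits.Sigma.desc o ≫ p = Limits.Sigma.desc b ≫ S₀.ι :=
    Sigma.hom_ext _ _ fun k => by rw [Sigma.ι_desc_assoc, Sigma.ι_desc_assoc, hob k]
  exact ⟨_, Limits.Sigma.desc o, Limits.Sigma.desc b, inferInstance, w, h _ _ _ haff hS₀ hfl hsurj _
    (P.pullback_snd _ _ hP)⟩

theorem effective_affine_case [IsAffine X] [IsAffine S] [Flat p] [Surjective p] [D.obj.left.IsQuasiAffine] :
    ∃ U : Over S, Nonempty ((Desc.toDD p).obj U ≅ D) := by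
  haveI : QuasiCompact p := inferInstance
  obtain ⟨U, g, q, hq⟩ := exists_isQuot_of_quasiAffine D (j := 𝟙 D.obj.left)
    (fun T a b _ t _ => ⟨b t, rfl⟩)
  exact effective_of_isQuot hq

theorem effective_of_isAffineHom [Fpqc p] [IsAffineHom D.obj.hom] :
    ∃ U : Over S, Nonempty ((Desc.toDD p).obj U ≅ D) := by
  refine effective_of_affine_case D @IsAffineHom ‹_› fun X' S' p' hX hS hfl hsurj D' hP => ?_
  haveI : IsAffine D'.obj.left := @isAffine_of_isAffineHom _ _ D'.obj.hom hP hX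
  exact effective_affine_case D'

theorem effective_of_isOpenImmersion [Fpqc p] [IsOpenImmersion D.obj.hom] :
    ∃ U : Over S, Nonempty ((Desc.toDD p).obj U ≅ D) := by
  obtain ⟨U, g, q, hq⟩ := exists_isQuot_of_isOpenImmersion D
  exact effective_of_isQuot hq

end DescLib
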