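import Groth.Agent.DescLib.Main
import Mathlib.AlgebraicGeometry.Limits

/-!
# Descent data relative to a family and relative to the coproduct
-/

set_option autoImplicit false
set_option linter.style.haveILetI false
set_option backward.isDefEq.respectTransparency false
set_option backward.isDefEq.respectTransparency.types false

universe v u

open CategoryTheory CategoryTheory.Limits AlgebraicGeometry TopologicalSpace

namespace DescLib

open Desc

/-- Two factorizations through different summands live on the empty scheme. -/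
theorem idx_eq {κ : Type u} {Z : κ → Scheme.{u}} {T : Scheme.{u}} [hT : Nonempty T] {i j : κ} (a : T ⟶ Z i)
    (b : T ⟶ Z j) (h : a ≫ Sigma.ι Z i = b ≫ Sigma.ι Z j) : i = j := by
  by_contra hne
  exact (isEmpty_of_commSq_sigmaι_of_ne ⟨h⟩ hne).false hT.some

theorem hom_ext_isEmpty {T Y : Scheme.{u}} [IsEmpty T] (a b : T ⟶ Y) : a = b := isInitialOfIsEmpty.hom_ext a b

theorem exists_sigma_mem {κ : Type v} [Small.{u} κ] {Z : κ → Scheme.{u}} (x : (∐ Z : Scheme.{u})) :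
    ∃ i z, Sigma.ι Z i z = x := by
  obtain ⟨z, hz⟩ := (sigmaOpenCover Z).covers x
  exact ⟨(sigmaOpenCover Z).idx x, z, hz⟩

theorem isPullback_sigmaι_map {κ : Type v} [Small.{u} κ] {V X : κ → Scheme.{u}} (π : ∀ i, V i ⟶ X i) (i : κ) :
    IsPullback (π i) (Sigma.ι V i) (Sigma.ι X i) (Limits.Sigma.map π) := by
  refine IsOpenImmersion.isPullback _ _ _ _ (Sigma.ι_map π i) (Opens.ext (Set.ext fun v => ⟨?_, ?_⟩))
  · rintro ⟨x, hx⟩
    obtain ⟨k, y, rfl⟩ := exists_sigma_mem v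
    change Sigma.ι X i x = _ at hx
    rw [← Scheme.Hom.comp_apply, Sigma.ι_map, Scheme.Hom.comp_apply] at hx
    obtain rfl : i = k := congrArg Sigma.fst ((sigmaι_eq_iff _ _ _ _ _).mp hx)
    exact ⟨y, rfl⟩
  · rintro ⟨y, rfl⟩
    exact ⟨π i y, by rw [← Scheme.Hom.comp_apply, ← Scheme.Hom.comp_apply, Sigma.ι_map]⟩

theorem property_sigmaMap (P : MorphismProperty Scheme.{u}) [IsZariskiLocalAtTarget P] {κ : Type v} [Small.{u} κ]
    {V X : κ → Scheme.{u}} (π : ∀ i, V i ⟶ X i) (h : ∀ i, P (π i)) : P (Limits.Sigma.map π) := by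
  refine IsZariskiLocalAtTarget.of_openCover (sigmaOpenCover X) fun (i : κ) => ?_
  change P (pullback.snd (Limits.Sigma.map π) (Sigma.ι X i))
  rw [← (isPullback_sigmaι_map π i).flip.isoPullback_inv_snd, MorphismProperty.cancel_left_of_respectsIso P]
  exact h i

/-- A coproduct of cartesian squares over a coproduct. -/
theorem isPullback_sigma {κ : Type v} [Small.{u} κ] {W Z : κ → Scheme.{u}} {V X : Scheme.{u}} {π : V ⟶ X} (r : ∀ k, W k ⟶ X)
    (fst : ∀ k, Z k ⟶ V) (snd : ∀ k, Z k ⟶ W k) (h : ∀ k, IsPullback (fst k) (snd k) π (r k)) :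
    IsPullback (Limits.Sigma.desc fst) (Limits.Sigma.map snd) π (Limits.Sigma.desc r) := by
  have hw : Limits.Sigma.desc fst ≫ π = Limits.Sigma.map snd ≫ Limits.Sigma.desc r :=
    Sigma.hom_ext _ _ fun k => by
      rw [Sigma.ι_desc_assoc, Sigma.ι_map_assoc, Sigma.ι_desc]
      exact (h k).w
  let k₀ : (∐ Z) ⟶ pullback π (Limits.Sigma.desc r) :=
    pullback.lift (Limits.Sigma.desc fst) (Limits.Sigma.map snd) hw
  let Ps := pullback.snd π (Limits.Sigma.desc r)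
  haveI : IsIso k₀ := by
    refine IsZariskiLocalAtTarget.of_openCover (P := MorphismProperty.isomorphisms Scheme)
      ((sigmaOpenCover W).pullback₁ Ps) fun (k : κ) => ?_
    change IsIso (pullback.snd k₀ (pullback.fst Ps (Sigma.ι W k)))
    have rig := (IsPullback.of_hasPullback Ps (Sigma.ι W k)).flip
    have hbig : IsPullback (pullback.fst Ps (Sigma.ι W k) ≫ pullback.fst π (Limits.Sigma.desc r))
        (pullback.snd Ps (Sigma.ι W k)) π (r k) := by
      rw [← Sigma.ι_desc r k]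
      exact (rig.flip.paste_horiz (IsPullback.of_hasPullback π (Limits.Sigma.desc r)))
    let e := (h k).isoIsPullback _ _ hbig
    have e₁ : e.hom ≫ pullback.fst Ps (Sigma.ι W k) ≫ pullback.fst π (Limits.Sigma.desc r) = fst k :=
      IsPullback.isoIsPullback_hom_fst _ _ _ _
    have e₂ : e.hom ≫ pullback.snd Ps (Sigma.ι W k) = snd k := IsPullback.isoIsPullback_hom_snd _ _ _ _
    have comm : Sigma.ι Z k ≫ k₀ = e.hom ≫ pullback.fst Ps (Sigma.ι W k) := by
      apply pullback.hom_ext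
      · rw [Category.assoc, Category.assoc, pullback.lift_fst, Sigma.ι_desc, e₁]
      · rw [Category.assoc, Category.assoc, pullback.lift_snd, Sigma.ι_map, pullback.condition,
          reassoc_of% e₂]
    have big : IsPullback (e.hom ≫ pullback.snd Ps (Sigma.ι W k)) (Sigma.ι Z k) (Sigma.ι W k) (k₀ ≫ Ps) := by
      rw [e₂, pullback.lift_snd]
      exact isPullback_sigmaι_map snd k
    have sq := (IsPullback.of_right big comm.symm rig).flip
    rw [← sq.isoPullback_inv_snd]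
    infer_instance
  exact (IsPullback.of_hasPullback π (Limits.Sigma.desc r)).of_iso (asIso k₀).symm (Iso.refl _) (Iso.refl _)
    (Iso.refl _) (by simp [k₀]) (by simp [k₀]) (by simp) (by simp)

variable {ι : Type u} {S : Scheme.{u}} {X : ι → Scheme.{u}} {f : ∀ i, X i ⟶ S}

theorem fpqc_sigmaDesc (hf : Presieve.ofArrows X f ∈ Scheme.fpqcPrecoverage S) :
    Fpqc (Limits.Sigma.desc f) := by
  let E : PreZeroHypercover.{u} S := ⟨ι, X, f⟩
  let F : PreZeroHypercover.{u} S := ⟨PUnit, fun _ => ∐ X, fun _ => Limits.Sigma.desc f⟩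
  haveI : QuasiCompactCover E := Scheme.presieve₀_mem_qcPrecoverage_iff.mp hf.1
  let φ : E.Hom F := ⟨fun _ => PUnit.unit, Sigma.ι X, fun i => Sigma.ι_desc _ _⟩
  haveI : QuasiCompactCover F := QuasiCompactCover.of_hom φ
  refine Fpqc.of_memOfArrows _ ⟨Scheme.presieve₀_mem_qcPrecoverage_iff.mpr ‹QuasiCompactCover F›, ?_⟩
  refine (Scheme.ofArrows_mem_precoverage_iff _).mpr ⟨fun s => ?_, fun _ => ?_⟩
  · obtain ⟨i, x, rfl⟩ := ofArrows_surj hf s
    exact ⟨PUnit.unit, Sigma.ι X i x, by rw [← Scheme.Hom.comp_apply, Sigma.ι_desc]⟩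
  · refine IsZariskiLocalAtSource.of_openCover (P := @Flat) (sigmaOpenCover X) fun (i : ι) => ?_
    change Flat (Sigma.ι X i ≫ Limits.Sigma.desc f)
    rw [Sigma.ι_desc]
    exact ofArrows_flat hf i

section
variable (E : SchDDFam f)

/-- The scheme over `∐ X` of a datum relative to the family. -/
noncomputable abbrev sObj : Over (∐ X) := Over.mk (Limits.Sigma.map fun i => (E.obj i).hom)

/-- Related points of the coproduct. -/
def RelF {T : Scheme.{u}} (a b : T ⟶ (sObj E).left) : Prop :=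
  (a ≫ (sObj E).hom) ≫ Limits.Sigma.desc f = (b ≫ (sObj E).hom) ≫ Limits.Sigma.desc f ∧
    ∀ (T' : Scheme.{u}) (g : T' ⟶ T) (i j : ι) (a' : T' ⟶ (E.obj i).left) (b' : T' ⟶ (E.obj j).left),
      a' ≫ Sigma.ι (fun i => (E.obj i).left) i = g ≫ a → b' ≫ Sigma.ι (fun i => (E.obj i).left) j = g ≫ b →
      ∃ h : (a' ≫ (E.obj i).hom) ≫ f i = (b' ≫ (E.obj j).hom) ≫ f j,
        (E.φ _ _ h ⟨a', rfl⟩).1 = b'

variable {E}

theorem famφ_congr {T : Scheme.{u}} {i j : ι} {x₀ y₀ : T ⟶ X i} {x₁ y₁ : T ⟶ X j} (e₀ : x₀ = y₀) (e₁ : x₁ = y₁)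
    (h : x₀ ≫ f i = x₁ ≫ f j) (h' : y₀ ≫ f i = y₁ ≫ f j) (v : Lifts (E.obj i) x₀) (w : Lifts (E.obj i) y₀)
    (e : v.1 = w.1) : (E.φ x₀ x₁ h v).1 = (E.φ y₀ y₁ h' w).1 := by
  subst e₀ e₁
  obtain rfl : v = w := Subtype.ext e
  rfl

theorem base_eq {T : Scheme.{u}} {i : ι} {a' : T ⟶ (E.obj i).left} {a : T ⟶ (sObj E).left}
    (h : a' ≫ Sigma.ι (fun i => (E.obj i).left) i = a) :
    (a ≫ (sObj E).hom) ≫ Limits.Sigma.desc f = (a' ≫ (E.obj i).hom) ≫ f i := by
  subst h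
  simp

theorem exists_cover_pieces {T : Scheme.{u}} (a : T ⟶ (sObj E).left) (t : T) :
    ∃ i, t ∈ a ⁻¹ᵁ (Sigma.ι (fun i => (E.obj i).left) i).opensRange := by
  obtain ⟨i, z, hz⟩ := exists_sigma_mem (a t)
  exact ⟨i, z, hz⟩

theorem RelF.refl {T : Scheme.{u}} (a : T ⟶ (sObj E).left) : RelF E a a := by
  refine ⟨rfl, fun T' g i j a' b' ha hb => ?_⟩
  have h : (a' ≫ (E.obj i).hom) ≫ f i = (b' ≫ (E.obj j).hom) ≫ f j := by
    rw [← base_eq ha, ← base_eq hb]
  refine ⟨h, ?_⟩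
  rcases isEmpty_or_nonempty T' with hT | hT
  · exact hom_ext_isEmpty _ _
  · obtain rfl := idx_eq (Z := fun i => (E.obj i).left) a' b' (ha.trans hb.symm)
    obtain rfl := (cancel_mono _).1 (ha.trans hb.symm)
    exact congrArg Subtype.val (E.φ_self _ _)

theorem RelF.symm {T : Scheme.{u}} {a b : T ⟶ (sObj E).left} (r : RelF E a b) : RelF E b a := by
  refine ⟨r.1.symm, fun T' g i j a' b' ha hb => ?_⟩
  obtain ⟨h, e⟩ := r.2 T' g j i b' a' hb ha
  refine ⟨h.symm, ?_⟩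
  rw [show (⟨a', rfl⟩ : Lifts (E.obj i) (a' ≫ (E.obj i).hom)) = E.φ _ _ h ⟨b', rfl⟩ from Subtype.ext e.symm,
    E.φ_comp]
  exact congrArg Subtype.val (E.φ_self _ _)

theorem RelF.comp {T T' : Scheme.{u}} {a b : T ⟶ (sObj E).left} (r : RelF E a b) (g : T' ⟶ T) :
    RelF E (g ≫ a) (g ≫ b) :=
  ⟨by simpa only [Category.assoc] using congrArg (g ≫ ·) r.1, fun T'' g' i j a' b' ha hb =>
    r.2 T'' (g' ≫ g) i j a' b' (ha.trans (Category.assoc _ _ _).symm) (hb.trans (Category.assoc _ _ _).symm)⟩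

theorem RelF.trans {T : Scheme.{u}} {a b c : T ⟶ (sObj E).left} (r : RelF E a b) (r' : RelF E b c) :
    RelF E a c := by
  refine ⟨r.1.trans r'.1, fun T' g i k a' c' ha hc => ?_⟩
  have h : (a' ≫ (E.obj i).hom) ≫ f i = (c' ≫ (E.obj k).hom) ≫ f k := by
    rw [← base_eq ha, ← base_eq hc, Category.assoc, Category.assoc, Category.assoc, Category.assoc]
    exact congrArg (g ≫ ·) (by simpa only [Category.assoc] using r.1.trans r'.1)
  refine ⟨h, (T'.openCoverOfIsOpenCover (fun j : ι => (g ≫ b) ⁻¹ᵁ (Sigma.ι (fun i => (E.obj i).left) j).opensRange)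
    (IsOpenCover.mk (eq_top_iff.mpr fun t _ => Opens.mem_iSup.mpr (exists_cover_pieces (g ≫ b) t)))).hom_ext _ _
    fun (j : ι) => ?_⟩
  let O := (g ≫ b) ⁻¹ᵁ (Sigma.ι (fun i => (E.obj i).left) j).opensRange
  change O.ι ≫ _ = O.ι ≫ _
  let b' := IsOpenImmersion.lift (Sigma.ι (fun i => (E.obj i).left) j) (O.ι ≫ g ≫ b)
    (by rintro _ ⟨z, rfl⟩; exact z.2)
  have hb : b' ≫ _ = O.ι ≫ g ≫ b := IsOpenImmersion.lift_fac _ _ _
  obtain ⟨h₁, e₁⟩ := r.2 O (O.ι ≫ g) i j (O.ι ≫ a') b' (by rw [Category.assoc, ha, Category.assoc])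
    (by rw [hb, Category.assoc])
  obtain ⟨h₂, e₂⟩ := r'.2 O (O.ι ≫ g) j k b' (O.ι ≫ c') (by rw [hb, Category.assoc])
    (by rw [Category.assoc, hc, Category.assoc])
  rw [show (⟨b', rfl⟩ : Lifts (E.obj j) (b' ≫ (E.obj j).hom)) = E.φ _ _ h₁ ⟨O.ι ≫ a', rfl⟩ from
    Subtype.ext e₁.symm, E.φ_comp] at e₂
  rw [← e₂]
  symm
  exact E.φ_natural O.ι (a' ≫ (E.obj i).hom) (c' ≫ (E.obj k).hom) h _ _
    (Category.assoc _ _ _).symm (Category.assoc _ _ _).symm (h₁.trans h₂) ⟨a', rfl⟩ ⟨O.ι ≫ a', rfl⟩ rfl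

theorem RelF.eq {T : Scheme.{u}} {a b : T ⟶ (sObj E).left} (r : RelF E a b)
    (e : a ≫ (sObj E).hom = b ≫ (sObj E).hom) : a = b := by
  refine (T.openCoverOfIsOpenCover (fun i : ι => a ⁻¹ᵁ (Sigma.ι (fun i => (E.obj i).left) i).opensRange)
    (IsOpenCover.mk (eq_top_iff.mpr fun t _ => Opens.mem_iSup.mpr (exists_cover_pieces a t)))).hom_ext _ _
    fun (i : ι) => ?_
  let O := a ⁻¹ᵁ (Sigma.ι (fun i => (E.obj i).left) i).opensRange
  change O.ι ≫ a = O.ι ≫ b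
  let a' := IsOpenImmersion.lift (Sigma.ι (fun i => (E.obj i).left) i) (O.ι ≫ a) (by rintro _ ⟨z, rfl⟩; exact z.2)
  have ha : a' ≫ _ = O.ι ≫ a := IsOpenImmersion.lift_fac _ _ _
  have sq := isPullback_sigmaι_map (fun i => (E.obj i).hom) i
  have hx : (a' ≫ (E.obj i).hom) ≫ Sigma.ι X i = (O.ι ≫ b) ≫ (sObj E).hom := by
    rw [Category.assoc O.ι b, ← e, ← Category.assoc O.ι a, ← ha]
    change _ = (a' ≫ _) ≫ Limits.Sigma.map _
    rw [Category.assoc, Category.assoc, Sigma.ι_map]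
  let b' := sq.lift (a' ≫ (E.obj i).hom) (O.ι ≫ b) hx
  have hb : b' ≫ _ = O.ι ≫ b := sq.lift_snd _ _ _
  have hbπ : b' ≫ (E.obj i).hom = a' ≫ (E.obj i).hom := sq.lift_fst _ _ _
  obtain ⟨h, e'⟩ := r.2 O O.ι i i a' b' ha hb
  rw [← ha, ← hb, ← e', famφ_congr rfl hbπ h rfl ⟨a', rfl⟩ ⟨a', rfl⟩ rfl, E.φ_self]

theorem exists_relF {T : Scheme.{u}} (a : T ⟶ (sObj E).left) (x : T ⟶ ∐ X)
    (h : (a ≫ (sObj E).hom) ≫ Limits.Sigma.desc f = x ≫ Limits.Sigma.desc f) :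
    ∃ b, b ≫ (sObj E).hom = x ∧ RelF E a b := by
  let O : ι × ι → T.Opens := fun k =>
    a ⁻¹ᵁ (Sigma.ι (fun i => (E.obj i).left) k.1).opensRange ⊓ x ⁻¹ᵁ (Sigma.ι X k.2).opensRange
  have hO : IsOpenCover O := IsOpenCover.mk (eq_top_iff.mpr fun t _ => by
    obtain ⟨i, hi⟩ := exists_cover_pieces a t
    obtain ⟨j, z, hz⟩ := exists_sigma_mem (x t)
    exact Opens.mem_iSup.mpr ⟨(i, j), hi, ⟨z, hz⟩⟩)
  let 𝒰 := T.openCoverOfIsOpenCover O hO
  let a' : ∀ k, (O k).toScheme ⟶ (E.obj k.1).left := fun k =>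
    IsOpenImmersion.lift (Sigma.ι (fun i => (E.obj i).left) k.1) ((O k).ι ≫ a) (by rintro _ ⟨z, rfl⟩; exact z.2.1)
  have ha : ∀ k, a' k ≫ Sigma.ι (fun i => (E.obj i).left) k.1 = (O k).ι ≫ a := fun k =>
    IsOpenImmersion.lift_fac _ _ _
  let x' : ∀ k, (O k).toScheme ⟶ X k.2 := fun k =>
    IsOpenImmersion.lift (Sigma.ι X k.2) ((O k).ι ≫ x) (by rintro _ ⟨z, rfl⟩; exact z.2.2)
  have hx : ∀ k, x' k ≫ Sigma.ι X k.2 = (O k).ι ≫ x := fun k => IsOpenImmersion.lift_fac _ _ _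
  have hk : ∀ k, (a' k ≫ (E.obj k.1).hom) ≫ f k.1 = x' k ≫ f k.2 := fun k => by
    rw [← base_eq (ha k), ← Sigma.ι_desc f k.2, ← Category.assoc (x' k), hx, Category.assoc (O k).ι x, ← h]
    simp only [Category.assoc]
  let v : ∀ k, Lifts (E.obj k.2) (x' k) := fun k => E.φ _ _ (hk k) ⟨a' k, rfl⟩
  let b : T ⟶ (sObj E).left := 𝒰.glueMorphisms (fun k => (v k).1 ≫ Sigma.ι (fun i => (E.obj i).left) k.2)
    fun (k : ι × ι) (l : ι × ι) => by
      change pullback.fst (O k).ι (O l).ι ≫ _ = pullback.snd (O k).ι (O l).ι ≫ _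
      rcases isEmpty_or_nonempty ↥(pullback (O k).ι (O l).ι) with hP | hP
      · exact hom_ext_isEmpty _ _
      · have e₁ : k.1 = l.1 := idx_eq (Z := fun i => (E.obj i).left) (pullback.fst _ _ ≫ a' k) (pullback.snd _ _ ≫ a' l) (by
          rw [Category.assoc, Category.assoc, ha, ha, pullback.condition_assoc])
        have e₂ : k.2 = l.2 := idx_eq (pullback.fst _ _ ≫ x' k) (pullback.snd _ _ ≫ x' l) (by
          rw [Category.assoc, Category.assoc, hx, hx, pullback.condition_assoc])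
        obtain rfl : k = l := Prod.ext e₁ e₂
        rw [(cancel_mono (O k).ι).1 (pullback.condition (f := (O k).ι) (g := (O k).ι))]
  have hb : ∀ k, (O k).ι ≫ b = (v k).1 ≫ Sigma.ι (fun i => (E.obj i).left) k.2 := fun k =>
    𝒰.ι_glueMorphisms _ _ k
  refine ⟨b, 𝒰.hom_ext _ _ fun (k : ι × ι) => ?_, ?_, fun T' g i j a₁ b₁ ha₁ hb₁ => ?_⟩
  · change (O k).ι ≫ b ≫ Limits.Sigma.map _ = (O k).ι ≫ x
    rw [reassoc_of% (hb k), Sigma.ι_map, ← Category.assoc, (v k).2, hx]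
  · refine 𝒰.hom_ext _ _ fun (k : ι × ι) => ?_
    change (O k).ι ≫ _ = (O k).ι ≫ _
    have e₁ := base_eq (hb k).symm
    rw [(v k).2] at e₁
    have e₂ := base_eq (ha k)
    simp only [Category.assoc] at e₁ e₂ hk ⊢
    rw [e₁, e₂, hk]
  · have hbx : b ≫ (sObj E).hom = x := 𝒰.hom_ext _ _ fun (k : ι × ι) => by
      change (O k).ι ≫ b ≫ Limits.Sigma.map _ = (O k).ι ≫ x
      rw [reassoc_of% (hb k), Sigma.ι_map, ← Category.assoc, (v k).2, hx]
    have h' : (a₁ ≫ (E.obj i).hom) ≫ f i = (b₁ ≫ (E.obj j).hom) ≫ f j := by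
      rw [← base_eq ha₁, ← base_eq hb₁, Category.assoc g b, hbx, Category.assoc g a, Category.assoc g,
        Category.assoc g x, h]
    refine ⟨h', (T'.openCoverOfIsOpenCover (fun k => g ⁻¹ᵁ O k) (hO.comap _)).hom_ext _ _
      fun (k : ι × ι) => ?_⟩
    let P := g ⁻¹ᵁ O k
    change P.ι ≫ _ = P.ι ≫ _
    rcases isEmpty_or_nonempty ↥P.toScheme with hP | hP
    · exact hom_ext_isEmpty _ _
    · have hg : P.ι ≫ g = (g ∣_ O k) ≫ (O k).ι := (morphismRestrict_ι _ _).symm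
      have e₁ : i = k.1 := idx_eq (Z := fun i => (E.obj i).left) (P.ι ≫ a₁) ((g ∣_ O k) ≫ a' k) (by
        rw [Category.assoc, Category.assoc, ha₁, ha, reassoc_of% hg])
      have e₂ : j = k.2 := idx_eq (Z := fun i => (E.obj i).left) (P.ι ≫ b₁) ((g ∣_ O k) ≫ (v k).1) (by
        rw [Category.assoc, Category.assoc, hb₁, ← hb, reassoc_of% hg])
      subst e₁ e₂
      have ea : P.ι ≫ a₁ = (g ∣_ O k) ≫ a' k := (cancel_mono (Sigma.ι (fun i => (E.obj i).left) k.1)).1 (by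
        rw [Category.assoc, Category.assoc, ha₁, ha, reassoc_of% hg])
      have eb : P.ι ≫ b₁ = (g ∣_ O k) ≫ (v k).1 := (cancel_mono (Sigma.ι (fun i => (E.obj i).left) k.2)).1 (by
        rw [Category.assoc, Category.assoc, hb₁, ← hb, reassoc_of% hg])
      have hy₀ : (g ∣_ O k) ≫ a' k ≫ (E.obj k.1).hom = P.ι ≫ a₁ ≫ (E.obj k.1).hom := by
        simp only [← Category.assoc, ea]
      have hy₁ : (g ∣_ O k) ≫ x' k = P.ι ≫ b₁ ≫ (E.obj k.2).hom := by
        rw [← Category.assoc, eb, Category.assoc, (v k).2]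
      have hP' : (P.ι ≫ a₁ ≫ (E.obj k.1).hom) ≫ f k.1 = (P.ι ≫ b₁ ≫ (E.obj k.2).hom) ≫ f k.2 := by
        simpa only [Category.assoc] using congrArg (P.ι ≫ ·) h'
      rw [eb, ← E.φ_natural (g ∣_ O k) _ _ (hk k) _ _ hy₀ hy₁ hP' ⟨a' k, rfl⟩
        ⟨P.ι ≫ a₁, Category.assoc _ _ _⟩ ea]
      exact (E.φ_natural P.ι (a₁ ≫ (E.obj k.1).hom) (b₁ ≫ (E.obj k.2).hom) h' _ _ rfl rfl hP' ⟨a₁, rfl⟩
        ⟨P.ι ≫ a₁, Category.assoc _ _ _⟩ rfl).symm

theorem relF_unique {T : Scheme.{u}} {a b b' : T ⟶ (sObj E).left} (r : RelF E a b) (r' : RelF E a b')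
    (e : b ≫ (sObj E).hom = b' ≫ (sObj E).hom) : b = b' :=
  (r.symm.trans r').eq e

variable (E)

/-- The bijection on points of the coproduct. -/
noncomputable def famMap {T : Scheme.{u}} (x₀ x₁ : T ⟶ ∐ X)
    (h : x₀ ≫ Limits.Sigma.desc f = x₁ ≫ Limits.Sigma.desc f) (v : Lifts (sObj E) x₀) : Lifts (sObj E) x₁ :=
  ⟨(exists_relF v.1 x₁ (by rw [v.2, h])).choose, (exists_relF v.1 x₁ (by rw [v.2, h])).choose_spec.1⟩

theorem relF_famMap {T : Scheme.{u}} (x₀ x₁ : T ⟶ ∐ X)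
    (h : x₀ ≫ Limits.Sigma.desc f = x₁ ≫ Limits.Sigma.desc f) (v : Lifts (sObj E) x₀) :
    RelF E v.1 (famMap E x₀ x₁ h v).1 :=
  (exists_relF v.1 x₁ (by rw [v.2, h])).choose_spec.2

/-- The descent datum relative to the coproduct of a datum relative to a family. -/
noncomputable def ofFam : SchDD (Limits.Sigma.desc f) where
  obj := sObj E
  φ T x₀ x₁ h :=
    { toFun := famMap E x₀ x₁ h
      invFun := famMap E x₁ x₀ h.symm
      left_inv := fun v => Subtype.ext (relF_unique ((relF_famMap E _ _ h v).trans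
        (relF_famMap E _ _ h.symm _)) (RelF.refl v.1) ((famMap E _ _ h.symm _).2.trans v.2.symm))
      right_inv := fun v => Subtype.ext (relF_unique ((relF_famMap E _ _ h.symm v).trans
        (relF_famMap E _ _ h _)) (RelF.refl v.1) ((famMap E _ _ h _).2.trans v.2.symm)) }
  φ_natural T T' g x₀ x₁ h h' v v' hv' := by
    have r := relF_famMap E _ _ h' v'
    rw [hv'] at r
    exact relF_unique r ((relF_famMap E _ _ h v).comp g)
      ((famMap E _ _ h' v').2.trans ((congrArg (g ≫ ·) (famMap E x₀ x₁ h v).2).symm.trans (Category.assoc _ _ _).symm))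
  φ_self T x v := Subtype.ext ((relF_famMap E x x rfl v).eq (v.2.trans (famMap E x x rfl v).2.symm)).symm
  φ_comp T x₀ x₁ x₂ h₀₁ h₁₂ v := Subtype.ext (relF_unique
    ((relF_famMap E _ _ h₀₁ v).trans (relF_famMap E _ _ h₁₂ _)) (relF_famMap E _ _ (h₀₁.trans h₁₂) v)
    ((famMap E x₁ x₂ h₁₂ _).2.trans (famMap E x₀ x₂ (h₀₁.trans h₁₂) v).2.symm))

variable {E}

theorem rel_ofFam {T : Scheme.{u}} {a b : T ⟶ (sObj E).left} : Rel (ofFam E) a b ↔ RelF E a b := by
  refine ⟨fun r => ?_, fun r => ⟨r.1, ?_⟩⟩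
  · have := relF_famMap E _ _ r.1 ⟨a, rfl⟩
    rwa [show (famMap E _ _ r.1 ⟨a, rfl⟩).1 = b from r.2] at this
  · exact relF_unique (relF_famMap E _ _ r.1 ⟨a, rfl⟩) r (famMap E _ _ r.1 ⟨a, rfl⟩).2

/-- The relation of the coproduct datum at points of two summands. -/
theorem relF_ι {T : Scheme.{u}} {i j : ι} {x₀ : T ⟶ X i} {x₁ : T ⟶ X j} (h : x₀ ≫ f i = x₁ ≫ f j)
    (v : Lifts (E.obj i) x₀) :
    RelF E (v.1 ≫ Sigma.ι (fun i => (E.obj i).left) i) ((E.φ x₀ x₁ h v).1 ≫ Sigma.ι (fun i => (E.obj i).left) j) := by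
  have h' : (v.1 ≫ (E.obj i).hom) ≫ f i = ((E.φ x₀ x₁ h v).1 ≫ (E.obj j).hom) ≫ f j := by
    rw [v.2, (E.φ x₀ x₁ h v).2, h]
  refine ⟨by rw [base_eq rfl, base_eq rfl, h'], fun T' g i' j' a' b' ha hb => ?_⟩
  have hbase : (a' ≫ (E.obj i').hom) ≫ f i' = (b' ≫ (E.obj j').hom) ≫ f j' := by
    rw [← base_eq ha, ← base_eq hb, Category.assoc g, Category.assoc g, Category.assoc g, Category.assoc g,
      base_eq rfl, base_eq rfl, h']
  refine ⟨hbase, ?_⟩
  rcases isEmpty_or_nonempty T' with hT | hT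
  · exact hom_ext_isEmpty _ _
  · obtain rfl := idx_eq (Z := fun i => (E.obj i).left) a' (g ≫ v.1) (ha.trans (Category.assoc _ _ _).symm)
    obtain rfl := idx_eq (Z := fun i => (E.obj i).left) b' (g ≫ (E.φ x₀ x₁ h v).1) (hb.trans (Category.assoc _ _ _).symm)
    obtain rfl := (cancel_mono _).1 (ha.trans (Category.assoc _ _ _).symm)
    obtain rfl := (cancel_mono _).1 (hb.trans (Category.assoc _ _ _).symm)
    exact E.φ_natural g x₀ x₁ h _ _ (by rw [Category.assoc, v.2])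
      (by rw [Category.assoc, (E.φ x₀ x₁ h v).2]) hbase v ⟨g ≫ v.1, rfl⟩ rfl

variable (E) in
/-- Effectivity relative to the coproduct gives effectivity relative to the family. -/
theorem isEffective_of_ofFam (hE : ∃ U : Over S, Nonempty ((Desc.toDD (Limits.Sigma.desc f)).obj U ≅ ofFam E)) :
    E.IsEffective := by
  obtain ⟨U, g, q, hq⟩ := exists_isQuot_of_effective _ hE
  have sq : ∀ i, IsPullback (E.obj i).hom (Sigma.ι (fun i => (E.obj i).left) i ≫ q) (f i) g := by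
    intro i
    have h₀ : IsPullback q (Limits.Sigma.map fun i => (E.obj i).hom) g (Limits.Sigma.desc f) := by
      have := hq.isPullback
      rwa [Category.id_comp] at this
    have := ((isPullback_sigmaι_map (fun i => (E.obj i).hom) i).flip.paste_horiz h₀).flip
    rwa [Sigma.ι_desc] at this
  let e : ∀ i, pullback (f i) g ≅ (E.obj i).left := fun i => (sq i).isoPullback.symm
  have e₁ : ∀ i, (e i).hom ≫ (E.obj i).hom = pullback.fst (f i) g := fun i => (sq i).isoPullback_inv_fst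
  have e₂ : ∀ i, (e i).hom ≫ Sigma.ι (fun i => (E.obj i).left) i ≫ q = pullback.snd (f i) g := fun i =>
    (sq i).isoPullback_inv_snd
  have key : ∀ ⦃T : Scheme.{u}⦄ ⦃i j : ι⦄ (x₀ : T ⟶ X i) (x₁ : T ⟶ X j) (h : x₀ ≫ f i = x₁ ≫ f j)
      (v : Lifts ((toDDFam f).obj (Over.mk g) |>.obj i) x₀) (w : Lifts (E.obj i) x₀), w.1 = v.1 ≫ (e i).hom →
      (E.φ x₀ x₁ h w).1 = (((toDDFam f).obj (Over.mk g)).φ x₀ x₁ h v).1 ≫ (e j).hom := by
    intro T i j x₀ x₁ h v w hw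
    have r : w.1 ≫ Sigma.ι (fun i => (E.obj i).left) i ≫ q =
        (E.φ x₀ x₁ h w).1 ≫ Sigma.ι (fun i => (E.obj i).left) j ≫ q := by
      have := hq.rel (w.1 ≫ Sigma.ι (fun i => (E.obj i).left) i)
        ((E.φ x₀ x₁ h w).1 ≫ Sigma.ι (fun i => (E.obj i).left) j) (by
          simp only [Category.comp_id]; exact rel_ofFam.2 (relF_ι h w))
      exact ((Category.assoc _ _ _).symm.trans this).trans (Category.assoc _ _ _)
    refine (cancel_mono (e j).inv).1 ?_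
    rw [Category.assoc (((toDDFam f).obj (Over.mk g)).φ x₀ x₁ h v).1, Iso.hom_inv_id, Category.comp_id]
    apply pullback.hom_ext
    · refine Eq.trans ?_ (((toDDFam f).obj (Over.mk g)).φ x₀ x₁ h v).2.symm
      rw [Category.assoc, ← e₁, Iso.inv_hom_id_assoc, (E.φ x₀ x₁ h w).2]
    · refine Eq.trans ?_ (pullback.lift_snd _ _ _).symm
      change _ = v.1 ≫ pullback.snd (f i) g
      rw [Category.assoc, ← e₂, Iso.inv_hom_id_assoc, ← r, hw, ← e₂, Category.assoc]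
  refine ⟨Over.mk g, ⟨⟨⟨fun i => Over.homMk (e i).hom (e₁ i), key⟩,
    ⟨fun i => Over.homMk (e i).inv ?_, ?_⟩, ?_, ?_⟩⟩⟩
  · change (e i).inv ≫ pullback.fst (f i) g = (E.obj i).hom
    rw [← e₁, Iso.inv_hom_id_assoc]
  · intro T i j x₀ x₁ h v w hw
    change w.1 = v.1 ≫ (e i).inv at hw
    have := key x₀ x₁ h w v (by rw [hw, Category.assoc, Iso.inv_hom_id, Category.comp_id])
    change _ = (E.φ x₀ x₁ h v).1 ≫ (e j).inv
    rw [this, Category.assoc, Iso.hom_inv_id, Category.comp_id]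
  · ext1; funext i; ext1; exact (e i).hom_inv_id
  · ext1; funext i; ext1; exact (e i).inv_hom_id

end

/-- Effectivity for fpqc families of a property is checked on affine schemes. -/
theorem isEffective_of_affine_case (P : MorphismProperty Scheme.{u}) [P.IsStableUnderBaseChange]
    (h2 : ∀ (m : ℕ) (Y V : Fin m → Scheme.{u}) (q : ∀ j, Y j ⟶ V j), (∀ j, P (q j)) → P (Limits.Sigma.map q))
    (h3 : ∀ (X S : Scheme.{u}) (p : X ⟶ S), IsAffine X → IsAffine S → Flat p → Surjective p →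
      ∀ D : SchDD p, P D.obj.hom → ∃ U : Over S, Nonempty ((Desc.toDD p).obj U ≅ D))
    (hf : Presieve.ofArrows X f ∈ Scheme.fpqcPrecoverage S) (E : SchDDFam f) (hE : ∀ i, P (E.obj i).hom) :
    E.IsEffective := by
  refine isEffective_of_ofFam E ?_
  haveI := fpqc_sigmaDesc hf
  refine effective_of_refinements (ofFam E) fun S₀ hS₀ => ?_
  obtain ⟨m, a, V, o, b, -, -, hob, haff, hfl, hsurj, hqc⟩ := exists_affine_refinement hf hS₀
  let r : ∀ k, V k ⟶ ∐ X := fun k => o k ≫ Sigma.ι X (a k)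
  have w : Limits.Sigma.desc r ≫ Limits.Sigma.desc f = Limits.Sigma.desc b ≫ S₀.ι :=
    Sigma.hom_ext _ _ fun k => by
      rw [Sigma.ι_desc_assoc, Sigma.ι_desc_assoc, Category.assoc, Sigma.ι_desc, hob k]
  refine ⟨_, Limits.Sigma.desc r, Limits.Sigma.desc b, inferInstance, w, h3 _ _ _ haff hS₀ hfl hsurj _ ?_⟩
  change P (pullback.snd (Limits.Sigma.map fun i => (E.obj i).hom) (Limits.Sigma.desc r))
  let Z : Fin m → Scheme.{u} := fun k => pullback (E.obj (a k)).hom (o k)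
  let sn : ∀ k, Z k ⟶ V k := fun k => pullback.snd _ _
  let fs : ∀ k, Z k ⟶ (sObj E).left := fun k => pullback.fst _ _ ≫ Sigma.ι (fun i => (E.obj i).left) (a k)
  have hk : ∀ k, IsPullback (fs k) (sn k) (Limits.Sigma.map fun i => (E.obj i).hom) (r k) := fun k =>
    (IsPullback.of_hasPullback (E.obj (a k)).hom (o k)).paste_horiz
      (isPullback_sigmaι_map (fun i => (E.obj i).hom) (a k)).flip
  rw [← (isPullback_sigma r fs sn hk).isoPullback_inv_snd, MorphismProperty.cancel_left_of_respectsIso P]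
  exact h2 m Z V sn fun k => P.pullback_snd _ _ (hE (a k))

end DescLib
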