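import Groth.Agent.DescLib.IndQA
import Groth.Agent.DescLib.Family

/-!
# Effective fpqc descent for ind-quasi-affine morphisms
-/

set_option autoImplicit false
set_option linter.style.haveILetI false
set_option backward.isDefEq.respectTransparency false
set_option backward.isDefEq.respectTransparency.types false

universe u

open CategoryTheory CategoryTheory.Limits AlgebraicGeometry TopologicalSpace

namespace DescLib

open Desc

/-- Ind-quasi-affine morphisms as a property. -/
def indQA : MorphismProperty Scheme.{u} := fun _ _ f => MoreMor.IsIndQuasiAffineHom f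

instance : indQA.{u}.IsStableUnderBaseChange where
  of_isPullback sq hg := RichLib.QA.indQA_baseChange _ _ _ _ sq hg

theorem indQA_sigmaMap {m : ℕ} {Y V : Fin m → Scheme.{u}} (q : ∀ j, Y j ⟶ V j) (hq : ∀ j, indQA (q j)) :
    indQA (Limits.Sigma.map q) := by
  refine (RichLib.QA.indQA_iff _).mpr fun A hA U hUA hU => RichLib.QA.isQuasiAffine_local _ hA hUA hU fun y hy => ?_
  obtain ⟨i, z, hz⟩ := exists_sigma_mem y
  obtain ⟨a, ha, hya⟩ := hA.exists_basicOpen_le (V := (Sigma.ι V i).opensRange) ⟨y, ⟨z, hz⟩⟩ hy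
  refine ⟨a, hya, fun U' hU' hc => ?_⟩
  have hsub : (U' : Set ↥(∐ Y)) ⊆ Set.range (Sigma.ι Y i) := fun x hx => by
    obtain ⟨w, hw⟩ := ha (hU' hx).2
    obtain ⟨z', -, hz'⟩ := exists_of_isPullback (isPullback_sigmaι_map q i) (a := w) (b := x) hw
    exact ⟨z', hz'⟩
  let U'' : (Y i).Opens := Sigma.ι Y i ⁻¹ᵁ U'
  have hc'' : IsCompact (U'' : Set (Y i)) :=
    (Sigma.ι Y i).isOpenEmbedding.isInducing.isCompact_preimage' hc hsub
  haveI := (RichLib.QA.indQA_iff (q i)).mp (hq i) (Sigma.ι V i ⁻¹ᵁ (∐ V).basicOpen a)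
    ((hA.basicOpen a).preimage_of_isOpenImmersion _ ha) U'' (fun x hx => by
      have h := (hU' (show Sigma.ι Y i x ∈ U' from hx)).2
      change Sigma.ι V i (q i x) ∈ (∐ V).basicOpen a
      change Limits.Sigma.map q (Sigma.ι Y i x) ∈ (∐ V).basicOpen a at h
      rwa [← Scheme.Hom.comp_apply, ← Sigma.ι_map, Scheme.Hom.comp_apply]) hc''
  have himg : Sigma.ι Y i ''ᵁ U'' = U' := by
    rw [Scheme.Hom.image_preimage_eq_opensRange_inf, inf_eq_right]
    exact hsub
  rw [← himg]
  exact RichLib.QA.isQuasiAffine_of_iso ((Sigma.ι Y i).isoImage U'').inv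

variable {X S : Scheme.{u}} {p : X ⟶ S} (D : SchDD p)

theorem effective_affine_indQA [IsAffine X] [IsAffine S] [Flat p] [Surjective p]
    (hD : MoreMor.IsIndQuasiAffineHom D.obj.hom) : ∃ U : Over S, Nonempty ((Desc.toDD p).obj U ≅ D) := by
  haveI : QuasiCompact p := inferInstance
  exact effective_of_forall_good D (exists_good_indQA D fun W hW =>
    (RichLib.QA.indQA_iff _).mp hD ⊤ (isAffineOpen_top X) W (fun _ _ => trivial) hW)

theorem isEffective_of_indQA {ι : Type u} {S : Scheme.{u}} {X : ι → Scheme.{u}} {f : ∀ i, X i ⟶ S}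
    (hf : Presieve.ofArrows X f ∈ Scheme.fpqcPrecoverage S) (E : SchDDFam f)
    (hE : ∀ i, MoreMor.IsIndQuasiAffineHom (E.obj i).hom) : E.IsEffective :=
  isEffective_of_affine_case.{u} indQA (fun _ _ _ q hq => indQA_sigmaMap q hq)
    (fun X' S' p' hX hS hfl hsurj D hP => by
      haveI := hX
      haveI := hS
      haveI := hfl
      haveI := hsurj
      exact effective_affine_indQA D hP)
    hf E hE

end DescLib
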