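import Groth.Agent.DescLib.QAff

/-!
# Descent along universally open morphisms: stable quasi-compact opens
-/

set_option autoImplicit false
set_option linter.style.haveILetI false
set_option backward.isDefEq.respectTransparency false
set_option backward.isDefEq.respectTransparency.types false

universe u

open CategoryTheory CategoryTheory.Limits AlgebraicGeometry TopologicalSpace

namespace DescLib

open Desc

variable {X S : Scheme.{u}} {p : X ⟶ S} (D : SchDD p)

theorem exists_stable_open [UniversallyOpen p] [QuasiCompact p] (W : D.obj.left.Opens)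
    (hW : IsCompact (W : Set D.obj.left)) :
    ∃ W' : D.obj.left.Opens, W ≤ W' ∧ IsCompact (W' : Set D.obj.left) ∧ Stable D (W' : Set D.obj.left) := by
  let fst := pullback.fst (D.obj.hom ≫ p) p
  let snd := pullback.snd (D.obj.hom ≫ p) p
  obtain ⟨d, hd, hdr⟩ := exists_rel fst snd (by rw [Category.assoc, pullback.condition])
  have hz : ∀ {T : Scheme.{u}} (a b : T ⟶ D.obj.left) (z : T ⟶ pullback (D.obj.hom ≫ p) p),
      z ≫ fst = a → z ≫ snd = b ≫ D.obj.hom → Rel D a b → z ≫ d = b := by
    intro T a b z h₁ h₂ r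
    have h := hdr.comp z
    rw [h₁] at h
    exact (h.symm.trans r).eq (by rw [Category.assoc, hd]; exact h₂)
  let σ : pullback (D.obj.hom ≫ p) p ⟶ pullback (D.obj.hom ≫ p) p :=
    pullback.lift d (fst ≫ D.obj.hom) (by rw [← Category.assoc d, hd, Category.assoc]; exact pullback.condition.symm)
  have hσ₁ : σ ≫ fst = d := pullback.lift_fst _ _ _
  have hσ₂ : σ ≫ snd = fst ≫ D.obj.hom := pullback.lift_snd _ _ _
  have hσd : σ ≫ d = fst := hz d fst σ hσ₁ hσ₂ hdr.symm
  have hσσ : σ ≫ σ = 𝟙 _ := pullback.hom_ext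
    (by change (σ ≫ σ) ≫ fst = 𝟙 _ ≫ fst; rw [Category.assoc, hσ₁, hσd, Category.id_comp])
    (by change (σ ≫ σ) ≫ snd = 𝟙 _ ≫ snd
        rw [Category.assoc, hσ₂, ← Category.assoc, hσ₁, hd, Category.id_comp])
  haveI : IsIso σ := ⟨σ, hσσ, hσσ⟩
  haveI : UniversallyOpen fst := MorphismProperty.pullback_fst _ _ ‹_›
  have hopen : IsOpenMap d := by rw [← hσ₁]; exact (σ ≫ fst).isOpenMap
  let A : Set ↥(pullback (D.obj.hom ≫ p) p) := fst ⁻¹' (W : Set D.obj.left)
  have hA : IsCompact A := fst.isCompact_preimage hW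
  refine ⟨⟨d '' A, hopen _ (W.2.preimage fst.continuous)⟩, fun v hv => ?_, hA.image d.continuous, ?_⟩
  · let s := pullback.lift (f := D.obj.hom ≫ p) (g := p) (𝟙 D.obj.left) D.obj.hom (Category.id_comp _)
    have hs : s ≫ fst = 𝟙 _ := pullback.lift_fst _ _ _
    have hsd : s ≫ d = 𝟙 _ := hz _ _ s hs ((pullback.lift_snd _ _ _).trans (Category.id_comp _).symm) (Rel.refl _)
    refine ⟨s v, ?_, ?_⟩
    · change fst (s v) ∈ W
      rw [← Scheme.Hom.comp_apply, hs]
      exact hv
    · rw [← Scheme.Hom.comp_apply, hsd]; rfl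
  · rintro T a b r t ⟨y, hy, hyt⟩
    let z := pullback.lift (f := D.obj.hom ≫ p) (g := p) a (b ≫ D.obj.hom) (by rw [← Category.assoc]; exact r.1)
    have hza : z ≫ fst = a := pullback.lift_fst _ _ _
    obtain ⟨w, hw₁, hw₂⟩ := Scheme.Pullback.exists_preimage_pullback (f := d) (g := fst) y (z t)
      (by rw [hyt, ← Scheme.Hom.comp_apply z fst, hza])
    let q₁ := pullback.fst d fst
    let q₂ := pullback.snd d fst
    have r₁ := hdr.comp q₁
    have r₂ := hdr.comp q₂
    rw [← pullback.condition] at r₂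
    have r₁₂ := r₁.trans r₂
    let ρ := pullback.lift (f := D.obj.hom ≫ p) (g := p) (q₁ ≫ fst) ((q₂ ≫ d) ≫ D.obj.hom)
      (by rw [← Category.assoc]; exact r₁₂.1)
    have hρd : ρ ≫ d = q₂ ≫ d := hz _ _ ρ (pullback.lift_fst _ _ _) (pullback.lift_snd _ _ _) r₁₂
    refine ⟨ρ w, ?_, ?_⟩
    · change fst (ρ w) ∈ W
      rw [← Scheme.Hom.comp_apply ρ fst, show ρ ≫ fst = q₁ ≫ fst from pullback.lift_fst _ _ _,
        Scheme.Hom.comp_apply, hw₁]
      exact hy
    · have hzd : z ≫ d = b := hz a b z hza (pullback.lift_snd _ _ _) r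
      rw [← Scheme.Hom.comp_apply, hρd, Scheme.Hom.comp_apply, hw₂, ← Scheme.Hom.comp_apply, hzd]

/-- Over affine schemes, with quasi-compact opens quasi-affine, descent along a universally open morphism
is effective. -/
theorem effective_affine_of_universallyOpen [IsAffine X] [IsAffine S] [Flat p] [Surjective p] [UniversallyOpen p]
    (h : ∀ W : D.obj.left.Opens, IsCompact (W : Set D.obj.left) → W.toScheme.IsQuasiAffine) :
    ∃ U : Over S, Nonempty ((Desc.toDD p).obj U ≅ D) := by
  haveI : QuasiCompact p := inferInstance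
  refine effective_of_forall_good D fun v => ?_
  obtain ⟨W, hW, hv, -⟩ := Opens.isBasis_iff_nbhd.mp D.obj.left.isBasis_affineOpens (Opens.mem_top v)
  obtain ⟨W', hle, hW', hst⟩ := exists_stable_open D W (IsAffineOpen.isCompact hW)
  haveI := h W' hW'
  obtain ⟨U, g, q, hq⟩ := exists_isQuot_of_quasiAffine D (j := Scheme.Opens.ι W')
    (by rw [Scheme.Opens.range_ι]; exact hst)
  exact ⟨W', hle hv, hst, U, g, q, hq⟩

/-- Separated locally quasi-finite schemes descend along flat surjective morphisms locally of finite presentation. -/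
theorem effective_sep_lqf [Flat p] [Surjective p] [LocallyOfFinitePresentation p] [IsSeparated D.obj.hom]
    [LocallyQuasiFinite D.obj.hom] [LocallyOfFiniteType D.obj.hom] :
    ∃ U : Over S, Nonempty ((Desc.toDD p).obj U ≅ D) := by
  haveI : Fpqc p :=
    ⟨Scheme.fppfPrecoverage_le_fpqcPrecoverage _ (Scheme.Hom.singleton_mem_fppfPrecoverage p)⟩
  refine effective_of_refinements D fun S₀ hS₀ => ?_
  obtain ⟨m, a, V, o, b, -, ho, hob, haff, hfl, hsurj, hqc⟩ :=
    exists_affine_refinement (Fpqc.memOfArrows p) hS₀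
  have w : Limits.Sigma.desc o ≫ p = Limits.Sigma.desc b ≫ S₀.ι :=
    Sigma.hom_ext _ _ fun k => by rw [Sigma.ι_desc_assoc, Sigma.ι_desc_assoc, hob k]
  haveI : LocallyOfFinitePresentation (Limits.Sigma.desc b) := by
    refine IsZariskiLocalAtSource.of_openCover (P := @LocallyOfFinitePresentation) (sigmaOpenCover V) fun k => ?_
    change LocallyOfFinitePresentation (Sigma.ι V k ≫ Limits.Sigma.desc b)
    rw [Sigma.ι_desc]
    haveI := ho k
    haveI : LocallyOfFinitePresentation (b k ≫ S₀.ι) := hob k ▸ inferInstance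
    exact MorphismProperty.of_postcomp (W := @LocallyOfFinitePresentation) (W' := @IsOpenImmersion) (b k) S₀.ι
      inferInstance ‹_›
  refine ⟨_, Limits.Sigma.desc o, Limits.Sigma.desc b, inferInstance, w, ?_⟩
  haveI : IsAffine S₀.toScheme := hS₀
  haveI := haff
  haveI : UniversallyOpen (Limits.Sigma.desc b) := inferInstance
  let D' := pullDD D (Limits.Sigma.desc b) (Limits.Sigma.desc o) S₀.ι w
  haveI : IsSeparated D'.obj.hom := MorphismProperty.pullback_snd (P := @IsSeparated) _ _ ‹_›
  haveI : LocallyQuasiFinite D'.obj.hom := MorphismProperty.pullback_snd (P := @LocallyQuasiFinite) _ _ ‹_›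
  haveI : LocallyOfFiniteType D'.obj.hom := MorphismProperty.pullback_snd (P := @LocallyOfFiniteType) _ _ ‹_›
  refine effective_affine_of_universallyOpen D' fun W hW => ?_
  haveI : CompactSpace W.toScheme := isCompact_iff_compactSpace.mp hW
  haveI : QuasiCompact (W.ι ≫ D'.obj.hom) := inferInstance
  exact AlgSpLib.quasiAffine_of_lqf (W.ι ≫ D'.obj.hom)

end DescLib
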