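import Groth.Agent.DescLib.Basic

/-!
# Pullback, refinement and restriction of quotients of descent data
-/

set_option autoImplicit false
set_option linter.style.haveILetI false
set_option backward.isDefEq.respectTransparency false
set_option backward.isDefEq.respectTransparency.types false

universe u

open CategoryTheory CategoryTheory.Limits AlgebraicGeometry

namespace DescLib

open Desc

variable {X S : Scheme.{u}} {p : X ⟶ S} (D : SchDD p)

section pull

variable {X' S' : Scheme.{u}} (p' : X' ⟶ S') (r : X' ⟶ X) (s : S' ⟶ S) (w : r ≫ p = p' ≫ s)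

/-- Pullback of a descent datum along a morphism from `p'` to `p`. -/
noncomputable def pullDD : SchDD p' :=
  (SchDDFam.toSchDD.{u} p').obj (pullDDFamObj (f := fun _ : PUnit.{u + 1} => p)
    (f' := fun _ : PUnit.{u + 1} => p') (α := fun _ => PUnit.unit) (p := s) (p' := fun _ => r) (fun _ => w)
    ((SchDDFam.ofSchDD p).obj D))

theorem pullDD_obj : (pullDD D p' r s w).obj = Over.mk (pullback.snd D.obj.hom r) := rfl

variable {D p' r s w}

/-- The underlying scheme of the pullback, towards that of the datum. -/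
noncomputable abbrev pullFst : (pullDD D p' r s w).obj.left ⟶ D.obj.left := pullback.fst D.obj.hom r

theorem pullFst_hom : pullFst (D := D) (w := w) ≫ D.obj.hom = (pullDD D p' r s w).obj.hom ≫ r :=
  pullback.condition

theorem pullHom_ext {T : Scheme.{u}} {a b : T ⟶ (pullDD D p' r s w).obj.left} (e₁ : a ≫ pullFst = b ≫ pullFst)
    (e₂ : a ≫ (pullDD D p' r s w).obj.hom = b ≫ (pullDD D p' r s w).obj.hom) : a = b :=
  pullback.hom_ext e₁ e₂

theorem rel_pull {T : Scheme.{u}} (a b : T ⟶ (pullDD D p' r s w).obj.left) :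
    Rel (pullDD D p' r s w) a b ↔
      (a ≫ (pullDD D p' r s w).obj.hom) ≫ p' = (b ≫ (pullDD D p' r s w).obj.hom) ≫ p' ∧
        Rel D (a ≫ pullFst) (b ≫ pullFst) := by
  have key : ∀ (x₀ x₁ : T ⟶ X') (h : x₀ ≫ p' = x₁ ≫ p') (h' : (x₀ ≫ r) ≫ p = (x₁ ≫ r) ≫ p)
      (v : Lifts (pullDD D p' r s w).obj x₀) (e : (v.1 ≫ pullFst) ≫ D.obj.hom = x₀ ≫ r),
      ((pullDD D p' r s w).φ x₀ x₁ h v).1 ≫ pullFst = (D.φ (x₀ ≫ r) (x₁ ≫ r) h' ⟨v.1 ≫ pullFst, e⟩).1 := by
    intro x₀ x₁ h h' v e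
    exact pullback.lift_fst _ _ _
  constructor
  · intro hr
    refine ⟨hr.1, ?_⟩
    have h' := (pull_compat (f := fun _ : PUnit.{u + 1} => p) (f' := fun _ : PUnit.{u + 1} => p')
      (α := fun _ => PUnit.unit) (p := s) (p' := fun _ => r) (fun _ => w) (j₀ := PUnit.unit) (j₁ := PUnit.unit)
      _ _ hr.1)
    have e := key _ _ hr.1 h' ⟨a, rfl⟩ (by rw [Category.assoc, pullFst_hom, Category.assoc])
    rw [hr.2] at e
    have := rel_φ h' ⟨a ≫ pullFst, by rw [Category.assoc, pullFst_hom, Category.assoc]⟩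
    rwa [← e] at this
  · rintro ⟨h, hr⟩
    have h' := (pull_compat (f := fun _ : PUnit.{u + 1} => p) (f' := fun _ : PUnit.{u + 1} => p')
      (α := fun _ => PUnit.unit) (p := s) (p' := fun _ => r) (fun _ => w) (j₀ := PUnit.unit) (j₁ := PUnit.unit)
      _ _ h)
    refine ⟨h, pullHom_ext ?_ ((pullDD D p' r s w).φ _ _ h ⟨a, rfl⟩).2⟩
    rw [key _ _ h h' ⟨a, rfl⟩ (by rw [Category.assoc, pullFst_hom, Category.assoc])]
    exact hr.φ_eq _ (by rw [Category.assoc, pullFst_hom, Category.assoc]) _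

theorem hom_p_eq {T : Scheme.{u}} (a : T ⟶ (pullDD D p' r s w).obj.left) :
    ((a ≫ pullFst) ≫ D.obj.hom) ≫ p = ((a ≫ (pullDD D p' r s w).obj.hom) ≫ p') ≫ s := by
  simp only [Category.assoc]
  rw [← Category.assoc (pullFst (D := D) (w := w)), pullFst_hom, Category.assoc, w]

/-- Quotients of the base change along a monomorphism are quotients of the datum. -/
theorem IsQuot.of_pull [Mono s] (hc : IsPullback r p' p s) {Y U : Scheme.{u}}
    {j : Y ⟶ (pullDD D p' r s w).obj.left} {g : U ⟶ S'} {q : Y ⟶ U} (hq : IsQuot (pullDD D p' r s w) j g q) :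
    IsQuot D (j ≫ pullFst) (g ≫ s) q where
  rel T a b hr := by
    refine hq.rel a b ((rel_pull _ _).2 ⟨?_, by simpa only [Category.assoc] using hr⟩)
    rw [← cancel_mono s, ← hom_p_eq, ← hom_p_eq]
    simpa only [Category.assoc] using hr.1
  lift T a c hr := by
    have h : (c ≫ D.obj.hom) ≫ p = (((a ≫ j) ≫ (pullDD D p' r s w).obj.hom) ≫ p') ≫ s := by
      rw [← hr.1, ← hom_p_eq, Category.assoc a j]
    let x := hc.lift (c ≫ D.obj.hom) (((a ≫ j) ≫ (pullDD D p' r s w).obj.hom) ≫ p') h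
    let c' : T ⟶ (pullDD D p' r s w).obj.left :=
      pullback.lift (f := D.obj.hom) (g := r) c x (hc.lift_fst _ _ _).symm
    have hc₁ : c' ≫ pullFst = c := pullback.lift_fst _ _ _
    have hc₂ : c' ≫ (pullDD D p' r s w).obj.hom = x := pullback.lift_snd _ _ _
    obtain ⟨b, hb⟩ := hq.lift a c' ((rel_pull _ _).2
      ⟨by rw [hc₂, hc.lift_snd], by rw [hc₁, Category.assoc]; exact hr⟩)
    exact ⟨b, by rw [← Category.assoc, hb, hc₁]⟩
  isPullback := by
    rw [show (j ≫ pullFst (D := D) (w := w)) ≫ D.obj.hom = (j ≫ (pullDD D p' r s w).obj.hom) ≫ r by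
      rw [Category.assoc, pullFst_hom, Category.assoc]]
    exact (hq.isPullback.flip.paste_horiz hc).flip

/-- A quotient after an fpqc refinement gives a quotient. -/
theorem exists_isQuot_of_refine [Mono s] [Fpqc p'] {Y : Scheme.{u}} {j : Y ⟶ D.obj.left} {m : Y ⟶ S'}
    (hj : IsPullback j m (D.obj.hom ≫ p) s) {U : Scheme.{u}} {g : U ⟶ S'}
    {q' : (pullDD D p' r s w).obj.left ⟶ U} (hq : IsQuot (pullDD D p' r s w) (𝟙 _) g q') :
    ∃ q, IsQuot D j (g ≫ s) q := by
  let D' := pullDD D p' r s w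
  let π' : D'.obj.left ⟶ X' := D'.obj.hom
  have hqw : q' ≫ g = π' ≫ p' := by simpa using hq.w
  have hjm : ∀ {T : Scheme.{u}} (a : T ⟶ Y), ((a ≫ j) ≫ D.obj.hom) ≫ p = (a ≫ m) ≫ s := fun a => by
    simp only [Category.assoc, hj.w]
  have hmk : ∀ {T : Scheme.{u}} (a : T ⟶ Y) (x' : T ⟶ X'), a ≫ m = x' ≫ p' →
      ∃ y : T ⟶ D'.obj.left, y ≫ π' = x' ∧ Rel D (a ≫ j) (y ≫ pullFst) := by
    intro T a x' h
    obtain ⟨b, hb, hr⟩ := exists_rel (a ≫ j) (x' ≫ r)
      (by rw [hjm, Category.assoc x', w, ← Category.assoc x', h])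
    refine ⟨pullback.lift (f := D.obj.hom) (g := r) b x' hb, pullback.lift_snd _ _ _, ?_⟩
    rwa [show pullback.lift (f := D.obj.hom) (g := r) b x' hb ≫ pullFst (w := w) = b from pullback.lift_fst _ _ _]
  have hrel' : ∀ {T : Scheme.{u}} (y₁ y₂ : T ⟶ D'.obj.left),
      Rel D (y₁ ≫ pullFst) (y₂ ≫ pullFst) → y₁ ≫ q' = y₂ ≫ q' := by
    intro T y₁ y₂ hr
    refine hq.rel y₁ y₂ ?_
    rw [Category.comp_id, Category.comp_id]
    exact (rel_pull _ _).2 ⟨by rw [← cancel_mono s, ← hom_p_eq, ← hom_p_eq]; exact hr.1, hr⟩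
  obtain ⟨y₀, hy₀, hy₀r⟩ := hmk (pullback.fst m p') (pullback.snd m p') pullback.condition
  let q : Y ⟶ U := EffectiveEpi.desc (pullback.fst m p') (y₀ ≫ q') fun {T} g₁ g₂ e => by
    rw [← Category.assoc, ← Category.assoc]
    refine hrel' _ _ ?_
    have h₁ := (hy₀r.comp g₁)
    have h₂ := (hy₀r.comp g₂)
    simp only [← Category.assoc] at h₁ h₂
    rw [e] at h₁
    exact h₁.symm.trans h₂
  have hqfac : pullback.fst m p' ≫ q = y₀ ≫ q' := EffectiveEpi.fac _ _ _
  have key : ∀ {T : Scheme.{u}} (a : T ⟶ Y) (y : T ⟶ D'.obj.left),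
      Rel D (a ≫ j) (y ≫ pullFst) → a ≫ q = y ≫ q' := by
    intro T a y hr
    have h : a ≫ m = (y ≫ π') ≫ p' := by
      rw [← cancel_mono s, ← hjm, ← hom_p_eq]; exact hr.1
    let z := pullback.lift (f := m) (g := p') a (y ≫ π') h
    calc a ≫ q = z ≫ pullback.fst m p' ≫ q := by rw [pullback.lift_fst_assoc]
      _ = (z ≫ y₀) ≫ q' := by rw [hqfac, Category.assoc]
      _ = y ≫ q' := hrel' _ _ (by
        have h₁ := hy₀r.comp z
        simp only [← Category.assoc] at h₁
        rw [show z ≫ pullback.fst m p' = a from pullback.lift_fst _ _ _] at h₁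
        exact h₁.symm.trans hr)
  have hqm : q ≫ g = m := by
    rw [← cancel_epi (pullback.fst m p'), reassoc_of% hqfac, hqw, reassoc_of% hy₀, pullback.condition]
  have uniq : ∀ {T : Scheme.{u}} (a b : T ⟶ Y), a ≫ q = b ≫ q →
      (a ≫ j) ≫ D.obj.hom = (b ≫ j) ≫ D.obj.hom → a = b := by
    intro T a b e e'
    have em : a ≫ m = b ≫ m := by rw [← hqm, ← Category.assoc, e, Category.assoc]
    refine hj.hom_ext ((cancel_epi (pullback.fst (a ≫ m) p')).1 ?_) em
    let t := pullback.fst (a ≫ m) p'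
    obtain ⟨ya, hya, hra⟩ := hmk (t ≫ a) (pullback.snd (a ≫ m) p')
      (by rw [Category.assoc]; exact pullback.condition)
    obtain ⟨yb, hyb, hrb⟩ := hmk (t ≫ b) (pullback.snd (a ≫ m) p')
      (by rw [Category.assoc, ← em]; exact pullback.condition)
    have hyy : ya = yb := hq.hom_ext (by rw [← key _ _ hra, ← key _ _ hrb, Category.assoc, e, Category.assoc])
      (by rw [Category.comp_id, Category.comp_id]; exact hya.trans hyb.symm)
    subst hyy
    have := (hra.trans hrb.symm).eq (by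
      have := congrArg (t ≫ ·) e'
      simpa only [Category.assoc] using this)
    simpa only [Category.assoc] using this
  refine ⟨q, fun T a b hr => ?_, fun T a c hr => ?_, ?_⟩
  · have em : a ≫ m = b ≫ m := by rw [← cancel_mono s, ← hjm, ← hjm]; exact hr.1
    rw [← cancel_epi (pullback.fst (a ≫ m) p')]
    let t := pullback.fst (a ≫ m) p'
    obtain ⟨ya, -, hra⟩ := hmk (t ≫ a) (pullback.snd (a ≫ m) p') (by rw [Category.assoc]; exact pullback.condition)
    obtain ⟨yb, -, hrb⟩ := hmk (t ≫ b) (pullback.snd (a ≫ m) p')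
      (by rw [Category.assoc, ← em]; exact pullback.condition)
    rw [← Category.assoc, ← Category.assoc, key _ _ hra, key _ _ hrb]
    refine hrel' _ _ (hra.symm.trans (Rel.trans ?_ hrb))
    simpa only [Category.assoc, t] using hr.comp t
  · exact ⟨hj.lift c (a ≫ m) (by rw [← Category.assoc, ← hr.1, hjm]), hj.lift_fst _ _ _⟩
  · have hw : q ≫ g ≫ s = (j ≫ D.obj.hom) ≫ p := by
      rw [reassoc_of% hqm, ← hj.w, Category.assoc]
    have hex : ∀ c : PullbackCone (g ≫ s) p, ∃ a : c.pt ⟶ Y, a ≫ q = c.fst ∧ (a ≫ j) ≫ D.obj.hom = c.snd := by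
      intro c
      have hc : (c.fst ≫ g) ≫ s = c.snd ≫ p := by rw [Category.assoc]; exact c.condition
      let t := pullback.fst (c.fst ≫ g) p'
      let x' := pullback.snd (c.fst ≫ g) p'
      let y := hq.isPullback.lift (t ≫ c.fst) x' (by rw [Category.assoc]; exact pullback.condition)
      have hy₁ : y ≫ q' = t ≫ c.fst := hq.isPullback.lift_fst _ _ _
      have hy₂ : y ≫ π' = x' := by
        have := hq.isPullback.lift_snd (t ≫ c.fst) x' (by rw [Category.assoc]; exact pullback.condition)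
        exact (congrArg (y ≫ ·) (Category.id_comp D'.obj.hom)).symm.trans this
      have hyp : ((y ≫ pullFst) ≫ D.obj.hom) ≫ p = (t ≫ c.snd) ≫ p := by
        rw [hom_p_eq, hy₂, ← pullback.condition, Category.assoc, hc, Category.assoc]
      obtain ⟨b, hb, hbr⟩ := exists_rel (y ≫ pullFst) (t ≫ c.snd) hyp
      have hbm : b ≫ D.obj.hom ≫ p = (t ≫ c.fst ≫ g) ≫ s := by
        rw [← Category.assoc, hb, Category.assoc, ← hc, Category.assoc, Category.assoc, Category.assoc]
      let a'' := hj.lift b (t ≫ c.fst ≫ g) hbm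
      have ha'' : a'' ≫ j = b := hj.lift_fst _ _ _
      have haq : a'' ≫ q = t ≫ c.fst := (key a'' y (by rw [ha'']; exact hbr.symm)).trans hy₁
      have haπ : (a'' ≫ j) ≫ D.obj.hom = t ≫ c.snd := by rw [ha'', hb]
      let a := EffectiveEpi.desc t a'' fun {T} g₁ g₂ e => uniq _ _
        (by rw [Category.assoc, Category.assoc, haq, ← Category.assoc, e, Category.assoc])
        (by
          simp only [Category.assoc] at haπ ⊢
          rw [haπ, ← Category.assoc, e, Category.assoc])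
      have hat : t ≫ a = a'' := EffectiveEpi.fac _ _ _
      exact ⟨a, (cancel_epi t).1 (by rw [reassoc_of% hat, haq]),
        (cancel_epi t).1 (by rw [Category.assoc, reassoc_of% hat, ← haπ, Category.assoc])⟩
    refine ⟨⟨hw⟩, ⟨PullbackCone.isLimitAux' _ fun c => ⟨(hex c).choose, (hex c).choose_spec.1,
      (Category.assoc _ _ _).symm.trans (hex c).choose_spec.2, fun {a'} h₁ h₂ => uniq a' _ ?_ ?_⟩⟩⟩
    · exact h₁.trans (hex c).choose_spec.1.symm
    · exact ((Category.assoc _ _ _).trans h₂).trans (hex c).choose_spec.2.symm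

end pull

variable {D}

/-- Stable opens inside a quotient have quotients. -/
theorem exists_isQuot_of_le [Fpqc p] {Y U : Scheme.{u}} {j : Y ⟶ D.obj.left} [IsOpenImmersion j] {g : U ⟶ S}
    {q : Y ⟶ U} (hq : IsQuot D j g q) {W : D.obj.left.Opens} (hW : Stable D (W : Set D.obj.left))
    (hle : (W : Set D.obj.left) ⊆ Set.range j) :
    ∃ (U' : Scheme.{u}) (g' : U' ⟶ S) (q' : W.toScheme ⟶ U'), IsQuot D W.ι g' q' ∧
      ∀ l : W.toScheme ⟶ Y, l ≫ j = W.ι → ∃ i : U' ⟶ U, IsOpenImmersion i ∧ q' ≫ i = l ≫ q := by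
  haveI := hq.fpqc
  have hsat : q ⁻¹' (q '' (j ⁻¹' (W : Set D.obj.left))) = j ⁻¹' (W : Set D.obj.left) := by
    refine subset_antisymm ?_ (Set.subset_preimage_image _ _)
    rintro y₂ ⟨y₁, hy₁, he⟩
    obtain ⟨z, hz₁, hz₂⟩ := Scheme.Pullback.exists_preimage_pullback (f := q) (g := q) y₁ y₂ he
    have := hW _ _ (hq.rel_of_eq (pullback.condition (f := q) (g := q))) z
      (by rw [Scheme.Hom.comp_apply, hz₁]; exact hy₁)
    rwa [Scheme.Hom.comp_apply, hz₂] at this
  let O : U.Opens := ⟨q '' (j ⁻¹' (W : Set D.obj.left)),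
    isOpen_of_isOpen_preimage q (hsat.symm ▸ W.2.preimage j.continuous)⟩
  let Y₁ := (q ⁻¹ᵁ O).toScheme
  let j₁ : Y₁ ⟶ D.obj.left := (q ⁻¹ᵁ O).ι ≫ j
  have hrange : Set.range j₁ = (W : Set D.obj.left) := by
    rw [show ⇑j₁ = j ∘ (q ⁻¹ᵁ O).ι from funext fun y => Scheme.Hom.comp_apply (q ⁻¹ᵁ O).ι j y, Set.range_comp,
      Scheme.Opens.range_ι]
    change j '' (q ⁻¹' (q '' (j ⁻¹' (W : Set D.obj.left)))) = _
    rw [hsat, Set.image_preimage_eq_of_subset hle]
  have h₁ : IsQuot D j₁ (O.ι ≫ g) (q ∣_ O) := by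
    refine ⟨fun T a b hr => ?_, fun T a c hr => ?_, ?_⟩
    · rw [← cancel_mono O.ι, Category.assoc, Category.assoc, morphismRestrict_ι, ← Category.assoc,
        ← Category.assoc]
      exact hq.rel _ _ (by simpa only [j₁, Category.assoc] using hr)
    · exact Stable.exists_lift (hrange ▸ hW) a c hr
    · have := (isPullback_morphismRestrict q O).paste_vert hq.isPullback
      rwa [show j₁ ≫ D.obj.hom = (q ⁻¹ᵁ O).ι ≫ j ≫ D.obj.hom from Category.assoc _ _ _]
  let e := IsOpenImmersion.isoOfRangeEq W.ι j₁ (by rw [Scheme.Opens.range_ι, hrange])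
  refine ⟨O, O.ι ≫ g, e.hom ≫ q ∣_ O, ?_, fun l hl => ⟨O.ι, inferInstance, ?_⟩⟩
  · have := h₁.of_iso e
    rwa [IsOpenImmersion.isoOfRangeEq_hom_fac] at this
  · have he : e.hom ≫ (q ⁻¹ᵁ O).ι = l := by
      rw [← cancel_mono j, hl, Category.assoc]
      exact IsOpenImmersion.isoOfRangeEq_hom_fac _ _ _
    rw [Category.assoc, morphismRestrict_ι, reassoc_of% he]

end DescLib
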