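import Groth.Agent.DescLib.Glue
import Groth.Agent.AlgSpLib.QAffDescent

/-!
# Quotients of quasi-affine stable parts over affine schemes, and of open subschemes
-/

set_option autoImplicit false
set_option linter.style.haveILetI false
set_option backward.isDefEq.respectTransparency false
set_option backward.isDefEq.respectTransparency.types false

universe u

open CategoryTheory CategoryTheory.Limits AlgebraicGeometry TopologicalSpace

namespace DescLib

open Desc

variable {X S : Scheme.{u}} {p : X ⟶ S} (D : SchDD p)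

/-- A stable quasi-affine open part has a quotient, over affine schemes. -/
theorem exists_isQuot_of_quasiAffine [IsAffine X] [IsAffine S] [Flat p] [Surjective p] {Y : Scheme.{u}}
    {j : Y ⟶ D.obj.left} [IsOpenImmersion j] (hj : Stable D (Set.range j)) [Y.IsQuasiAffine] :
    ∃ (U : Scheme.{u}) (g : U ⟶ S) (q : Y ⟶ U), IsQuot D j g q := by
  let pW : Y ⟶ X := j ≫ D.obj.hom
  let R := pullback (pW ≫ p) p
  obtain ⟨c, hc, hcr⟩ := exists_rel (pullback.fst (pW ≫ p) p ≫ j) (pullback.snd (pW ≫ p) p)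
    (by rw [← pullback.condition]; simp only [pW, Category.assoc])
  obtain ⟨d₀, rfl⟩ := Stable.exists_lift hj _ c hcr
  have hd₀ : d₀ ≫ pW = pullback.snd (pW ≫ p) p := by rw [← Category.assoc]; exact hc
  have heq : ∀ {T : Scheme.{u}} {a b : T ⟶ Y}, Rel D (a ≫ j) (b ≫ j) → a ≫ pW = b ≫ pW → a = b := by
    intro T a b r e
    exact (cancel_mono j).1 (r.eq (by simpa only [pW, Category.assoc] using e))
  have hz : ∀ {T : Scheme.{u}} (z : T ⟶ R), Rel D ((z ≫ pullback.fst _ _) ≫ j) ((z ≫ d₀) ≫ j) := fun z => by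
    simpa only [Category.assoc] using hcr.comp z
  obtain ⟨Wb, β, h, w, hWb, hd, hopen, -⟩ := AlgSpLib.exists_affine_descent p pW d₀ hd₀
    (by
      let z := pullback.lift (f := pW ≫ p) (g := p) (𝟙 Y) pW (Category.id_comp _)
      have r := hz z
      rw [show z ≫ pullback.fst _ _ = 𝟙 Y from pullback.lift_fst _ _ _] at r
      exact (heq r (by
        rw [Category.assoc, hd₀, Category.id_comp]
        exact (pullback.lift_snd _ _ _).symm)).symm)
    (fun Z y t w₁ w₂ => by
      have r₁ := hz (pullback.lift (f := pW ≫ p) (g := p) (y ≫ d₀) t w₁)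
      have r₂ := hz (pullback.lift (f := pW ≫ p) (g := p) (y ≫ pullback.fst _ _) t w₂)
      rw [pullback.lift_fst] at r₁ r₂
      refine heq ((r₁.symm.trans (hz y).symm).trans r₂) (Eq.trans (b := t) ?_ (Eq.symm ?_)) <;>
        exact (Category.assoc _ _ _).trans ((congrArg _ hd₀).trans (pullback.lift_snd _ _ _)))
  have hrel : ∀ {T : Scheme.{u}} (a b : T ⟶ Y), Rel D (a ≫ j) (b ≫ j) → a ≫ h = b ≫ h := by
    intro T a b r
    let z := pullback.lift (f := pW ≫ p) (g := p) a (b ≫ pW) (by simpa only [pW, Category.assoc] using r.1)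
    have r' := hz z
    rw [show z ≫ pullback.fst _ _ = a from pullback.lift_fst _ _ _] at r'
    have : z ≫ d₀ = b := heq (r'.symm.trans r) (by rw [Category.assoc, hd₀]; exact pullback.lift_snd _ _ _)
    calc a ≫ h = z ≫ pullback.fst _ _ ≫ h := by rw [pullback.lift_fst_assoc]
      _ = z ≫ d₀ ≫ h := by rw [hd]
      _ = b ≫ h := by rw [reassoc_of% this]
  let k : Y ⟶ pullback β p := pullback.lift h pW w
  haveI : IsOpenImmersion k := hopen
  have hk₁ : k ≫ pullback.fst β p = h := pullback.lift_fst _ _ _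
  have hk₂ : k ≫ pullback.snd β p = pW := pullback.lift_snd _ _ _
  have hsat : (pullback.fst β p) ⁻¹' (pullback.fst β p '' Set.range k) = Set.range k := by
    refine subset_antisymm ?_ (Set.subset_preimage_image _ _)
    rintro z₂ ⟨z₁, ⟨y, rfl⟩, he⟩
    obtain ⟨z, hz₁, hz₂⟩ := Scheme.Pullback.exists_preimage_pullback (f := pullback.fst β p)
      (g := pullback.fst β p) (k y) z₂ he
    let π₁ := pullback.fst (pullback.fst β p) (pullback.fst β p)
    let π₂ := pullback.snd (pullback.fst β p) (pullback.fst β p)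
    obtain ⟨t, ht₁, -⟩ := Scheme.Pullback.exists_preimage_pullback (f := π₁) (g := k) z y hz₁
    let τ := pullback.fst π₁ k
    let a := pullback.snd π₁ k
    have hτ : (τ ≫ π₂) ≫ pullback.fst β p = a ≫ h := by
      rw [← hk₁, ← Category.assoc a, ← pullback.condition (f := π₁) (g := k), Category.assoc, Category.assoc]
      exact congrArg (τ ≫ ·) pullback.condition.symm
    obtain ⟨c, hc, hcr⟩ := exists_rel (a ≫ j) ((τ ≫ π₂) ≫ pullback.snd β p) (by
      rw [Category.assoc (τ ≫ π₂), ← pullback.condition, ← Category.assoc (τ ≫ π₂), hτ, Category.assoc a h, w]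
      simp only [pW, Category.assoc])
    obtain ⟨b, rfl⟩ := Stable.exists_lift hj a c hcr
    have hb : b ≫ k = τ ≫ π₂ := by
      apply pullback.hom_ext
      · rw [Category.assoc, hk₁, hτ, hrel a b hcr]
      · rw [Category.assoc, hk₂, ← Category.assoc b, hc]
    refine ⟨b t, ?_⟩
    rw [← Scheme.Hom.comp_apply, hb, Scheme.Hom.comp_apply, ht₁, hz₂]
  let O : Wb.Opens := ⟨pullback.fst β p '' Set.range k, by
    haveI : Fpqc (pullback.fst β p) := inferInstance
    exact isOpen_of_isOpen_preimage (pullback.fst β p) (by rw [hsat]; exact k.isOpenEmbedding.isOpen_range)⟩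
  let q : Y ⟶ O.toScheme := IsOpenImmersion.lift O.ι h (by
    rintro _ ⟨y, rfl⟩
    rw [Scheme.Opens.range_ι]
    exact ⟨k y, ⟨y, rfl⟩, by rw [← Scheme.Hom.comp_apply, hk₁]⟩)
  have hq : q ≫ O.ι = h := IsOpenImmersion.lift_fac _ _ _
  refine ⟨O, O.ι ≫ β, q, fun T a b r => ?_, fun T a c r => Stable.exists_lift hj a c r, ?_⟩
  · rw [← cancel_mono O.ι, Category.assoc, Category.assoc, hq]
    exact hrel a b r
  · have top : IsPullback q k O.ι (pullback.fst β p) := IsOpenImmersion.isPullback _ _ _ _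
      (hk₁.trans hq.symm) (Opens.ext (by
        change pullback.fst β p ⁻¹' (O.ι.opensRange : Set Wb) = (k.opensRange : Set _)
        rw [Scheme.Opens.opensRange_ι]
        exact hsat))
    have := top.paste_vert (IsPullback.of_hasPullback β p)
    rwa [hk₂] at this

/-- Open immersions descend along fpqc morphisms. -/
theorem exists_isQuot_of_isOpenImmersion [Fpqc p] [IsOpenImmersion D.obj.hom] :
    ∃ (U : Scheme.{u}) (g : U ⟶ S) (q : D.obj.left ⟶ U), IsQuot D (𝟙 _) g q := by
  have hsat : p ⁻¹' (p '' Set.range D.obj.hom) = Set.range D.obj.hom := by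
    refine subset_antisymm ?_ (Set.subset_preimage_image _ _)
    rintro x₂ ⟨x₁, ⟨v, rfl⟩, he⟩
    obtain ⟨z, hz₁, hz₂⟩ := Scheme.Pullback.exists_preimage_pullback (f := D.obj.hom ≫ p) (g := p) v x₂
      (by rwa [Scheme.Hom.comp_apply])
    obtain ⟨b, hb, -⟩ := exists_rel (pullback.fst (D.obj.hom ≫ p) p) (pullback.snd (D.obj.hom ≫ p) p)
      (by rw [Category.assoc, pullback.condition])
    exact ⟨b z, by rw [← Scheme.Hom.comp_apply, hb, hz₂]⟩
  let O : S.Opens := ⟨p '' Set.range D.obj.hom,
    isOpen_of_isOpen_preimage p (by rw [hsat]; exact D.obj.hom.isOpenEmbedding.isOpen_range)⟩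
  let q : D.obj.left ⟶ O.toScheme := IsOpenImmersion.lift O.ι (D.obj.hom ≫ p) (by
    rintro _ ⟨v, rfl⟩
    rw [Scheme.Opens.range_ι, Scheme.Hom.comp_apply]
    exact ⟨_, ⟨v, rfl⟩, rfl⟩)
  have hq : q ≫ O.ι = D.obj.hom ≫ p := IsOpenImmersion.lift_fac _ _ _
  refine ⟨O, O.ι, q, fun T a b r => ?_, fun T a c _ => ⟨c, Category.comp_id c⟩, ?_⟩
  · rw [← cancel_mono O.ι, Category.assoc, Category.assoc, hq, ← Category.assoc, ← Category.assoc]
    simpa only [Category.comp_id] using r.1
  · rw [Category.id_comp]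
    refine IsOpenImmersion.isPullback _ _ _ _ hq.symm (Opens.ext ?_)
    change p ⁻¹' (O.ι.opensRange : Set S) = (D.obj.hom.opensRange : Set X)
    rw [Scheme.Opens.opensRange_ι]
    exact hsat

end DescLib
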