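import Groth.Agent.DescLib.Ops

/-! Augmented diagrams of spaces, their inverse image functors and composition. -/

set_option linter.style.haveILetI false

universe u

open CategoryTheory CategoryTheory.Limits TopologicalSpace Opposite Topology

namespace Groth.DescLib

noncomputable section

variable {𝒮 : Type} [SmallCategory 𝒮] {ℰ : Type} [SmallCategory ℰ]

lemma openEmb_id {Y : 𝒮 ⥤ TopCat.{u}} (t : 𝒮) : IsOpenEmbedding ((𝟙 Y : Y ⟶ Y).app t) :=
  IsOpenEmbedding.id

section Rel

variable (p : 𝒮 ⥤ ℰ) (B : ℰ ⥤ TopCat.{u})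

/-- The functor to the total site of the base. -/
abbrev pushB : Tot (p ⋙ B) ⥤ Tot B := push p (𝟙 (p ⋙ B)) openEmb_id

/-- Restriction along a functor of indices. -/
abbrev restrB : TSh B ⥤ TSh (p ⋙ B) :=
  (pushB p B).sheafPushforwardContinuous AddCommGrpCat.{u} (totJ (p ⋙ B)) (totJ B)

instance : (restrB p B).Additive := additive_restr _ _ _
instance : PreservesFiniteLimits (restrB p B) := preservesFiniteLimits_restr _ _ _
instance : PreservesFiniteColimits (restrB p B) := preservesFiniteColimits_restr _ _ _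

variable {Z : 𝒮 ⥤ TopCat.{u}} (α : Z ⟶ p ⋙ B)

/-- Inverse image along a relative augmentation. -/
def relθ : TSh B ⥤ TSh Z := restrB p B ⋙ pullS α

instance : (relθ p B α).Additive := inferInstanceAs (restrB p B ⋙ pullS α).Additive
instance : PreservesFiniteLimits (relθ p B α) := comp_preservesFiniteLimits _ _
instance : PreservesFiniteColimits (relθ p B α) := comp_preservesFiniteColimits _ _

/-- The direct image along a relative augmentation. -/
def relR : TSh Z ⥤ TSh B :=
  (pullF α).sheafPushforwardContinuous AddCommGrpCat.{u} (totJ (p ⋙ B)) (totJ Z) ⋙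
    (pushB p B).sheafPushforwardCocontinuous AddCommGrpCat.{u} (totJ (p ⋙ B)) (totJ B)

/-- The adjunction. -/
def relAdj : relθ p B α ⊣ relR p B α :=
  ((pushB p B).sheafAdjunctionCocontinuous AddCommGrpCat.{u} (totJ (p ⋙ B)) (totJ B)).comp
    ((pullF α).sheafAdjunctionContinuous AddCommGrpCat.{u} (totJ (p ⋙ B)) (totJ Z))

instance : (relR p B α).Additive := (relAdj p B α).right_adjoint_additive

end Rel

section Single

variable {S : TopCat.{u}} {Z : 𝒮 ⥤ TopCat.{u}} (ε : Z ⟶ (Functor.const 𝒮).obj S)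

variable (𝒮 S) in
/-- Constant extension of sheaves. -/
abbrev restrC : Sheaf (Opens.grothendieckTopology S) AddCommGrpCat.{u} ⥤
    TSh ((Functor.const 𝒮).obj S) :=
  (forget 𝒮 S).sheafPushforwardContinuous AddCommGrpCat.{u} (totJ _)
    (Opens.grothendieckTopology S)

instance : (restrC 𝒮 S).Additive := additive_restr _ _ _
instance : PreservesFiniteLimits (restrC 𝒮 S) := preservesFiniteLimits_restr _ _ _
instance : PreservesFiniteColimits (restrC 𝒮 S) := preservesFiniteColimits_restr _ _ _

/-- Inverse image along an augmentation to a space. -/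
def augθ : Sheaf (Opens.grothendieckTopology S) AddCommGrpCat.{u} ⥤ TSh Z :=
  restrC 𝒮 S ⋙ pullS ε

instance : (augθ ε).Additive := inferInstanceAs (restrC 𝒮 S ⋙ pullS ε).Additive
instance : PreservesFiniteLimits (augθ ε) := comp_preservesFiniteLimits _ _
instance : PreservesFiniteColimits (augθ ε) := comp_preservesFiniteColimits _ _

/-- The direct image. -/
def augR : TSh Z ⥤ Sheaf (Opens.grothendieckTopology S) AddCommGrpCat.{u} :=
  (pullF ε).sheafPushforwardContinuous AddCommGrpCat.{u} (totJ _) (totJ Z) ⋙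
    (forget 𝒮 S).sheafPushforwardCocontinuous AddCommGrpCat.{u} (totJ _)
      (Opens.grothendieckTopology S)

/-- The adjunction. -/
def augAdj : augθ ε ⊣ augR ε :=
  ((forget 𝒮 S).sheafAdjunctionCocontinuous AddCommGrpCat.{u} (totJ _)
    (Opens.grothendieckTopology S)).comp
    ((pullF ε).sheafAdjunctionContinuous AddCommGrpCat.{u} (totJ _) (totJ Z))

instance : (augR ε).Additive := (augAdj ε).right_adjoint_additive

/-- Cohomological descent for an augmented diagram. -/
def Desc : Prop := IsFFPlus (augθ ε)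

variable {Z' : 𝒮 ⥤ TopCat.{u}} {ε' : Z' ⟶ (Functor.const 𝒮).obj S}

/-- Change of the diagram by an isomorphism. -/
lemma Desc.of_iso (h : Desc ε) (e : Z' ≅ Z) (he : e.hom ≫ ε = ε') : Desc ε' := by
  have h2 : IsFFPlus (augθ ε ⋙ pullS e.hom) := IsFFPlus.comp _ _ h (isFFPlus_pullS_iso e)
  exact h2.of_iso (Functor.associator _ _ _ ≪≫
    Functor.isoWhiskerLeft _ (pullSComp ε e.hom ε' he))

end Single

section Comp

variable (p : 𝒮 ⥤ ℰ) {B : ℰ ⥤ TopCat.{u}} {Z : 𝒮 ⥤ TopCat.{u}} (α : Z ⟶ p ⋙ B) {S : TopCat.{u}}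
  (β : B ⟶ (Functor.const ℰ).obj S) (ε : Z ⟶ (Functor.const 𝒮).obj S)
  (hε : ∀ s, ε.app s = α.app s ≫ β.app (p.obj s))

/-- The pulled back augmentation. -/
def pulledAug : p ⋙ B ⟶ (Functor.const 𝒮).obj S where
  app s := β.app (p.obj s)
  naturality _ _ f := β.naturality (p.map f)

variable (S) in
/-- Constant diagrams pull back to constant diagrams. -/
def constComp : (Functor.const 𝒮).obj S ⟶ p ⋙ (Functor.const ℰ).obj S where
  app _ := 𝟙 S
  naturality _ _ _ := rfl

variable (S) in
lemma openEmb_constComp (t : 𝒮) : IsOpenEmbedding ((constComp p S).app t) := IsOpenEmbedding.id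

variable (S) in
/-- Forgetting indices in two steps. -/
def pushForgetIso : push p (constComp p S) (openEmb_constComp p S) ⋙ forget ℰ S ≅ forget 𝒮 S :=
  NatIso.ofComponents (fun A => eqToIso (Opens.ext (Set.image_id _)))
    (fun _ => Subsingleton.elim _ _)

set_option maxHeartbeats 200000 in
/-- The base change step. -/
def augCompStep :
    pullS β ⋙ restrB p B ≅
      (push p (constComp p S) (openEmb_constComp p S)).sheafPushforwardContinuous AddCommGrpCat.{u}
        (totJ ((Functor.const 𝒮).obj S)) (totJ ((Functor.const ℰ).obj S)) ⋙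
        pullS (pulledAug p β) :=
  (pullPushIso β (pulledAug p β) p (constComp p S) (openEmb_constComp p S) (𝟙 (p ⋙ B))
    openEmb_id (fun _ _ => rfl)).symm

include hε in
lemma pulledAug_comp : α ≫ pulledAug p β = ε := by
  ext s : 2
  exact (hε s).symm

variable (S) in
set_option maxHeartbeats 200000 in
/-- Constant extensions compose. -/
def restrCCompIso :
    restrC ℰ S ⋙ (push p (constComp p S) (openEmb_constComp p S)).sheafPushforwardContinuous
        AddCommGrpCat.{u} (totJ ((Functor.const 𝒮).obj S)) (totJ ((Functor.const ℰ).obj S)) ≅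
      restrC 𝒮 S :=
  Functor.sheafPushforwardContinuousComp' (pushForgetIso p S)
    AddCommGrpCat.{u} (totJ _) (totJ _) (Opens.grothendieckTopology S)

set_option maxHeartbeats 200000 in
include hε in
/-- Composition of inverse images along augmentations. -/
def augCompIso : augθ β ⋙ relθ p B α ≅ augθ ε :=
  calc augθ β ⋙ relθ p B α
      ≅ restrC ℰ S ⋙ (pullS β ⋙ restrB p B) ⋙ pullS α := Iso.refl _
    _ ≅ restrC ℰ S ⋙ ((push p (constComp p S) (openEmb_constComp p S)).sheafPushforwardContinuous
          AddCommGrpCat.{u} (totJ ((Functor.const 𝒮).obj S)) (totJ ((Functor.const ℰ).obj S)) ⋙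
          pullS (pulledAug p β)) ⋙ pullS α :=
        Functor.isoWhiskerLeft _ (Functor.isoWhiskerRight (augCompStep p β) _)
    _ ≅ (restrC ℰ S ⋙ (push p (constComp p S) (openEmb_constComp p S)).sheafPushforwardContinuous
          AddCommGrpCat.{u} (totJ ((Functor.const 𝒮).obj S)) (totJ ((Functor.const ℰ).obj S))) ⋙
          (pullS (pulledAug p β) ⋙ pullS α) := Iso.refl _
    _ ≅ restrC 𝒮 S ⋙ (pullS (pulledAug p β) ⋙ pullS α) :=
        Functor.isoWhiskerRight (restrCCompIso p S) _
    _ ≅ restrC 𝒮 S ⋙ pullS ε :=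
        Functor.isoWhiskerLeft _ (pullSComp (pulledAug p β) α ε (pulledAug_comp p α β ε hε))
    _ ≅ augθ ε := Iso.refl _

include hε in
lemma Desc.comp (hβ : Desc β) (hα : IsFFPlus (relθ p B α)) : Desc ε :=
  (IsFFPlus.comp (augθ β) (relθ p B α) hβ hα).of_iso (augCompIso p α β ε hε)

include hε in
lemma Desc.of_comp (h : Desc ε) (hα : IsFFPlus (relθ p B α)) : Desc β :=
  haveI : PreservesFiniteLimits (augθ β ⋙ relθ p B α) := comp_preservesFiniteLimits _ _
  haveI : PreservesFiniteColimits (augθ β ⋙ relθ p B α) := comp_preservesFiniteColimits _ _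
  have h1 : IsFFPlus (augθ ε) := h
  have h2 : IsFFPlus (augθ β ⋙ relθ p B α) :=
    IsFFPlus.of_iso (θ := augθ ε) (θ' := augθ β ⋙ relθ p B α) h1 (augCompIso p α β ε hε).symm
  IsFFPlus.of_comp (augθ β) (relθ p B α) hα h2

end Comp

end

end Groth.DescLib
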