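import Mathlib.CategoryTheory.Sites.CoverLifting
import Mathlib.CategoryTheory.Sites.Pullback
import Mathlib.CategoryTheory.Adjunction.Mates
import Mathlib.CategoryTheory.GuitartExact.Basic
import Mathlib.CategoryTheory.Limits.Final
import Mathlib.CategoryTheory.Sites.Abelian
import Mathlib.Algebra.Category.Grp.AB
import Mathlib.Algebra.Category.Grp.Limits
import Mathlib.Algebra.Category.Grp.Colimits
import Mathlib.Algebra.Category.Grp.FilteredColimits

/-! Base change for sheaves of abelian groups along squares of functors between small sites. -/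

set_option linter.style.haveILetI false

universe u

open CategoryTheory CategoryTheory.Limits Opposite

namespace Groth.DescLib

noncomputable section

/-- A criterion for exact squares: a distinguished object joined to every other one by a span. -/
theorem guitartExact_of_span {C₁ C₂ C₃ C₄ : Type u} [SmallCategory C₁] [SmallCategory C₂]
    [SmallCategory C₃] [SmallCategory C₄] {T : C₁ ⥤ C₂} {L : C₁ ⥤ C₃} {R : C₂ ⥤ C₄} {B : C₃ ⥤ C₄}
    (w : TwoSquare T L R B)
    (h : ∀ {X₂ : C₂} {X₃ : C₃} (g : R.obj X₂ ⟶ B.obj X₃),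
      ∃ X₀ : w.CostructuredArrowDownwards g, ∀ X : w.CostructuredArrowDownwards g,
        Zigzag X X₀) : w.GuitartExact := by
  rw [TwoSquare.guitartExact_iff_isConnected_downwards]
  intro X₂ X₃ g
  obtain ⟨X₀, hX₀⟩ := h g
  haveI : Nonempty (w.CostructuredArrowDownwards g) := ⟨X₀⟩
  exact zigzag_isConnected fun X X' => (hX₀ X).trans (Zigzag.symm (hX₀ X'))

variable {C₀ C₁ C G : Type u} [SmallCategory C₀] [SmallCategory C₁] [SmallCategory C]
  [SmallCategory G] {J₀ : GrothendieckTopology C₀} {J₁ : GrothendieckTopology C₁}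
  {J : GrothendieckTopology C} {JG : GrothendieckTopology G}
  (l : C₁ ⥤ C₀) (e : C₀ ⥤ C) (E : C₁ ⥤ G) (k : G ⥤ C) (τ : E ⋙ k ⟶ l ⋙ e)

/-- The square of presheaf indices. -/
abbrev opSquare : TwoSquare l.op E.op e.op k.op := TwoSquare.mk _ _ _ _ (NatTrans.op τ)

section Squares

variable [l.IsContinuous J₁ J₀] [e.IsContinuous J₀ J] [E.IsContinuous J₁ JG]
  [k.IsContinuous JG J]

/-- The square of restriction functors. -/
def restrSquare : TwoSquare (e.sheafPushforwardContinuous AddCommGrpCat.{u} J₀ J)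
    (k.sheafPushforwardContinuous AddCommGrpCat.{u} JG J)
    (l.sheafPushforwardContinuous AddCommGrpCat.{u} J₁ J₀)
    (E.sheafPushforwardContinuous AddCommGrpCat.{u} J₁ JG) :=
  TwoSquare.mk _ _ _ _
    { app := fun P => ⟨Functor.whiskerRight (NatTrans.op τ) P.obj⟩
      naturality := fun P Q f => by
        apply Sheaf.hom_ext
        apply NatTrans.ext
        funext X
        exact (f.hom.naturality (τ.app X.unop).op).symm }

instance restrSquare_isIso [IsIso τ] :
    IsIso (restrSquare (J₀ := J₀) (J₁ := J₁) (J := J) (JG := JG) l e E k τ).natTrans := by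
  haveI : ∀ P, IsIso ((restrSquare (J₀ := J₀) (J₁ := J₁) (J := J) (JG := JG) l e E k τ).natTrans.app
      P) := fun P => by
    rw [← isIso_iff_of_reflects_iso _ (sheafToPresheaf J₁ AddCommGrpCat.{u})]
    exact inferInstanceAs (IsIso (Functor.whiskerRight (NatTrans.op τ) P.obj))
  exact NatIso.isIso_of_isIso_app _

variable [k.IsCocontinuous JG J] [l.IsCocontinuous J₁ J₀]

/-- Base change for direct images. -/
def nuSquare : TwoSquare (k.sheafPushforwardCocontinuous AddCommGrpCat.{u} JG J)
    (E.sheafPushforwardContinuous AddCommGrpCat.{u} J₁ JG)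
    (e.sheafPushforwardContinuous AddCommGrpCat.{u} J₀ J)
    (l.sheafPushforwardCocontinuous AddCommGrpCat.{u} J₁ J₀) :=
  mateEquiv (k.sheafAdjunctionCocontinuous AddCommGrpCat.{u} JG J)
    (l.sheafAdjunctionCocontinuous AddCommGrpCat.{u} J₁ J₀)
    (restrSquare (J₀ := J₀) (J₁ := J₁) (J := J) (JG := JG) l e E k τ)

variable [(opSquare l e E k τ).GuitartExact]

theorem isIso_nuSquare :
    IsIso (nuSquare (J₀ := J₀) (J₁ := J₁) (J := J) (JG := JG) l e E k τ).natTrans := by
  suffices ∀ M, IsIso ((nuSquare (J₀ := J₀) (J₁ := J₁) (J := J) (JG := JG) l e E k τ).natTrans.app M)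
    from NatIso.isIso_of_isIso_app _
  intro M
  rw [← isIso_iff_of_reflects_iso _ (sheafToPresheaf J₀ AddCommGrpCat.{u})]
  let R := k.op.ran.obj M.obj
  let δ : l.op ⋙ e.op ⋙ R ⟶ E.op ⋙ M.obj :=
    Functor.whiskerRight (NatTrans.op τ) R ≫ Functor.whiskerLeft E.op (k.op.ranCounit.app M.obj)
  have hδ : (Functor.RightExtension.mk (e.op ⋙ R) δ).IsPointwiseRightKanExtension := fun U =>
    IsLimit.ofIsoLimit
      ((Functor.Initial.isLimitWhiskerEquiv ((opSquare l e E k τ).structuredArrowDownwards U) _).symm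
        (k.op.isPointwiseRightKanExtensionRanCounit M.obj (e.op.obj U)))
      (Cone.ext (Iso.refl _) (fun X => by
        change R.map (e.op.map X.hom ≫ (τ.app X.right.unop).op) ≫ _ =
          𝟙 _ ≫ R.map (e.op.map X.hom) ≫ R.map (τ.app X.right.unop).op ≫ _
        rw [Category.id_comp, Functor.map_comp, Category.assoc]
        rfl))
  haveI : (e.op ⋙ R).IsRightKanExtension δ := hδ.isRightKanExtension
  haveI : ((sheafToPresheaf J₀ AddCommGrpCat.{u}).obj
      ((E.sheafPushforwardContinuous AddCommGrpCat.{u} J₁ JG ⋙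
        l.sheafPushforwardCocontinuous AddCommGrpCat.{u} J₁ J₀).obj M)).IsRightKanExtension
      (l.op.ranCounit.app (E.op ⋙ M.obj)) :=
    inferInstanceAs ((l.op.ran.obj (E.op ⋙ M.obj)).IsRightKanExtension
      (l.op.ranCounit.app (E.op ⋙ M.obj)))
  haveI : ((sheafToPresheaf J₀ AddCommGrpCat.{u}).obj
      ((k.sheafPushforwardCocontinuous AddCommGrpCat.{u} JG J ⋙
        e.sheafPushforwardContinuous AddCommGrpCat.{u} J₀ J).obj M)).IsRightKanExtension δ :=
    inferInstanceAs ((e.op ⋙ R).IsRightKanExtension δ)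
  refine (Functor.isRightKanExtension_iff_isIso (L := l.op)
    ((sheafToPresheaf J₀ AddCommGrpCat.{u}).map
      ((nuSquare (J₀ := J₀) (J₁ := J₁) (J := J) (JG := JG) l e E k τ).natTrans.app M))
    (l.op.ranCounit.app (E.op ⋙ M.obj)) δ ?_).1 inferInstance
  have h := mateEquiv_counit (k.sheafAdjunctionCocontinuous AddCommGrpCat.{u} JG J)
    (l.sheafAdjunctionCocontinuous AddCommGrpCat.{u} J₁ J₀)
    (restrSquare (J₀ := J₀) (J₁ := J₁) (J := J) (JG := JG) l e E k τ) M
  have h' := congrArg (fun q => q.hom) h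
  simp only [ObjectProperty.FullSubcategory.comp_hom,
    Functor.sheafAdjunctionCocontinuous_counit_app_hom, Functor.ranAdjunction_counit] at h'
  exact h'

variable [(e.sheafPushforwardContinuous AddCommGrpCat.{u} J₀ J).IsRightAdjoint]
  [(E.sheafPushforwardContinuous AddCommGrpCat.{u} J₁ JG).IsRightAdjoint]

/-- Base change for inverse images. -/
def sigmaSquare : TwoSquare (l.sheafPushforwardContinuous AddCommGrpCat.{u} J₁ J₀)
    (e.sheafPullback AddCommGrpCat.{u} J₀ J)
    (E.sheafPullback AddCommGrpCat.{u} J₁ JG)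
    (k.sheafPushforwardContinuous AddCommGrpCat.{u} JG J) :=
  (mateEquiv (e.sheafAdjunctionContinuous AddCommGrpCat.{u} J₀ J)
    (E.sheafAdjunctionContinuous AddCommGrpCat.{u} J₁ JG)).symm
    (TwoSquare.mk _ _ _ _ (restrSquare (J₀ := J₀) (J₁ := J₁) (J := J) (JG := JG) l e E k τ).natTrans)

omit [l.IsCocontinuous J₁ J₀] [k.IsCocontinuous JG J] [(opSquare l e E k τ).GuitartExact] in
lemma mate_sigmaSquare :
    mateEquiv (e.sheafAdjunctionContinuous AddCommGrpCat.{u} J₀ J)
      (E.sheafAdjunctionContinuous AddCommGrpCat.{u} J₁ JG)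
      (sigmaSquare (J₀ := J₀) (J₁ := J₁) (J := J) (JG := JG) l e E k τ) =
    TwoSquare.mk _ _ _ _
      (restrSquare (J₀ := J₀) (J₁ := J₁) (J := J) (JG := JG) l e E k τ).natTrans :=
  Equiv.apply_symm_apply _ _

theorem isIso_sigmaSquare :
    IsIso (sigmaSquare (J₀ := J₀) (J₁ := J₁) (J := J) (JG := JG) l e E k τ).natTrans := by
  let adje := e.sheafAdjunctionContinuous AddCommGrpCat.{u} J₀ J
  let adjE := E.sheafAdjunctionContinuous AddCommGrpCat.{u} J₁ JG
  let adjk := k.sheafAdjunctionCocontinuous AddCommGrpCat.{u} JG J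
  let adjl := l.sheafAdjunctionCocontinuous AddCommGrpCat.{u} J₁ J₀
  let σ := sigmaSquare (J₀ := J₀) (J₁ := J₁) (J := J) (JG := JG) l e E k τ
  have h := iterated_mateEquiv_conjugateEquiv adje adjE adjl adjk σ
  have hn : IsIso (mateEquiv adjk adjl (mateEquiv adje adjE σ)).natTrans := by
    rw [show mateEquiv adje adjE σ = TwoSquare.mk _ _ _ _
      (restrSquare (J₀ := J₀) (J₁ := J₁) (J := J) (JG := JG) l e E k τ).natTrans from
        mate_sigmaSquare l e E k τ]
    exact isIso_nuSquare (J₀ := J₀) (J₁ := J₁) (J := J) (JG := JG) l e E k τ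
  haveI : IsIso (conjugateEquiv (adje.comp adjk) (adjl.comp adjE) σ.natTrans) := by
    have h' := hn
    rw [h] at h'
    exact h'
  exact conjugateEquiv_of_iso (adje.comp adjk) (adjl.comp adjE) σ.natTrans

end Squares

section Injective

variable [k.IsContinuous JG J]

/-- Restriction preserves injectives when the comma categories have discrete cofinal subcategories. -/
theorem injective_restr
    (hk : ∀ X : Cᵒᵖ, ∃ (ι : Type u) (T : ι → CostructuredArrow k.op X),
      (Discrete.functor T).Final)
    (I : Sheaf J AddCommGrpCat.{u}) [Injective I] :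
    Injective ((k.sheafPushforwardContinuous AddCommGrpCat.{u} JG J).obj I) := by
  haveI : (k.op.lan : (Gᵒᵖ ⥤ AddCommGrpCat.{u}) ⥤ _).PreservesMonomorphisms := by
    constructor
    intro P Q f hf
    rw [NatTrans.mono_iff_mono_app]
    intro X
    obtain ⟨ι, T, hT⟩ := hk X
    haveI := hT
    let Φ := lanEvaluationIsoColim AddCommGrpCat.{u} k.op X ≪≫
      Functor.isoWhiskerLeft _ (Functor.Final.colimIso (Discrete.functor T)).symm
    suffices Mono ((k.op.lan ⋙ (evaluation _ _).obj X).map f) from this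
    rw [← NatIso.naturality_2 Φ f]
    let g := ((Functor.whiskeringLeft _ _ AddCommGrpCat.{u}).obj
      (CostructuredArrow.proj k.op X) ⋙ (Functor.whiskeringLeft _ _ AddCommGrpCat.{u}).obj
        (Discrete.functor T)).map f
    haveI : ∀ i, Mono (g.app i) := fun i => inferInstanceAs (Mono (f.app _))
    haveI : Mono g := NatTrans.mono_of_mono_app g
    haveI : Mono ((((Functor.whiskeringLeft _ _ AddCommGrpCat.{u}).obj
        (CostructuredArrow.proj k.op X)) ⋙ (Functor.whiskeringLeft _ _ AddCommGrpCat.{u}).obj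
          (Discrete.functor T) ⋙ colim).map f) := inferInstanceAs (Mono (colim.map g))
    infer_instance

  haveI : (Functor.sheafPullbackConstruction.sheafPullback k AddCommGrpCat.{u} JG J).PreservesMonomorphisms :=
    haveI : (k.op.lan ⋙ presheafToSheaf J AddCommGrpCat.{u}).PreservesMonomorphisms :=
      Functor.preservesMonomorphisms_comp _ _
    Functor.preservesMonomorphisms_comp (sheafToPresheaf JG AddCommGrpCat.{u}) _
  exact Injective.injective_of_adjoint
    (Functor.sheafPullbackConstruction.sheafAdjunctionContinuous k AddCommGrpCat.{u} JG J) I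

end Injective

end

end Groth.DescLib
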