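import Groth.Prelude.Def_DescFam
import Groth.Agent.DescLib.Fpqc
import Mathlib.AlgebraicGeometry.OpenImmersion

/-!
# Descent data for schemes: related points, stable sets, quotients
-/

set_option autoImplicit false
set_option linter.style.haveILetI false
set_option backward.isDefEq.respectTransparency false
set_option backward.isDefEq.respectTransparency.types false

universe u

open CategoryTheory CategoryTheory.Limits AlgebraicGeometry

namespace DescLib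

open Desc

variable {X S : Scheme.{u}} {p : X ⟶ S} (D : SchDD p)

/-- Two points of the underlying scheme are related by the gluing bijections. -/
def Rel {T : Scheme.{u}} (a b : T ⟶ D.obj.left) : Prop :=
  ∃ h : (a ≫ D.obj.hom) ≫ p = (b ≫ D.obj.hom) ≫ p, (D.φ (a ≫ D.obj.hom) (b ≫ D.obj.hom) h ⟨a, rfl⟩).1 = b

variable {D}

theorem φ_congr {T : Scheme.{u}} {x₀ x₁ y₀ y₁ : T ⟶ X} (e₀ : x₀ = y₀) (e₁ : x₁ = y₁) (h : x₀ ≫ p = x₁ ≫ p)
    (h' : y₀ ≫ p = y₁ ≫ p) (v : Lifts D.obj x₀) (w : Lifts D.obj y₀) (e : v.1 = w.1) :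
    (D.φ x₀ x₁ h v).1 = (D.φ y₀ y₁ h' w).1 := by
  subst e₀ e₁
  obtain rfl : v = w := Subtype.ext e
  rfl

theorem rel_φ {T : Scheme.{u}} {x₀ x₁ : T ⟶ X} (h : x₀ ≫ p = x₁ ≫ p) (v : Lifts D.obj x₀) :
    Rel D v.1 (D.φ x₀ x₁ h v).1 := by
  have h' : (v.1 ≫ D.obj.hom) ≫ p = ((D.φ x₀ x₁ h v).1 ≫ D.obj.hom) ≫ p := by rw [v.2, (D.φ x₀ x₁ h v).2, h]
  exact ⟨h', φ_congr v.2 (D.φ x₀ x₁ h v).2 h' h _ _ rfl⟩

theorem Rel.φ_eq {T : Scheme.{u}} {a b : T ⟶ D.obj.left} (r : Rel D a b) {x₀ x₁ : T ⟶ X}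
    (e₀ : a ≫ D.obj.hom = x₀) (e₁ : b ≫ D.obj.hom = x₁) (h : x₀ ≫ p = x₁ ≫ p) :
    (D.φ x₀ x₁ h ⟨a, e₀⟩).1 = b :=
  (φ_congr e₀.symm e₁.symm h r.1 ⟨a, e₀⟩ ⟨a, rfl⟩ rfl).trans r.2

theorem Rel.refl {T : Scheme.{u}} (a : T ⟶ D.obj.left) : Rel D a a :=
  ⟨rfl, congrArg Subtype.val (D.φ_self _ _)⟩

theorem Rel.symm {T : Scheme.{u}} {a b : T ⟶ D.obj.left} (r : Rel D a b) : Rel D b a := by
  refine ⟨r.1.symm, ?_⟩
  have e : (⟨b, rfl⟩ : Lifts D.obj (b ≫ D.obj.hom)) = D.φ (a ≫ D.obj.hom) (b ≫ D.obj.hom) r.1 ⟨a, rfl⟩ :=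
    Subtype.ext r.2.symm
  rw [e, D.φ_comp]
  exact congrArg Subtype.val (D.φ_self _ _)

theorem Rel.trans {T : Scheme.{u}} {a b c : T ⟶ D.obj.left} (r : Rel D a b) (r' : Rel D b c) : Rel D a c := by
  refine ⟨r.1.trans r'.1, ?_⟩
  have e : (⟨b, rfl⟩ : Lifts D.obj (b ≫ D.obj.hom)) = D.φ (a ≫ D.obj.hom) (b ≫ D.obj.hom) r.1 ⟨a, rfl⟩ :=
    Subtype.ext r.2.symm
  rw [← D.φ_comp _ (b ≫ D.obj.hom) _ r.1 r'.1, ← e]
  exact r'.2

theorem Rel.comp {T T' : Scheme.{u}} {a b : T ⟶ D.obj.left} (r : Rel D a b) (g : T' ⟶ T) :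
    Rel D (g ≫ a) (g ≫ b) := by
  have h' : (g ≫ a ≫ D.obj.hom) ≫ p = (g ≫ b ≫ D.obj.hom) ≫ p := by
    rw [Category.assoc, r.1, ← Category.assoc]
  have e := D.φ_natural g (a ≫ D.obj.hom) (b ≫ D.obj.hom) r.1 h' ⟨a, rfl⟩ ⟨g ≫ a, Category.assoc _ _ _⟩ rfl
  rw [r.2] at e
  have h'' : ((g ≫ a) ≫ D.obj.hom) ≫ p = ((g ≫ b) ≫ D.obj.hom) ≫ p := by
    rw [Category.assoc g a, Category.assoc g b]; exact h'
  exact ⟨h'', (φ_congr (Category.assoc _ _ _) (Category.assoc _ _ _) h'' h' _ _ rfl).trans e⟩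

theorem exists_rel {T : Scheme.{u}} (a : T ⟶ D.obj.left) (x : T ⟶ X) (h : (a ≫ D.obj.hom) ≫ p = x ≫ p) :
    ∃ b, b ≫ D.obj.hom = x ∧ Rel D a b :=
  ⟨_, (D.φ _ _ h ⟨a, rfl⟩).2, rel_φ h ⟨a, rfl⟩⟩

theorem Rel.eq {T : Scheme.{u}} {a b : T ⟶ D.obj.left} (r : Rel D a b)
    (e : a ≫ D.obj.hom = b ≫ D.obj.hom) : a = b := by
  have h := r.φ_eq e rfl rfl
  rw [D.φ_self] at h
  exact h

/-- A set of points stable under the gluing bijections. -/
def Stable (D : SchDD p) (W : Set D.obj.left) : Prop :=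
  ∀ ⦃T : Scheme.{u}⦄ (a b : T ⟶ D.obj.left), Rel D a b → ∀ t : T, a t ∈ W → b t ∈ W

theorem stable_univ : Stable D Set.univ := fun _ _ _ _ _ _ => trivial

theorem Stable.inter {W W' : Set D.obj.left} (h : Stable D W) (h' : Stable D W') : Stable D (W ∩ W') :=
  fun _ a b r t ht => ⟨h a b r t ht.1, h' a b r t ht.2⟩

theorem stable_preimage {Z : Scheme.{u}} (f : D.obj.left ⟶ Z)
    (hf : ∀ ⦃T : Scheme.{u}⦄ (a b : T ⟶ D.obj.left), Rel D a b → a ≫ f = b ≫ f) (O : Set Z) :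
    Stable D (f ⁻¹' O) := fun _ a b r t ht => by
  change f (b t) ∈ O
  rw [← Scheme.Hom.comp_apply, ← hf a b r, Scheme.Hom.comp_apply]
  exact ht

theorem stable_base (O : Set S) : Stable D ((D.obj.hom ≫ p) ⁻¹' O) :=
  stable_preimage _ (fun T a b r => by simpa only [Category.assoc] using r.1) O

theorem Stable.exists_lift {Y T : Scheme.{u}} {j : Y ⟶ D.obj.left} [IsOpenImmersion j]
    (hj : Stable D (Set.range j)) (a : T ⟶ Y) (c : T ⟶ D.obj.left) (r : Rel D (a ≫ j) c) :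
    ∃ b, b ≫ j = c :=
  ⟨IsOpenImmersion.lift j c (by rintro _ ⟨t, rfl⟩; exact hj _ _ r t ⟨a t, (Scheme.Hom.comp_apply a j t).symm⟩),
    IsOpenImmersion.lift_fac _ _ _⟩

/-- `q : Y ⟶ U` exhibits `U` as the quotient of the stable part `j : Y ⟶ V` of the descent datum. -/
structure IsQuot (D : SchDD p) {Y U : Scheme.{u}} (j : Y ⟶ D.obj.left) (g : U ⟶ S) (q : Y ⟶ U) : Prop where
  rel : ∀ ⦃T : Scheme.{u}⦄ (a b : T ⟶ Y), Rel D (a ≫ j) (b ≫ j) → a ≫ q = b ≫ q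
  lift : ∀ ⦃T : Scheme.{u}⦄ (a : T ⟶ Y) (c : T ⟶ D.obj.left), Rel D (a ≫ j) c → ∃ b, b ≫ j = c
  isPullback : IsPullback q (j ≫ D.obj.hom) g p

namespace IsQuot

variable {Y U : Scheme.{u}} {j : Y ⟶ D.obj.left} {g : U ⟶ S} {q : Y ⟶ U}

theorem hom_ext (hq : IsQuot D j g q) {T : Scheme.{u}} {a b : T ⟶ Y} (e₁ : a ≫ q = b ≫ q)
    (e₂ : (a ≫ j) ≫ D.obj.hom = (b ≫ j) ≫ D.obj.hom) : a = b :=
  hq.isPullback.hom_ext e₁ (by simpa only [Category.assoc] using e₂)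

theorem w (hq : IsQuot D j g q) : q ≫ g = j ≫ D.obj.hom ≫ p := by
  simpa only [Category.assoc] using hq.isPullback.w

theorem rel_of_eq (hq : IsQuot D j g q) {T : Scheme.{u}} {a b : T ⟶ Y} (e : a ≫ q = b ≫ q) :
    Rel D (a ≫ j) (b ≫ j) := by
  have h : ((a ≫ j) ≫ D.obj.hom) ≫ p = ((b ≫ j) ≫ D.obj.hom) ≫ p := by
    simp only [Category.assoc]
    rw [← hq.w, ← Category.assoc, e, Category.assoc]
  obtain ⟨c, hc, r⟩ := exists_rel (a ≫ j) _ h
  obtain ⟨c', rfl⟩ := hq.lift a c r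
  rwa [hq.hom_ext (e.symm.trans (hq.rel a c' r)) hc.symm]

theorem fpqc (hq : IsQuot D j g q) [DescLib.Fpqc p] : DescLib.Fpqc q :=
  DescLib.Fpqc.of_isPullback hq.isPullback

/-- Morphisms invariant under the descent datum factor through the quotient. -/
theorem exists_desc (hq : IsQuot D j g q) [DescLib.Fpqc p] {Z : Scheme.{u}} (f : Y ⟶ Z)
    (hf : ∀ ⦃T : Scheme.{u}⦄ (a b : T ⟶ Y), Rel D (a ≫ j) (b ≫ j) → a ≫ f = b ≫ f) :
    ∃ t : U ⟶ Z, q ≫ t = f :=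
  haveI := hq.fpqc
  ⟨EffectiveEpi.desc q f fun a b e => hf a b (hq.rel_of_eq e), EffectiveEpi.fac _ _ _⟩

theorem of_iso (hq : IsQuot D j g q) {Y' : Scheme.{u}} (e : Y' ≅ Y) : IsQuot D (e.hom ≫ j) g (e.hom ≫ q) where
  rel T a b r := by
    have := hq.rel (a ≫ e.hom) (b ≫ e.hom) (by simpa only [Category.assoc] using r)
    simpa only [Category.assoc] using this
  lift T a c r := by
    obtain ⟨b, hb⟩ := hq.lift (a ≫ e.hom) c (by simpa only [Category.assoc] using r)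
    exact ⟨b ≫ e.inv, by simp [hb]⟩
  isPullback := hq.isPullback.of_iso e.symm (Iso.refl _) (Iso.refl _) (Iso.refl _) (by simp) (by simp) (by simp)
    (by simp)

theorem stable (hq : IsQuot D j g q) [IsOpenImmersion j] : Stable D (Set.range j) := by
  intro T a b r t ht
  obtain ⟨y, hy⟩ := ht
  let T₀ := pullback a j
  obtain ⟨z, hz, -⟩ := Scheme.Pullback.exists_preimage_pullback (f := a) (g := j) t y hy.symm
  obtain ⟨c, hc⟩ := hq.lift (pullback.snd a j) (pullback.fst a j ≫ b) (by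
    rw [← pullback.condition]; exact r.comp _)
  exact ⟨c z, by rw [← Scheme.Hom.comp_apply, hc, Scheme.Hom.comp_apply, hz]⟩

end IsQuot

/-- A descent datum with a quotient is effective. -/
theorem effective_of_isQuot {Y U : Scheme.{u}} {j : Y ⟶ D.obj.left} [IsIso j] {g : U ⟶ S} {q : Y ⟶ U}
    (hq : IsQuot D j g q) : ∃ U : Over S, Nonempty ((Desc.toDD p).obj U ≅ D) := by
  let e : pullback p g ≅ D.obj.left := hq.isPullback.flip.isoPullback.symm ≪≫ asIso j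
  have he₁ : e.hom ≫ D.obj.hom = pullback.fst p g := by
    simp [e]
  have he₂ : e.hom ≫ inv j ≫ q = pullback.snd p g := by
    simp [e]
  let f : (Desc.toDD p).obj (Over.mk g) ⟶ D :=
    ⟨Over.homMk e.hom he₁, fun T x₀ x₁ h v w hw => by
      have r := rel_φ h w
      have hc : w.1 ≫ inv j ≫ q = (D.φ x₀ x₁ h w).1 ≫ inv j ≫ q := by
        simpa only [Category.assoc] using hq.rel (w.1 ≫ inv j) ((D.φ x₀ x₁ h w).1 ≫ inv j) (by simpa using r)
      refine (cancel_mono e.inv).1 ?_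
      change _ = (_ ≫ e.hom) ≫ e.inv
      rw [Category.assoc, Iso.hom_inv_id, Category.comp_id]
      apply pullback.hom_ext
      · have h1 := (((Desc.toDD p).obj (Over.mk g)).φ x₀ x₁ h v).2
        change ((((Desc.toDD p).obj (Over.mk g)).φ x₀ x₁ h v).1) ≫ pullback.fst p g = x₁ at h1
        rw [h1, Category.assoc, ← he₁, Iso.inv_hom_id_assoc, (D.φ x₀ x₁ h w).2]
      · refine Eq.trans ?_ (pullback.lift_snd _ _ _).symm
        change w.1 = v.1 ≫ e.hom at hw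
        change ((D.φ x₀ x₁ h w).1 ≫ e.inv) ≫ pullback.snd p g = v.1 ≫ pullback.snd p g
        rw [Category.assoc, ← he₂, Iso.inv_hom_id_assoc, ← hc, hw, Category.assoc]⟩
  refine ⟨Over.mk g, ⟨⟨f, ⟨Over.homMk e.inv ?_, ?_⟩, ?_, ?_⟩⟩⟩
  · change e.inv ≫ pullback.fst p g = D.obj.hom
    rw [← he₁, Iso.inv_hom_id_assoc]
  · intro T x₀ x₁ h v w hw
    change w.1 = v.1 ≫ e.inv at hw
    have := f.comm x₀ x₁ h w v (by
      change v.1 = w.1 ≫ e.hom
      rw [hw, Category.assoc, Iso.inv_hom_id, Category.comp_id])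
    change (D.φ x₀ x₁ h v).1 = _ ≫ e.hom at this
    change _ = (D.φ x₀ x₁ h v).1 ≫ e.inv
    rw [this, Category.assoc, Iso.hom_inv_id, Category.comp_id]
  · ext1; ext1; exact e.hom_inv_id
  · ext1; ext1; exact e.inv_hom_id

/-- An effective subdatum gives a quotient. -/
theorem exists_isQuot_of_hom {D' : SchDD p} (f : D' ⟶ D) [IsOpenImmersion f.hom.left] {U' : Over S}
    (e : (Desc.toDD p).obj U' ≅ D') : ∃ q, IsQuot D f.hom.left U'.hom q := by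
  let ei : pullback p U'.hom ≅ D'.obj.left :=
    ⟨e.hom.hom.left, e.inv.hom.left, congrArg (fun z => z.hom.left) e.hom_inv_id,
      congrArg (fun z => z.hom.left) e.inv_hom_id⟩
  have hei : ei.hom ≫ D'.obj.hom = pullback.fst p U'.hom := Over.w e.hom.hom
  have hjπ : f.hom.left ≫ D.obj.hom = D'.obj.hom := Over.w f.hom
  have key : ∀ {T : Scheme.{u}} {a b : T ⟶ D'.obj.left}, Rel D' a b →
      a ≫ ei.inv ≫ pullback.snd p U'.hom = b ≫ ei.inv ≫ pullback.snd p U'.hom := by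
    intro T a b r
    have hab := r.2
    let va : Lifts ((Desc.toDD p).obj U').obj (a ≫ D'.obj.hom) := ⟨a ≫ ei.inv, by
      change (a ≫ ei.inv) ≫ pullback.fst p U'.hom = _
      rw [← hei, Category.assoc, Iso.inv_hom_id_assoc]⟩
    have hc := e.hom.comm (a ≫ D'.obj.hom) (b ≫ D'.obj.hom) r.1 va ⟨a, rfl⟩ (by
      change a = (a ≫ ei.inv) ≫ ei.hom
      rw [Category.assoc, Iso.inv_hom_id, Category.comp_id])
    rw [hab] at hc
    rw [hc]
    change _ = (_ ≫ ei.hom) ≫ ei.inv ≫ pullback.snd p U'.hom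
    rw [Category.assoc, Iso.hom_inv_id_assoc]
    change (a ≫ ei.inv ≫ pullback.snd p U'.hom) = pullback.lift _ _ _ ≫ pullback.snd p U'.hom
    rw [pullback.lift_snd]
    exact (Category.assoc _ _ _).symm
  have push : ∀ {T : Scheme.{u}} {a b : T ⟶ D'.obj.left}, Rel D' a b →
      Rel D (a ≫ f.hom.left) (b ≫ f.hom.left) := by
    intro T a b r
    let w : Lifts D.obj (a ≫ D'.obj.hom) := ⟨a ≫ f.hom.left, by rw [Category.assoc, hjπ]⟩
    have hc := f.comm (a ≫ D'.obj.hom) (b ≫ D'.obj.hom) r.1 ⟨a, rfl⟩ w rfl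
    rw [r.2] at hc
    have := rel_φ r.1 w
    rwa [hc] at this
  have pull : ∀ {T : Scheme.{u}} (a : T ⟶ D'.obj.left) (c : T ⟶ D.obj.left),
      Rel D (a ≫ f.hom.left) c → ∃ b, b ≫ f.hom.left = c ∧ Rel D' a b := by
    intro T a c r
    have h : (a ≫ D'.obj.hom) ≫ p = (c ≫ D.obj.hom) ≫ p := by
      have := r.1; simp only [Category.assoc] at this ⊢; rwa [reassoc_of% hjπ] at this
    refine ⟨_, ?_, rel_φ h ⟨a, rfl⟩⟩
    let w : Lifts D.obj (a ≫ D'.obj.hom) := ⟨a ≫ f.hom.left, by rw [Category.assoc, hjπ]⟩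
    have hc := f.comm (a ≫ D'.obj.hom) (c ≫ D.obj.hom) h ⟨a, rfl⟩ w rfl
    rw [← hc]
    exact r.φ_eq w.2 rfl h
  refine ⟨ei.inv ≫ pullback.snd p U'.hom, ⟨fun T a b r => ?_, fun T a c r => ?_, ?_⟩⟩
  · obtain ⟨b', hb', r'⟩ := pull a _ r
    obtain rfl : b' = b := (cancel_mono f.hom.left).1 hb'
    exact key r'
  · obtain ⟨b, hb, -⟩ := pull a c r
    exact ⟨b, hb⟩
  · rw [hjπ]
    exact (IsPullback.of_hasPullback p U'.hom).flip.of_iso ei (Iso.refl _) (Iso.refl _) (Iso.refl _)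
      (by simp) (by simp [hei]) (by simp) (by simp)

end DescLib
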