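import Groth.Agent.DescLib.Crit
import Groth.Agent.FibDescSecLib.TopTot

/-! Augmented diagrams in the frozen formulation. -/

set_option backward.isDefEq.respectTransparency false
set_option backward.isDefEq.respectTransparency.types false
set_option linter.style.haveILetI false

universe u

open CategoryTheory CategoryTheory.Limits TopologicalSpace Opposite Topology
  Pseudofunctor.CoGrothendieck

namespace Groth.DescLib

noncomputable section

variable {D : Type} [SmallCategory D] (Y : (WithInitial D)ᵒᵖ ⥤ TopCat.{u})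

local notation "AUG" => FibDesc.topAug Y
local notation "PART" => FibDesc.part (FibDesc.topAug Y)

/-- The diagram underlying an augmented one. -/
abbrev augDiag : Dᵒᵖ ⥤ TopCat.{u} := FibDesc.toAug D ⋙ Y

/-- Its augmentation. -/
def augEps : augDiag Y ⟶ (Functor.const Dᵒᵖ).obj (Y.obj (FibDesc.bot D)) where
  app d := Y.map (FibDescSec.isTerminalBot.from ((FibDesc.toAug D).obj d))
  naturality d d' f := by
    refine (Y.map_comp _ _).symm.trans (Eq.trans ?_ (Category.comp_id _).symm)
    exact congrArg Y.map (FibDescSec.isTerminalBot.hom_ext _ _)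

/-- The comparison with the part. -/
def toPart : Tot (augDiag Y) ⥤ ∫ᶜ (PART) where
  obj A := ⟨A.base, A.U⟩
  map {A B} g := ⟨Tot.Hom.f g, (homOfLE (Tot.Hom.le g) :
    (A.U : Opens ((augDiag Y).obj A.base)) ⟶ (Opens.map ((augDiag Y).map (Tot.Hom.f g))).obj B.U)⟩
  map_id _ := FibDescSec.partExt Y rfl
  map_comp _ _ := FibDescSec.partExt Y rfl

abbrev partOpen (A : ∫ᶜ (PART)) : Opens ((augDiag Y).obj A.base) := A.fiber

/-- The inverse comparison. -/
def ofPart : ∫ᶜ (PART) ⥤ Tot (augDiag Y) where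
  obj A := ⟨A.base, partOpen Y A⟩
  map {A B} g := ⟨g.base, leOfHom (g.fiber :
    partOpen Y A ⟶ (Opens.map ((augDiag Y).map g.base)).obj (partOpen Y B))⟩
  map_id _ := Tot.ext' rfl
  map_comp _ _ := Tot.ext' rfl

/-- The comparison is an equivalence. -/
def toOfPart : toPart Y ⋙ ofPart Y ≅ 𝟭 _ :=
  NatIso.ofComponents (fun _ => Iso.refl _)
    (fun _ => Tot.ext' ((Category.comp_id _).trans (Category.id_comp _).symm))

/-- The comparison is an equivalence. -/
def ofToPart : ofPart Y ⋙ toPart Y ≅ 𝟭 _ :=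
  NatIso.ofComponents (fun _ => Iso.refl _)
    (fun _ => FibDescSec.partExt Y ((Category.comp_id _).trans (Category.id_comp _).symm))

lemma mem_totPart {A : ∫ᶜ (PART)} (T : Sieve A) :
    T ∈ FibDesc.totPart (AUG) (FibDesc.topAugTop Y) A ↔
      ∀ x ∈ partOpen Y A, ∃ (V : Opens ((augDiag Y).obj A.base)) (h : V ⟶ partOpen Y A),
        x ∈ V ∧ T ((ι (PART) A.base).map h) := by
  obtain ⟨i, U⟩ := A
  rw [Groth.FibSiteL.mem_totalTopology_iff
    (FibDescSec.isPreFibSite_baseChange (FibDesc.toAug D) (FibDescSec.isPreFibSite_topAug Y))]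
  constructor
  · rintro ⟨R, hR, hle⟩ x hx
    obtain ⟨V, h, hV, hxV⟩ := hR x hx
    exact ⟨V, h, hxV, hle _ (Sieve.image_mem_functorPushforward (ι (PART) i) R hV)⟩
  · intro h
    refine ⟨T.functorPullback (ι (PART) i), fun x hx => ?_, Sieve.functorPullback_pushforward_le _ _⟩
    obtain ⟨V, f, hxV, hV⟩ := h x hx
    exact ⟨V, f, hV, hxV⟩

lemma toPart_incl {i : Dᵒᵖ} {V U : Opens ((augDiag Y).obj i)} (h : V ⟶ U) :
    (toPart Y).map (Tot.incl h.le) = (ι (PART) i).map h := FibDescSec.partExt Y rfl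

lemma ofPart_ι {i : Dᵒᵖ} {V U : Opens ((augDiag Y).obj i)} (h : V ⟶ U) :
    (ofPart Y).map ((ι (PART) i).map h) = Tot.incl h.le := Tot.ext' rfl

lemma toPart_isContinuous :
    (toPart Y).IsContinuous (totJ (augDiag Y)) (FibDesc.totPart (AUG) (FibDesc.topAugTop Y)) := by
  refine isContinuous_of_fibres _ _ fun i => ?_
  haveI : (ι (PART) i).IsContinuous (Opens.grothendieckTopology ((augDiag Y).obj i))
      (FibDesc.totPart (AUG) (FibDesc.topAugTop Y)) := Groth.FibSiteL.isContinuous_ι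
    (FibDescSec.isPreFibSite_baseChange (FibDesc.toAug D) (FibDescSec.isPreFibSite_topAug Y)) i
  exact Functor.isContinuous_of_iso (F₁ := ι (PART) i)
    (NatIso.ofComponents (fun _ => Iso.refl _)
      (fun _ => FibDescSec.partExt Y ((Category.comp_id _).trans (Category.id_comp _).symm))) _ _

lemma toPart_isCocontinuous :
    (toPart Y).IsCocontinuous (totJ (augDiag Y)) (FibDesc.totPart (AUG) (FibDesc.topAugTop Y)) where
  cover_lift {A T} hT := by
    intro x hx
    obtain ⟨V, h, hxV, hV⟩ := (mem_totPart Y T).1 hT x hx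
    exact ⟨V, h.le, hxV, (congrArg (fun q => T.arrows q) (toPart_incl Y h)).mpr hV⟩

lemma ofPart_isContinuous :
    (ofPart Y).IsContinuous (FibDesc.totPart (AUG) (FibDesc.topAugTop Y)) (totJ (augDiag Y)) := by
  rw [Groth.FibSiteL.isContinuous_iff
    (FibDescSec.isPreFibSite_baseChange (FibDesc.toAug D) (FibDescSec.isPreFibSite_topAug Y))]
  intro i
  haveI : (totι (augDiag Y) i).IsContinuous
      (FibSite.baseChangeTop (FibDesc.topAugTop Y) (FibDesc.toAug D) i) (totJ (augDiag Y)) :=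
    totι_isContinuous i
  exact Functor.isContinuous_of_iso (F₁ := totι (augDiag Y) i)
    (NatIso.ofComponents (fun _ => Iso.refl _)
      (fun _ => Tot.ext' ((Category.comp_id _).trans (Category.id_comp _).symm))) _ _

lemma ofPart_isCocontinuous :
    (ofPart Y).IsCocontinuous (FibDesc.totPart (AUG) (FibDesc.topAugTop Y)) (totJ (augDiag Y)) where
  cover_lift {A T} hT := by
    rw [mem_totPart]
    intro x hx
    obtain ⟨V, h, hxV, hV⟩ := hT x hx
    refine ⟨V, homOfLE h, hxV, ?_⟩
    obtain ⟨i, U⟩ := A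
    exact (congrArg (fun q => T.arrows q) (ofPart_ι Y (homOfLE h))).mpr hV

/-- The square comparing the two inverse images. -/
def augTau : pullF (augEps Y) ⋙ (toPart Y ⋙ FibDesc.incl (AUG)) ⟶
    forget Dᵒᵖ (Y.obj (FibDesc.bot D)) ⋙ FibDesc.eps (AUG) where
  app A := FibDescSec.augHom Y (FibDescSec.isTerminalBot.from _)
    (le_refl ((Opens.map ((augEps Y).app A.base)).obj A.U))
  naturality _ _ _ := FibDescSec.augExt Y (FibDescSec.isTerminalBot.hom_ext _ _)

lemma aug_guitartExact :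
    (opSquare (forget Dᵒᵖ (Y.obj (FibDesc.bot D))) (FibDesc.eps (AUG)) (pullF (augEps Y))
      (toPart Y ⋙ FibDesc.incl (AUG)) (augTau Y)).GuitartExact := by
  refine zigzag_of_span fun U W g => ?_
  have hg : ∀ x ∈ W.U, (augEps Y).app W.base x ∈ (show Opens (Y.obj (FibDesc.bot D)) from U) := by
    intro x hx
    have h := FibDescSec.aug_le Y g hx
    rw [FibDescSec.isTerminalBot.hom_ext g.base (FibDescSec.isTerminalBot.from _)] at h
    exact h
  let X₀ : Tot ((Functor.const Dᵒᵖ).obj (Y.obj (FibDesc.bot D))) :=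
    ⟨W.base, (show Opens (Y.obj (FibDesc.bot D)) from U)⟩
  have hb : ∀ (O : Opens (Y.obj (FibDesc.bot D))), (∀ x ∈ W.U, (augEps Y).app W.base x ∈ O) →
      W.U ≤ (Opens.map ((augDiag Y).map (𝟙 W.base))).obj
        ((Opens.map ((augEps Y).app W.base)).obj O) := by
    intro O hO x hx
    change (augEps Y).app W.base ((augDiag Y).map (𝟙 W.base) x) ∈ O
    have e : (augDiag Y).map (𝟙 W.base) x = x := by simp
    exact (congrArg (fun z => (augEps Y).app W.base z ∈ O) e).mpr (hO x hx)
  let b₀ : W ⟶ (pullF (augEps Y)).obj X₀ := ⟨𝟙 W.base, hb _ hg⟩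
  refine ⟨X₀, 𝟙 _, b₀, FibDescSec.augExt Y (FibDescSec.isTerminalBot.hom_ext _ _),
    fun X a b _ => ?_⟩
  let bb : W.base ⟶ X.base := baseOf (B := (pullF (augEps Y)).obj X) b
  have hX : ∀ x ∈ W.U, (augEps Y).app W.base x ∈ X₀.U ⊓ X.U := fun x hx => ⟨hg x hx, by
    have h1 := ConcreteCategory.congr_hom ((augEps Y).naturality bb) x
    exact (congrArg (fun z => z ∈ X.U) h1).mp (Tot.Hom.mem b hx)⟩
  exact ⟨⟨W.base, X₀.U ⊓ X.U⟩, ⟨𝟙 W.base, hb _ hX⟩, Tot.incl inf_le_left, ⟨bb, inf_le_right⟩,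
    Tot.ext' (Category.id_comp (𝟙 W.base)), Tot.ext' (Category.id_comp bb), Subsingleton.elim _ _⟩

section

variable [HasSheafify (FibDesc.topAugTop Y (FibDesc.bot D)) AddCommGrpCat.{u}]
  [HasSheafify (FibDesc.totPart (FibDesc.topAug Y) (FibDesc.topAugTop Y)) AddCommGrpCat.{u}]

/-- The frozen predicate is descent of the augmentation. -/
theorem isCohDescentTop_iff_desc : FibDesc.IsCohDescentTop Y ↔ Desc (augEps Y) := by
  let J₀ : GrothendieckTopology (Opens (Y.obj (FibDesc.bot D))) :=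
    Opens.grothendieckTopology (Y.obj (FibDesc.bot D))
  let J := FibDesc.totAug (AUG) (FibDesc.topAugTop Y)
  let JP := FibDesc.totPart (AUG) (FibDesc.topAugTop Y)
  let JZ := totJ (augDiag Y)
  let JC := totJ ((Functor.const Dᵒᵖ).obj (Y.obj (FibDesc.bot D)))
  let e : Opens (Y.obj (FibDesc.bot D)) ⥤ ∫ᶜ (AUG) := FibDesc.eps (AUG)
  let j := FibDesc.incl (AUG)
  let ψ := toPart Y
  let φ := ofPart Y
  have hA := FibDescSec.isPreFibSite_topAug Y
  haveI : e.IsContinuous J₀ J := Groth.FibSiteL.isContinuous_ι hA _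
  haveI : RepresentablyFlat e := FibDescSec.flat_eps Y
  haveI : j.IsContinuous JP J :=
    FibDescSec.isContinuous_baseChangeFunctor _ hA (FibDescSec.thin_topAug Y)
  haveI : j.IsCocontinuous JP J :=
    FibDescSec.isCocontinuous_baseChangeFunctor _ hA (FibDescSec.thin_topAug Y)
  haveI : ψ.IsContinuous JZ JP := toPart_isContinuous Y
  haveI : ψ.IsCocontinuous JZ JP := toPart_isCocontinuous Y
  haveI : φ.IsContinuous JP JZ := ofPart_isContinuous Y
  haveI : φ.IsCocontinuous JP JZ := ofPart_isCocontinuous Y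
  haveI : (ψ ⋙ j).IsContinuous JZ J := Functor.isContinuous_comp ψ j JZ JP J
  haveI : (ψ ⋙ j).IsCocontinuous JZ J := isCocontinuous_comp ψ j JZ JP (L := J)
  haveI : (e.sheafPushforwardContinuous AddCommGrpCat.{u} J₀ J).IsRightAdjoint := inferInstance
  haveI : ∀ P, j.op.HasPointwiseRightKanExtension (H := AddCommGrpCat.{u}) P := inferInstance
  haveI := preservesFiniteLimits_pullback J₀ J e
  haveI := preservesFiniteLimits_restr JP J j
  haveI : PreservesFiniteLimits (FibDesc.pull (AUG) (FibDesc.topAugTop Y) AddCommGrpCat.{u}) :=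
    comp_preservesFiniteLimits _ _
  let θ : Sheaf (Opens.grothendieckTopology (Y.obj (FibDesc.bot D))) AddCommGrpCat.{u} ⥤
      Sheaf (FibDesc.totPart (AUG) (FibDesc.topAugTop Y)) AddCommGrpCat.{u} := FibDesc.pull (AUG) (FibDesc.topAugTop Y) AddCommGrpCat.{u}
  let R := ψ.sheafPushforwardContinuous AddCommGrpCat.{u} JZ JP
  let R' := φ.sheafPushforwardContinuous AddCommGrpCat.{u} JP JZ
  haveI : R.Additive := additive_restr _ _ _
  haveI : PreservesFiniteLimits R := preservesFiniteLimits_restr _ _ _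
  haveI : PreservesFiniteColimits R := preservesFiniteColimits_restr _ _ _
  haveI : R'.Additive := additive_restr _ _ _
  haveI : PreservesFiniteLimits R' := preservesFiniteLimits_restr _ _ _
  haveI : PreservesFiniteColimits R' := preservesFiniteColimits_restr _ _ _
  haveI : θ.Additive := FibDesc.additive_pull (FibDesc.topAug Y) (FibDesc.topAugTop Y) AddCommGrpCat.{u}
  haveI : PreservesFiniteLimits θ := comp_preservesFiniteLimits _ _
  haveI : PreservesFiniteColimits θ :=
    FibDesc.preservesFiniteColimits_pull (FibDesc.topAug Y) (FibDesc.topAugTop Y) AddCommGrpCat.{u}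
  haveI : PreservesFiniteLimits (θ ⋙ R) := comp_preservesFiniteLimits _ _
  haveI : PreservesFiniteColimits (θ ⋙ R) := comp_preservesFiniteColimits _ _
  have hR : IsFFPlus R := IsFFPlus.of_equivalence R R'
    ((Functor.sheafPushforwardContinuousId' (Iso.refl _) AddCommGrpCat.{u} JP).symm ≪≫
      (Functor.sheafPushforwardContinuousComp' (ofToPart Y) AddCommGrpCat.{u} JP JZ JP).symm)
    (Functor.sheafPushforwardContinuousComp' (toOfPart Y) AddCommGrpCat.{u} JZ JP JZ ≪≫
      Functor.sheafPushforwardContinuousId' (Iso.refl _) AddCommGrpCat.{u} JZ)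
  haveI : (forget Dᵒᵖ (Y.obj (FibDesc.bot D))).IsContinuous JC J₀ := forget_isContinuous _ _
  haveI : (forget Dᵒᵖ (Y.obj (FibDesc.bot D))).IsCocontinuous JC J₀ := forget_isCocontinuous _ _
  haveI := aug_guitartExact Y
  haveI := isIso_sigmaSquare (J₀ := J₀) (J₁ := JC) (J := J) (JG := JZ)
    (forget Dᵒᵖ (Y.obj (FibDesc.bot D))) e (pullF (augEps Y)) (ψ ⋙ j) (augTau Y)
  have Θ : θ ⋙ R ≅ augθ (augEps Y) :=
    Functor.isoWhiskerLeft (e.sheafPullback AddCommGrpCat.{u} J₀ J)
      (Functor.sheafPushforwardContinuousComp' (Iso.refl (ψ ⋙ j)) AddCommGrpCat.{u} JZ JP J) ≪≫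
    (asIso (sigmaSquare (J₀ := J₀) (J₁ := JC) (J := J) (JG := JZ)
      (forget Dᵒᵖ (Y.obj (FibDesc.bot D))) e (pullF (augEps Y)) (ψ ⋙ j) (augTau Y)).natTrans).symm
  constructor
  · rintro ⟨_, _, _, _, _, _, h⟩
    have h1 : IsFFPlus θ := ⟨inferInstance, inferInstance, inferInstance, h⟩
    exact (IsFFPlus.comp θ R h1 hR).of_iso Θ
  · intro h
    have h1 : IsFFPlus θ := IsFFPlus.of_comp θ R hR (IsFFPlus.of_iso h Θ.symm)
    exact ⟨inferInstance, inferInstance, inferInstance, inferInstance, inferInstance, inferInstance,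
      h1.bijective⟩

end

end

end Groth.DescLib
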