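import Groth.Agent.DescLib.Bridge
import Groth.Agent.FibDescSecLib.Cech
import Mathlib.Topology.Category.TopCat.Limits.Pullbacks
import Mathlib.CategoryTheory.Products.Basic

/-! The augmented Cech nerve, its base changes, and the bisimplicial space of two maps. -/

set_option backward.isDefEq.respectTransparency false
set_option backward.isDefEq.respectTransparency.types false
set_option linter.style.haveILetI false

universe u

open CategoryTheory CategoryTheory.Limits TopologicalSpace Opposite Topology

namespace Groth.DescLib

noncomputable section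

variable {X S : TopCat.{u}} (f : X ⟶ S)

/-- The Cech nerve. -/
abbrev cech : SimplexCategoryᵒᵖ ⥤ TopCat.{u} := (Arrow.mk f).cechNerve

/-- Its augmentation. -/
def cechEps : cech f ⟶ (Functor.const SimplexCategoryᵒᵖ).obj S where
  app _ := WidePullback.base _
  naturality n m g := by
    simp only [Functor.const_obj_map, Category.comp_id]
    exact WidePullback.lift_base _ _ _ _

/-- The frozen nerve is the Cech nerve. -/
def cechAugIso : augDiag (FibDesc.cechAug f) ≅ cech f :=
  NatIso.ofComponents (fun _ => Iso.refl _)
    (fun _ => (Category.comp_id _).trans (Category.id_comp _).symm)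

lemma cechAugIso_eps : (cechAugIso f).hom ≫ cechEps f = augEps (FibDesc.cechAug f) := by
  apply NatTrans.ext
  funext n
  exact @Category.id_comp TopCat _ _ _ ((cechEps f).app n)

/-- Descent for a map is descent for its Cech augmentation. -/
theorem isCohDescentMap_iff_desc : FibDesc.IsCohDescentMap f ↔ Desc (cechEps f) := by
  refine (isCohDescentTop_iff_desc (FibDesc.cechAug f)).trans ?_
  constructor
  · intro h
    exact Desc.of_iso (augEps (FibDesc.cechAug f)) h (cechAugIso f).symm
      ((congrArg ((cechAugIso f).inv ≫ ·) (cechAugIso_eps f).symm).trans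
        (Iso.inv_hom_id_assoc _ _))
  · intro h
    exact Desc.of_iso (cechEps f) h (cechAugIso f) (cechAugIso_eps f)

section BaseChange

variable {T : TopCat.{u}} (g : T ⟶ S)

/-- The base change of the Cech nerve. -/
def bc : SimplexCategoryᵒᵖ ⥤ TopCat.{u} where
  obj n := pullback ((cechEps f).app n) g
  map {n m} h := pullback.map _ _ _ _ ((cech f).map h) (𝟙 T) (𝟙 S) ((cechEps f).naturality h).symm
    ((Category.comp_id g).trans (Category.id_comp g).symm)
  map_id n := by
    apply pullback.hom_ext <;> simp [pullback.map, -Arrow.cechNerve_map]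
  map_comp h h' := by
    apply pullback.hom_ext <;> simp [pullback.map, -Arrow.cechNerve_map]

/-- Its augmentation. -/
def bcEps : bc f g ⟶ (Functor.const SimplexCategoryᵒᵖ).obj T where
  app n := pullback.snd _ _
  naturality n m h := by simp [bc, pullback.map]

/-- The projection to the Cech nerve. -/
def bcFst : bc f g ⟶ 𝟭 SimplexCategoryᵒᵖ ⋙ cech f where
  app n := pullback.fst _ _
  naturality n m h := by simp [bc, pullback.map]

lemma cech_map_π {Y : TopCat.{u}} (w : Y ⟶ S) {n m : SimplexCategoryᵒᵖ} (h : n ⟶ m)
    (k : Fin (m.unop.len + 1)) :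
    (cech w).map h ≫ WidePullback.π (fun _ => w) k =
      WidePullback.π (fun _ => w) (h.unop.toOrderHom k) :=
  WidePullback.lift_π _ _ _ _ _

lemma cech_map_base {Y : TopCat.{u}} (w : Y ⟶ S) {n m : SimplexCategoryᵒᵖ} (h : n ⟶ m) :
    (cech w).map h ≫ WidePullback.base (fun _ => w) = WidePullback.base (fun _ => w) :=
  WidePullback.lift_base _ _ _ _

/-- The nerve of a base change, one member. -/
def cechSndApp (n : SimplexCategoryᵒᵖ) : (cech (pullback.snd f g)).obj n ≅ (bc f g).obj n where
  hom := pullback.lift
    (WidePullback.lift (WidePullback.base (fun _ => pullback.snd f g) ≫ g)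
      (fun k => WidePullback.π (fun _ => pullback.snd f g) k ≫ pullback.fst f g) (fun k => by
        dsimp only [Arrow.mk_hom]
        rw [Category.assoc, pullback.condition,
          ← WidePullback.π_arrow (fun _ => pullback.snd f g) k, Category.assoc]))
    (WidePullback.base (fun _ => pullback.snd f g))
    (WidePullback.lift_base _ _ _ _)
  inv := WidePullback.lift (pullback.snd _ _)
    (fun k => pullback.lift (pullback.fst _ _ ≫ WidePullback.π (fun _ => f) k) (pullback.snd _ _)
      (by rw [Category.assoc, WidePullback.π_arrow]; exact pullback.condition))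
    (fun k => pullback.lift_snd _ _ _)
  hom_inv_id := by
    apply WidePullback.hom_ext
    · intro k
      apply pullback.hom_ext <;> simp [cechEps]
    · simp [cechEps]
  inv_hom_id := by
    apply pullback.hom_ext
    · apply WidePullback.hom_ext
      · intro k
        simp [cechEps]
      · simp [cechEps]
        exact pullback.condition.symm
    · simp [cechEps]

/-- The nerve of a base change. -/
def cechSndIso : cech (pullback.snd f g) ≅ bc f g :=
  NatIso.ofComponents (cechSndApp f g) (fun {n m} h => by
    apply pullback.hom_ext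
    · apply WidePullback.hom_ext
      · intro k
        simp [cechEps, bc, pullback.map, cechSndApp]
      · simp [cechEps, bc, pullback.map, cechSndApp]
    · simp [cechEps, bc, pullback.map, cechSndApp])

lemma cechSndIso_eps : (cechSndIso f g).hom ≫ bcEps f g = cechEps (pullback.snd f g) := by
  apply NatTrans.ext
  funext n
  exact pullback.lift_snd _ _ _

/-- Descent for a base change. -/
theorem isCohDescentMap_snd_iff :
    FibDesc.IsCohDescentMap (pullback.snd f g) ↔ Desc (bcEps f g) := by
  rw [isCohDescentMap_iff_desc]
  constructor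
  · intro h
    exact Desc.of_iso (cechEps (pullback.snd f g)) h (cechSndIso f g).symm
      ((congrArg ((cechSndIso f g).inv ≫ ·) (cechSndIso_eps f g).symm).trans
        (Iso.inv_hom_id_assoc _ _))
  · intro h
    exact Desc.of_iso (bcEps f g) h (cechSndIso f g) (cechSndIso_eps f g)

end BaseChange

/-- Descent only depends on the map up to isomorphism of the source. -/
theorem isCohDescentMap_of_iso {X' : TopCat.{u}} {f' : X' ⟶ S} (e : X' ≅ X) (he : e.hom ≫ f = f')
    (h : FibDesc.IsCohDescentMap f) : FibDesc.IsCohDescentMap f' := by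
  rw [isCohDescentMap_iff_desc] at h ⊢
  have he' : e.inv ≫ f' = f := by rw [← he, Iso.inv_hom_id_assoc]
  let E : cech f' ≅ cech f := NatIso.ofComponents (fun n =>
    { hom := WidePullback.lift (WidePullback.base (fun _ => f'))
        (fun k => WidePullback.π (fun _ => f') k ≫ e.hom)
        (fun k => by
          dsimp only [Arrow.mk_hom]
          rw [Category.assoc, he, WidePullback.π_arrow]
          rfl)
      inv := WidePullback.lift (WidePullback.base (fun _ => f))
        (fun k => WidePullback.π (fun _ => f) k ≫ e.inv)
        (fun k => by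
          dsimp only [Arrow.mk_hom]
          rw [Category.assoc, he', WidePullback.π_arrow]
          rfl)
      hom_inv_id := by
        apply WidePullback.hom_ext
        · intro k; simp
        · simp
      inv_hom_id := by
        apply WidePullback.hom_ext
        · intro k; simp
        · simp })
    (fun h => by
      apply WidePullback.hom_ext
      · intro k; simp
      · simp)
  refine Desc.of_iso (cechEps f) h E ?_
  apply NatTrans.ext
  funext n
  exact WidePullback.lift_base _ _ _ _

/-- Universal descent gives descent. -/
theorem isCohDescentMap_of_univ (h : FibDesc.IsUnivCohDescentMap f) : FibDesc.IsCohDescentMap f :=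
  isCohDescentMap_of_iso (pullback.snd f (𝟙 S)) (asIso (pullback.fst f (𝟙 S))).symm
    (by
      rw [Iso.symm_hom, asIso_inv, IsIso.inv_comp_eq, pullback.condition]
      exact (Category.comp_id _).symm)
    (h S (𝟙 S))

section Bisimplicial

variable {Y : TopCat.{u}} (v : Y ⟶ S)

/-- The indices of the bisimplicial space. -/
abbrev BiIdx : Type := SimplexCategoryᵒᵖ × SimplexCategoryᵒᵖ

/-- The bisimplicial space of two maps. -/
def bis : BiIdx ⥤ TopCat.{u} where
  obj s := pullback ((cechEps f).app s.1) ((cechEps v).app s.2)
  map {s s'} h := pullback.map _ _ _ _ ((cech f).map h.1) ((cech v).map h.2) (𝟙 S)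
    ((cechEps f).naturality h.1).symm ((cechEps v).naturality h.2).symm
  map_id s := by
    apply pullback.hom_ext <;> simp [pullback.map, -Arrow.cechNerve_map]
  map_comp h h' := by
    apply pullback.hom_ext <;> simp [pullback.map, -Arrow.cechNerve_map]

/-- The column projection. -/
def colP : BiIdx ⥤ SimplexCategoryᵒᵖ := CategoryTheory.Prod.snd _ _

/-- The row projection. -/
def rowP : BiIdx ⥤ SimplexCategoryᵒᵖ := CategoryTheory.Prod.fst _ _

/-- The relative augmentation to the columns. -/
def colAlpha : bis f v ⟶ colP ⋙ cech v where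
  app s := pullback.snd _ _
  naturality s s' h := by simp [bis, pullback.map, colP, -Arrow.cechNerve_map]

/-- The relative augmentation to the rows. -/
def rowAlpha : bis f v ⟶ rowP ⋙ cech f where
  app s := pullback.fst _ _
  naturality s s' h := by simp [bis, pullback.map, rowP, -Arrow.cechNerve_map]

/-- The augmentation. -/
def bisEps : bis f v ⟶ (Functor.const BiIdx).obj S where
  app s := pullback.snd _ _ ≫ (cechEps v).app s.2
  naturality s s' h := by
    have := (cechEps v).naturality h.2
    simp only [Functor.const_obj_map] at this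
    simp [bis, pullback.map, this, -Arrow.cechNerve_map]

/-- A column. -/
def colC (m : SimplexCategoryᵒᵖ) : SimplexCategoryᵒᵖ ⥤ BiIdx := CategoryTheory.Prod.sectL _ m

/-- A row. -/
def rowC (n : SimplexCategoryᵒᵖ) : SimplexCategoryᵒᵖ ⥤ BiIdx := CategoryTheory.Prod.sectR n _

def colEta (m : SimplexCategoryᵒᵖ) :
    colC m ⋙ colP ≅ (Functor.const SimplexCategoryᵒᵖ).obj m :=
  NatIso.ofComponents (fun _ => Iso.refl _) (fun _ => by simp [colC, colP]; rfl)

def rowEta (n : SimplexCategoryᵒᵖ) :
    rowC n ⋙ rowP ≅ (Functor.const SimplexCategoryᵒᵖ).obj n :=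
  NatIso.ofComponents (fun _ => Iso.refl _) (fun _ => by simp [rowC, rowP]; rfl)

lemma fibCond_col (m : SimplexCategoryᵒᵖ) : FibCond colP m (colC m) (colEta m) := by
  intro s g
  refine ⟨s.1, ((𝟙 s.1, g) : s ⟶ (colC m).obj s.1), Category.comp_id g, fun t b hb => ?_⟩
  obtain ⟨b₁, b₂⟩ := b
  have h2 : b₂ = g := (Category.comp_id b₂).symm.trans hb
  refine ⟨b₁, Prod.ext (Category.id_comp b₁) ((Category.comp_id g).trans h2.symm), fun w hw => ?_⟩
  exact (Category.id_comp w).symm.trans (congrArg Prod.fst hw)

lemma fibCond_row (n : SimplexCategoryᵒᵖ) : FibCond rowP n (rowC n) (rowEta n) := by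
  intro s g
  refine ⟨s.2, ((g, 𝟙 s.2) : s ⟶ (rowC n).obj s.2), Category.comp_id g, fun t b hb => ?_⟩
  obtain ⟨b₁, b₂⟩ := b
  have h2 : b₁ = g := (Category.comp_id b₁).symm.trans hb
  refine ⟨b₂, Prod.ext ((Category.comp_id g).trans h2.symm) (Category.id_comp b₂), fun w hw => ?_⟩
  exact (Category.id_comp w).symm.trans (congrArg Prod.snd hw)

/-- A column is a base change of the first nerve. -/
def colIso (m : SimplexCategoryᵒᵖ) : colC m ⋙ bis f v ≅ bc f ((cechEps v).app m) :=
  NatIso.ofComponents (fun _ => Iso.refl _) (fun {a b} h => by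
    refine (Category.comp_id _).trans (Eq.trans ?_ (Category.id_comp _).symm)
    apply pullback.hom_ext
    · exact (pullback.lift_fst _ _ _).trans (pullback.lift_fst _ _ _).symm
    · exact (pullback.lift_snd _ _ _).trans
        ((congrArg (pullback.snd ((cechEps f).app a) ((cechEps v).app m) ≫ ·)
          ((cech v).map_id m)).trans (pullback.lift_snd _ _ _).symm))

lemma colIso_eps (m : SimplexCategoryᵒᵖ) :
    (colIso f v m).hom ≫ bcEps f ((cechEps v).app m) = fibAug (colAlpha f v) (colEta m) := by
  apply NatTrans.ext
  funext n
  change 𝟙 _ ≫ pullback.snd ((cechEps f).app n) ((cechEps v).app m) =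
    pullback.snd ((cechEps f).app n) ((cechEps v).app m) ≫ (cech v).map (𝟙 m)
  simp [-Arrow.cechNerve_map]

/-- A row is a base change of the second nerve. -/
def rowIso (n : SimplexCategoryᵒᵖ) : rowC n ⋙ bis f v ≅ bc v ((cechEps f).app n) :=
  NatIso.ofComponents (fun m => pullbackSymmetry ((cechEps f).app n) ((cechEps v).app m))
    (fun {a b} h => by
      have k₁ : ((rowC n ⋙ bis f v).map h) ≫ pullback.fst ((cechEps f).app n) ((cechEps v).app b) =
          pullback.fst ((cechEps f).app n) ((cechEps v).app a) :=
        (pullback.lift_fst _ _ _).trans ((congrArg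
          (pullback.fst ((cechEps f).app n) ((cechEps v).app a) ≫ ·) ((cech f).map_id n)).trans
          (Category.comp_id _))
      have k₂ : ((rowC n ⋙ bis f v).map h) ≫ pullback.snd ((cechEps f).app n) ((cechEps v).app b) =
          pullback.snd ((cechEps f).app n) ((cechEps v).app a) ≫ (cech v).map h :=
        pullback.lift_snd _ _ _
      have k₃ : (bc v ((cechEps f).app n)).map h ≫
          pullback.fst ((cechEps v).app b) ((cechEps f).app n) =
          pullback.fst ((cechEps v).app a) ((cechEps f).app n) ≫ (cech v).map h :=
        pullback.lift_fst _ _ _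
      have k₄ : (bc v ((cechEps f).app n)).map h ≫
          pullback.snd ((cechEps v).app b) ((cechEps f).app n) =
          pullback.snd ((cechEps v).app a) ((cechEps f).app n) :=
        (pullback.lift_snd _ _ _).trans (Category.comp_id _)
      apply pullback.hom_ext
      · refine (Category.assoc _ _ _).trans (Eq.trans ?_ (Category.assoc _ _ _).symm)
        erw [pullbackSymmetry_hom_comp_fst, k₂, k₃, pullbackSymmetry_hom_comp_fst_assoc]
      · refine (Category.assoc _ _ _).trans (Eq.trans ?_ (Category.assoc _ _ _).symm)
        erw [pullbackSymmetry_hom_comp_snd, k₁, k₄, pullbackSymmetry_hom_comp_snd])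

lemma rowIso_eps (n : SimplexCategoryᵒᵖ) :
    (rowIso f v n).hom ≫ bcEps v ((cechEps f).app n) = fibAug (rowAlpha f v) (rowEta n) := by
  apply NatTrans.ext
  funext m
  change (pullbackSymmetry ((cechEps f).app n) ((cechEps v).app m)).hom ≫
      pullback.snd ((cechEps v).app m) ((cechEps f).app n) =
    pullback.fst ((cechEps f).app n) ((cechEps v).app m) ≫ (cech f).map (𝟙 n)
  simp [-Arrow.cechNerve_map]

/-- The columns are of descent. -/
theorem isFFPlus_col (h : ∀ m, Desc (bcEps f ((cechEps v).app m))) :
    IsFFPlus (relθ colP (cech v) (colAlpha f v)) :=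
  isFFPlus_relθ _ colC colEta fibCond_col
    fun m => Desc.of_iso _ (h m) (colIso f v m) (colIso_eps f v m)

/-- The rows are of descent. -/
theorem isFFPlus_row (h : ∀ n, Desc (bcEps v ((cechEps f).app n))) :
    IsFFPlus (relθ rowP (cech f) (rowAlpha f v)) :=
  isFFPlus_relθ _ rowC rowEta fibCond_row
    fun n => Desc.of_iso _ (h n) (rowIso f v n) (rowIso_eps f v n)

/-- Descent after base change along a nerve of universal descent gives descent. -/
theorem isCohDescentMap_of_bc (hv : FibDesc.IsUnivCohDescentMap v)
    (h : ∀ m, FibDesc.IsCohDescentMap (pullback.snd f ((cechEps v).app m))) :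
    FibDesc.IsCohDescentMap f := by
  rw [isCohDescentMap_iff_desc]
  have htot : Desc (bisEps f v) :=
    Desc.comp colP (colAlpha f v) (cechEps v) (bisEps f v) (fun s => rfl)
      ((isCohDescentMap_iff_desc v).1 (isCohDescentMap_of_univ v hv))
      (isFFPlus_col f v fun m => (isCohDescentMap_snd_iff f _).1 (h m))
  exact Desc.of_comp rowP (rowAlpha f v) (cechEps f) (bisEps f v)
    (fun s => pullback.condition.symm) htot
    (isFFPlus_row f v fun n => (isCohDescentMap_snd_iff v _).1 (hv _ _))

end Bisimplicial

end

end Groth.DescLib
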