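import Groth.Agent.DescLib.Inj

/-! Descent is detected on fibres of indices and locally on the base. -/

set_option linter.style.haveILetI false

universe u

open CategoryTheory CategoryTheory.Limits TopologicalSpace Opposite Topology
open scoped CategoryTheory.TwoSquare

namespace Groth.DescLib

noncomputable section

lemma isIso_vComp {C₁ C₂ C₃ C₄ C₅ C₆ : Type*} [Category C₁] [Category C₂] [Category C₃]
    [Category C₄] [Category C₅] [Category C₆] {T : C₁ ⥤ C₂} {L : C₁ ⥤ C₃} {R : C₂ ⥤ C₄}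
    {B : C₃ ⥤ C₄} {L' : C₃ ⥤ C₅} {R' : C₄ ⥤ C₆} {B' : C₅ ⥤ C₆} (w : TwoSquare T L R B)
    (w' : TwoSquare B L' R' B') [IsIso w.natTrans] [IsIso w'.natTrans] :
    IsIso (w ≫ᵥ w').natTrans := by
  dsimp [TwoSquare.vComp]
  infer_instance

lemma isIso_hComp {C₁ C₂ C₃ C₄ C₅ C₆ : Type*} [Category C₁] [Category C₂] [Category C₃]
    [Category C₄] [Category C₅] [Category C₆] {T : C₁ ⥤ C₂} {L : C₁ ⥤ C₃} {R : C₂ ⥤ C₄}
    {B : C₃ ⥤ C₄} {T' : C₂ ⥤ C₅} {R' : C₅ ⥤ C₆} {B' : C₄ ⥤ C₆} (w : TwoSquare T L R B)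
    (w' : TwoSquare T' R R' B') [IsIso w.natTrans] [IsIso w'.natTrans] :
    IsIso (w ≫ₕ w').natTrans := by
  dsimp [TwoSquare.hComp]
  infer_instance

section Transfer

variable {C₀ C₁ C G D H : Type u} [SmallCategory C₀] [SmallCategory C₁] [SmallCategory C]
  [SmallCategory G] [SmallCategory D] [SmallCategory H] {J₀ : GrothendieckTopology C₀}
  {J₁ : GrothendieckTopology C₁} {J : GrothendieckTopology C} {JG : GrothendieckTopology G}
  {JD : GrothendieckTopology D} {JH : GrothendieckTopology H}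
  (l : C₁ ⥤ C₀) (e : C₀ ⥤ C) (E : C₁ ⥤ G) (k : G ⥤ C) (τ₁ : E ⋙ k ⟶ l ⋙ e)
  (a : G ⥤ D) (a' : C₁ ⥤ H) (m : H ⥤ D) (τ₂ : a' ⋙ m ⟶ E ⋙ a)
  [l.IsContinuous J₁ J₀] [e.IsContinuous J₀ J] [E.IsContinuous J₁ JG] [k.IsContinuous JG J]
  [l.IsCocontinuous J₁ J₀] [e.IsCocontinuous J₀ J] [E.IsCocontinuous J₁ JG] [k.IsCocontinuous JG J]
  [a.IsContinuous JG JD] [a'.IsContinuous J₁ JH] [m.IsContinuous JH JD] [m.IsCocontinuous JH JD]
  [RepresentablyFlat a] [RepresentablyFlat a'] [IsIso τ₁] [IsIso τ₂]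
  [(opSquare l e E k τ₁).GuitartExact] [(opSquare E a a' m τ₂).GuitartExact]

include τ₁ τ₂ in
/-- Local transfer along two base change squares. -/
theorem quasiIso_restr
    {θ : Sheaf J AddCommGrpCat.{u} ⥤ Sheaf JD AddCommGrpCat.{u}}
    (hθ : θ = k.sheafPushforwardContinuous AddCommGrpCat.{u} JG J ⋙
      a.sheafPullback AddCommGrpCat.{u} JG JD)
    {R : Sheaf JD AddCommGrpCat.{u} ⥤ Sheaf J AddCommGrpCat.{u}}
    (adj : θ ⊣ R) [θ.Additive] [R.Additive]
    (hadj : HEq adj ((k.sheafAdjunctionCocontinuous AddCommGrpCat.{u} JG J).comp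
      (a.sheafAdjunctionContinuous AddCommGrpCat.{u} JG JD)))
    (hR : R = a.sheafPushforwardContinuous AddCommGrpCat.{u} JG JD ⋙
      k.sheafPushforwardCocontinuous AddCommGrpCat.{u} JG J)
    (hinj : ∀ I : Sheaf JD AddCommGrpCat.{u}, Injective I →
      Injective ((m.sheafPushforwardContinuous AddCommGrpCat.{u} JH JD).obj I))
    (hff : IsFFPlus (l.sheafPushforwardContinuous AddCommGrpCat.{u} J₁ J₀ ⋙
      a'.sheafPullback AddCommGrpCat.{u} J₁ JH))
    (L : CochainComplex (Sheaf J AddCommGrpCat.{u}) ℤ) (n : ℤ) [L.IsStrictlyGE n]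
    (I : CochainComplex (Sheaf JD AddCommGrpCat.{u}) ℤ) [I.IsStrictlyGE n]
    [∀ i, Injective (I.X i)]
    (α : (θ.mapHomologicalComplex (ComplexShape.up ℤ)).obj L ⟶ I) [QuasiIso α] (i : ℤ) :
    IsIso ((e.sheafPushforwardContinuous AddCommGrpCat.{u} J₀ J).map
      (HomologicalComplex.homologyMap (transposeC adj α) i)) := by
  subst hθ hR
  cases hadj
  haveI := additive_restr J₀ J e
  haveI := preservesFiniteLimits_restr J₀ J e
  haveI := preservesFiniteColimits_restr J₀ J e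
  haveI := additive_restr JH JD m
  haveI := preservesFiniteLimits_restr JH JD m
  haveI := preservesFiniteColimits_restr JH JD m
  haveI := additive_restr J₁ J₀ l
  haveI := preservesFiniteLimits_restr J₁ J₀ l
  haveI := preservesFiniteColimits_restr J₁ J₀ l
  haveI := additive_pullback J₁ JH a'
  haveI := preservesFiniteLimits_pullback J₁ JH a'
  haveI := preservesFiniteColimits_pullback J₁ JH a'
  let θ' := l.sheafPushforwardContinuous AddCommGrpCat.{u} J₁ J₀ ⋙
    a'.sheafPullback AddCommGrpCat.{u} J₁ JH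
  haveI : PreservesFiniteLimits θ' := comp_preservesFiniteLimits _ _
  haveI : PreservesFiniteColimits θ' := comp_preservesFiniteColimits _ _
  let adjk := k.sheafAdjunctionCocontinuous AddCommGrpCat.{u} JG J
  let adja := a.sheafAdjunctionContinuous AddCommGrpCat.{u} JG JD
  let adjl := l.sheafAdjunctionCocontinuous AddCommGrpCat.{u} J₁ J₀
  let adja' := a'.sheafAdjunctionContinuous AddCommGrpCat.{u} J₁ JH
  let adj' := adjl.comp adja'
  haveI : (a'.sheafPushforwardContinuous AddCommGrpCat.{u} J₁ JH ⋙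
      l.sheafPushforwardCocontinuous AddCommGrpCat.{u} J₁ J₀).Additive := adj'.right_adjoint_additive
  let σ₁ := restrSquare (J₀ := J₀) (J₁ := J₁) (J := J) (JG := JG) l e E k τ₁
  let σ₂ := sigmaSquare (J₀ := JG) (J₁ := J₁) (J := JD) (JG := JH) E a a' m τ₂
  haveI : IsIso σ₂.natTrans := isIso_sigmaSquare (J₀ := JG) (J₁ := J₁) (J := JD) (JG := JH) E a a' m τ₂
  haveI : IsIso σ₁.natTrans := restrSquare_isIso l e E k τ₁
  haveI : IsIso (σ₁ ≫ᵥ σ₂).natTrans := isIso_vComp σ₁ σ₂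
  haveI : IsIso (mateEquiv adjk adjl σ₁).natTrans :=
    isIso_nuSquare (J₀ := J₀) (J₁ := J₁) (J := J) (JG := JG) l e E k τ₁
  haveI : IsIso (mateEquiv adja adja' σ₂).natTrans := by
    rw [show mateEquiv adja adja' σ₂ = TwoSquare.mk _ _ _ _
      (restrSquare (J₀ := JG) (J₁ := J₁) (J := JD) (JG := JH) E a a' m τ₂).natTrans from
        mate_sigmaSquare E a a' m τ₂]
    exact restrSquare_isIso E a a' m τ₂
  haveI : IsIso (mateEquiv (adjk.comp adja) adj' (σ₁ ≫ᵥ σ₂)).natTrans := by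
    rw [mateEquiv_hcomp]
    exact isIso_hComp _ _
  haveI := quasiIso_map_transposeC (adjk.comp adja) adj'
    (e.sheafPushforwardContinuous AddCommGrpCat.{u} J₀ J)
    (m.sheafPushforwardContinuous AddCommGrpCat.{u} JH JD) (σ₁ ≫ᵥ σ₂) hinj
    (unitCrit_of_isFFPlus adj' hff) L n I α
  exact isIso_map_homologyMap _ _ i

end Transfer

section Fibrewise

variable {𝒮 ℰ : Type} [SmallCategory 𝒮] [SmallCategory ℰ] {p : 𝒮 ⥤ ℰ} {B : ℰ ⥤ TopCat.{u}}
  {Z : 𝒮 ⥤ TopCat.{u}} (α : Z ⟶ p ⋙ B)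
  {𝒯 : Type} [SmallCategory 𝒯] {k : ℰ} {c : 𝒯 ⥤ 𝒮} (η : c ⋙ p ≅ (Functor.const 𝒯).obj k)

/-- The comparison of the constant diagram with the fibre. -/
def fibGamma : (Functor.const 𝒯).obj (B.obj k) ⟶ c ⋙ (p ⋙ B) where
  app t := B.map (η.inv.app t)
  naturality t t' v := by
    have h := η.inv.naturality v
    simp only [Functor.const_obj_map, Functor.comp_map] at h ⊢
    refine Eq.trans ?_ (B.map_comp (η.inv.app t) (p.map (c.map v)))
    exact (Category.id_comp _).trans (congrArg B.map ((Category.id_comp _).symm.trans h))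

lemma openEmb_fibGamma (t : 𝒯) : IsOpenEmbedding ((fibGamma (B := B) η).app t) := by
  have : IsIso ((fibGamma (B := B) η).app t) := inferInstanceAs (IsIso (B.map (η.inv.app t)))
  exact (TopCat.homeoOfIso (asIso ((fibGamma (B := B) η).app t))).isOpenEmbedding

/-- The augmentation of the fibre. -/
def fibAug : c ⋙ Z ⟶ (Functor.const 𝒯).obj (B.obj k) where
  app t := α.app (c.obj t) ≫ B.map (η.hom.app t)
  naturality t t' v := by
    have h := η.hom.naturality v
    simp only [Functor.const_obj_map, Functor.comp_map] at h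
    have h2 := α.naturality (c.map v)
    simp only [Functor.comp_map] at h2
    simp only [Functor.comp_map, Functor.const_obj_map]
    rw [reassoc_of% h2, ← B.map_comp, h]
    exact (congrArg (fun q => α.app (c.obj t) ≫ q)
      (congrArg B.map (Category.comp_id (η.hom.app t)))).trans (Category.comp_id _).symm

/-- The first square of the fibre. -/
def fibTau : push c (fibGamma (B := B) η) (openEmb_fibGamma η) ⋙ pushB p B ⟶
    forget 𝒯 (B.obj k) ⋙ totι B k where
  app A := ⟨η.hom.app A.base, by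
    rintro _ ⟨_, ⟨x, hx, rfl⟩, rfl⟩
    change B.map (η.hom.app A.base) (B.map (η.inv.app A.base) x) ∈ A.U
    have e : B.map (η.hom.app A.base) (B.map (η.inv.app A.base) x) = x := by
      rw [← ConcreteCategory.comp_apply, ← B.map_comp, Iso.inv_hom_id_app]
      simp
    exact (congrArg (fun z => z ∈ A.U) e).mpr hx⟩
  naturality A A' g := Tot.ext' (by
    have h := η.hom.naturality (baseOf g)
    simp only [Functor.comp_map, Functor.const_obj_map] at h
    exact h)

lemma fibTau_isIso : IsIso (fibTau (B := B) η) := by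
  haveI : ∀ A, IsIso ((fibTau (B := B) η).app A) := fun A => by
    refine ⟨⟨⟨η.inv.app A.base, fun x hx => ?_⟩, Tot.ext' ?_, Tot.ext' ?_⟩⟩
    · exact ⟨B.map (η.inv.app A.base) x, ⟨x, hx, rfl⟩, rfl⟩
    · exact η.hom_inv_id_app A.base
    · exact η.inv_hom_id_app A.base
  exact NatIso.isIso_of_isIso_app _

lemma fib_guitartExact (hc : FibCond p k c η) :
    (opSquare (forget 𝒯 (B.obj k)) (totι B k) (push c (fibGamma (B := B) η) (openEmb_fibGamma η))
      (pushB p B) (fibTau η)).GuitartExact := by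
  refine zigzag_of_span fun U W g => ?_
  let f : p.obj W.base ⟶ k :=
    baseOf (A := (pushB p B).obj W) (B := (totι B k).obj U) g
  obtain ⟨t₀, b₀, hb₀, hu⟩ := hc W.base f
  let X₀ : Tot ((Functor.const 𝒯).obj (B.obj k)) := ⟨t₀, U⟩
  have mem : ∀ (O : Opens (B.obj k)) (x : B.obj (p.obj W.base)), B.map f x ∈ O →
      B.map (p.map b₀) x ∈ ((push c (fibGamma (B := B) η) (openEmb_fibGamma η)).obj ⟨t₀, O⟩).U := by
    intro O x hx
    refine ⟨B.map f x, hx, ?_⟩
    change B.map (η.inv.app t₀) (B.map f x) = _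
    rw [← hb₀, B.map_comp, ConcreteCategory.comp_apply, ← ConcreteCategory.comp_apply,
      ← B.map_comp, Iso.hom_inv_id_app]
    simp
  have hg : ∀ x ∈ W.U, B.map f x ∈ U := fun x hx => Tot.Hom.mem g ⟨x, hx, rfl⟩
  let b : W ⟶ (push c (fibGamma (B := B) η) (openEmb_fibGamma η)).obj X₀ :=
    ⟨b₀, fun x hx => mem U x (hg x hx)⟩
  refine ⟨X₀, 𝟙 U, b, Tot.ext' ?_, fun X a bX hX => ?_⟩
  · change p.map b₀ ≫ η.hom.app t₀ ≫ 𝟙 k = f
    exact (congrArg (fun q => p.map b₀ ≫ q) (Category.comp_id (η.hom.app t₀))).trans hb₀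
  let bb : W.base ⟶ c.obj X.base :=
    baseOf (B := (push c (fibGamma (B := B) η) (openEmb_fibGamma η)).obj X) bX
  have hbb : p.map bb ≫ η.hom.app X.base = f := by
    have := congrArg Tot.Hom.f hX
    change p.map bb ≫ η.hom.app X.base ≫ 𝟙 k = f at this
    simpa using this
  obtain ⟨v, hv, -⟩ := hu X.base bb hbb
  have hX' : ∀ x ∈ W.U, B.map f x ∈ U ⊓ X.U := fun x hx => ⟨hg x hx, by
    obtain ⟨y, hy, e⟩ := Tot.Hom.mem bX hx
    have e2 : B.map (η.hom.app X.base) (B.map (η.inv.app X.base) y) = y := by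
      rw [← ConcreteCategory.comp_apply, ← B.map_comp, Iso.inv_hom_id_app]
      simp
    have e3 : B.map f x = y := by
      rw [← hbb, B.map_comp, ConcreteCategory.comp_apply]
      exact (congrArg (B.map (η.hom.app X.base)) e.symm).trans e2
    exact (congrArg (fun z => z ∈ X.U) e3).mpr hy⟩
  refine ⟨⟨t₀, U ⊓ X.U⟩, ⟨b₀, fun x hx => mem _ x (hX' x hx)⟩, Tot.incl inf_le_left,
    ⟨v, inf_le_right⟩, Tot.ext' ?_, Tot.ext' ?_, Subsingleton.elim _ _⟩
  · change b₀ ≫ c.map (𝟙 t₀) = b₀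
    simp
  · exact hv

/-- The restriction to a fibre of the unit is an isomorphism. -/
theorem isIso_fibre_homologyMap (hc : FibCond p k c η) (h : Desc (fibAug α η))
    (L : CochainComplex (TSh B) ℤ) (n : ℤ) [L.IsStrictlyGE n] (I : CochainComplex (TSh Z) ℤ)
    [I.IsStrictlyGE n] [∀ i, Injective (I.X i)]
    (f : ((relθ p B α).mapHomologicalComplex (ComplexShape.up ℤ)).obj L ⟶ I) [QuasiIso f] (i : ℤ) :
    IsIso (((totι B k).sheafPushforwardContinuous AddCommGrpCat.{u}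
      (Opens.grothendieckTopology (B.obj k)) (totJ B)).map
        (HomologicalComplex.homologyMap (transposeC (relAdj p B α) f) i)) := by
  haveI := fibTau_isIso (B := B) η
  haveI := fib_guitartExact (B := B) η hc
  have hcomm : ∀ t x, (fibGamma (B := B) η).app t ((fibAug α η).app t x) =
      α.app (c.obj t) ((𝟙 (c ⋙ Z) : c ⋙ Z ⟶ c ⋙ Z).app t x) := fun t x => by
    change B.map (η.inv.app t) (B.map (η.hom.app t) (α.app (c.obj t) x)) = α.app (c.obj t) x
    rw [← ConcreteCategory.comp_apply, ← B.map_comp, Iso.hom_inv_id_app]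
    simp
  haveI := pullPushTau_isIso α (fibAug α η) c (fibGamma (B := B) η) (openEmb_fibGamma η)
    (𝟙 (c ⋙ Z)) openEmb_id hcomm (fun t x y _ => ⟨x, rfl⟩)
  haveI := pullPush_guitartExact α (fibAug α η) c (fibGamma (B := B) η) (openEmb_fibGamma η)
    (𝟙 (c ⋙ Z)) openEmb_id hcomm
  exact quasiIso_restr (forget 𝒯 (B.obj k)) (totι B k)
    (push c (fibGamma (B := B) η) (openEmb_fibGamma η)) (pushB p B) (fibTau η)
    (pullF α) (pullF (fibAug α η)) (push c (𝟙 (c ⋙ Z)) openEmb_id)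
    (pullPushTau α (fibAug α η) c (fibGamma (B := B) η) (openEmb_fibGamma η) (𝟙 (c ⋙ Z))
      openEmb_id hcomm)
    (θ := relθ p B α) (R := relR p B α) rfl (relAdj p B α) HEq.rfl rfl (fun I hI => injective_restr_fibre hc I) h L n I f i

omit α in
lemma isIso_of_restr_totι {P Q : TSh B} (φ : P ⟶ Q)
    (h : ∀ k : ℰ, IsIso (((totι B k).sheafPushforwardContinuous AddCommGrpCat.{u}
      (Opens.grothendieckTopology (B.obj k)) (totJ B)).map φ)) : IsIso φ := by
  rw [← isIso_iff_of_reflects_iso φ (sheafToPresheaf (totJ B) AddCommGrpCat.{u})]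
  haveI : ∀ A, IsIso (((sheafToPresheaf (totJ B) AddCommGrpCat.{u}).map φ).app A) := fun A => by
    haveI := h A.unop.base
    exact inferInstanceAs (IsIso ((((sheafToPresheaf _ AddCommGrpCat.{u}).map
      (((totι B A.unop.base).sheafPushforwardContinuous AddCommGrpCat.{u}
        (Opens.grothendieckTopology (B.obj A.unop.base)) (totJ B)).map φ))).app (op A.unop.U)))
  exact NatIso.isIso_of_isIso_app _

end Fibrewise

/-- A relative augmentation which is of descent on each fibre is of descent. -/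
theorem isFFPlus_relθ {𝒮 ℰ 𝒯 : Type} [SmallCategory 𝒮] [SmallCategory ℰ] [SmallCategory 𝒯]
    {p : 𝒮 ⥤ ℰ} {B : ℰ ⥤ TopCat.{u}} {Z : 𝒮 ⥤ TopCat.{u}} (α : Z ⟶ p ⋙ B) (c : ℰ → (𝒯 ⥤ 𝒮))
    (η : ∀ k, c k ⋙ p ≅ (Functor.const 𝒯).obj k) (hc : ∀ k, FibCond p k (c k) (η k))
    (h : ∀ k, Desc (fibAug α (η k))) : IsFFPlus (relθ p B α) := by
  refine isFFPlus_of_unitCrit (relAdj p B α) ?_
  intro L n _ I _ _ f _
  rw [quasiIso_iff]
  intro i
  rw [quasiIsoAt_iff_isIso_homologyMap]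
  exact isIso_of_restr_totι _ fun k => isIso_fibre_homologyMap α (η k) (hc k) (h k) L n I f i

section Locality

lemma isIso_of_cover {S : TopCat.{u}} {ι : Type u} {T : ι → TopCat.{u}} (j : ∀ a, T a ⟶ S)
    (hj : ∀ a, IsOpenEmbedding (j a)) (hcov : ∀ x, ∃ a, x ∈ Set.range (j a))
    {P Q : Sheaf (Opens.grothendieckTopology S) AddCommGrpCat.{u}} (φ : P ⟶ Q)
    (h : ∀ a U, IsIso (φ.hom.app (op ((hj a).functor.obj U)))) : IsIso φ := by
  refine (TopCat.Sheaf.isIso_iff_isIso_basis (X := S)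
    (B := fun q : Σ a, Opens (T a) => (hj q.1).functor.obj q.2) ?_ fun q => h q.1 q.2)
  rw [Opens.isBasis_iff_nbhd]
  intro U x hx
  obtain ⟨a, y, rfl⟩ := hcov x
  refine ⟨_, ⟨⟨a, (Opens.map (j a)).obj U⟩, rfl⟩, ⟨y, hx, rfl⟩, ?_⟩
  rintro _ ⟨z, hz, rfl⟩
  exact hz

variable {𝒮 : Type} [SmallCategory 𝒮] {S : TopCat.{u}} {Z : 𝒮 ⥤ TopCat.{u}}
  (ε : Z ⟶ (Functor.const 𝒮).obj S) {T : TopCat.{u}} (j : T ⟶ S) (hj : IsOpenEmbedding j)

/-- The comparison of constant diagrams. -/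
def constGamma : (Functor.const 𝒮).obj T ⟶ 𝟭 𝒮 ⋙ (Functor.const 𝒮).obj S where
  app _ := j
  naturality _ _ _ := (Category.id_comp j).trans (Category.comp_id j).symm

include hj in
lemma openEmb_constGamma (s : 𝒮) : IsOpenEmbedding ((constGamma (𝒮 := 𝒮) j).app s) := hj

include hj in
/-- The first square of the locality statement. -/
def locTau : push (𝟭 𝒮) (constGamma j) (openEmb_constGamma j hj) ⋙ forget 𝒮 S ⟶
    forget 𝒮 T ⋙ hj.functor where
  app A := 𝟙 (hj.functor.obj A.U)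
  naturality _ _ _ := Subsingleton.elim _ _

include hj in
lemma locTau_isIso : IsIso (locTau (𝒮 := 𝒮) j hj) := by
  haveI : ∀ A, IsIso ((locTau (𝒮 := 𝒮) j hj).app A) := fun A =>
    inferInstanceAs (IsIso (𝟙 (hj.functor.obj A.U)))
  exact NatIso.isIso_of_isIso_app _

include hj in
lemma loc_guitartExact :
    (opSquare (forget 𝒮 T) hj.functor (push (𝟭 𝒮) (constGamma j) (openEmb_constGamma j hj))
      (forget 𝒮 S) (locTau j hj)).GuitartExact := by
  refine zigzag_of_span fun U W g => ?_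
  let X₀ : Tot ((Functor.const 𝒮).obj T) := ⟨W.base, U⟩
  let b : W ⟶ (push (𝟭 𝒮) (constGamma j) (openEmb_constGamma j hj)).obj X₀ :=
    ⟨𝟙 W.base, fun x hx => g.le hx⟩
  refine ⟨X₀, 𝟙 U, b, Subsingleton.elim _ _, fun X a bX _ => ?_⟩
  let bb : W.base ⟶ X.base :=
    baseOf (B := (push (𝟭 𝒮) (constGamma j) (openEmb_constGamma j hj)).obj X) bX
  refine ⟨⟨W.base, U ⊓ X.U⟩, ⟨𝟙 W.base, fun x hx => ?_⟩, Tot.incl inf_le_left,
    ⟨bb, inf_le_right⟩, Tot.ext' ?_, Tot.ext' ?_, Subsingleton.elim _ _⟩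
  · obtain ⟨y, hy, rfl⟩ := g.le hx
    obtain ⟨z, hz, e⟩ := Tot.Hom.mem bX hx
    exact ⟨y, ⟨hy, (congrArg (fun w => w ∈ X.U) (hj.injective e)).mp hz⟩, rfl⟩
  · exact Category.id_comp (𝟙 W.base)
  · exact Category.id_comp bb

variable {Z' : 𝒮 ⥤ TopCat.{u}} (ε' : Z' ⟶ (Functor.const 𝒮).obj T) (γ : Z' ⟶ 𝟭 𝒮 ⋙ Z)
  (hγ : ∀ s, IsOpenEmbedding (γ.app s))

include hj hγ in
/-- The restriction to an open subspace of the unit is an isomorphism. -/
theorem isIso_local_homologyMap (hcomm : ∀ s x, j (ε'.app s x) = ε.app s (γ.app s x))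
    (hcart : ∀ s x y, ε.app s x = j y → x ∈ Set.range (γ.app s)) (h : Desc ε')
    [hj.functor.IsContinuous (Opens.grothendieckTopology T) (Opens.grothendieckTopology S)]
    [hj.functor.IsCocontinuous (Opens.grothendieckTopology T) (Opens.grothendieckTopology S)]
    (L : CochainComplex (Sheaf (Opens.grothendieckTopology S) AddCommGrpCat.{u}) ℤ) (n : ℤ)
    [L.IsStrictlyGE n] (I : CochainComplex (TSh Z) ℤ) [I.IsStrictlyGE n]
    [∀ i, Injective (I.X i)]
    (f : ((augθ ε).mapHomologicalComplex (ComplexShape.up ℤ)).obj L ⟶ I) [QuasiIso f] (i : ℤ) :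
    IsIso ((hj.functor.sheafPushforwardContinuous AddCommGrpCat.{u}
      (Opens.grothendieckTopology T) (Opens.grothendieckTopology S)).map
        (HomologicalComplex.homologyMap (transposeC (augAdj ε) f) i)) := by
  haveI := locTau_isIso (𝒮 := 𝒮) j hj
  haveI := loc_guitartExact (𝒮 := 𝒮) j hj
  haveI := pullPushTau_isIso ε ε' (𝟭 𝒮) (constGamma j) (openEmb_constGamma j hj) γ hγ hcomm hcart
  haveI := pullPush_guitartExact ε ε' (𝟭 𝒮) (constGamma j) (openEmb_constGamma j hj) γ hγ hcomm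
  exact quasiIso_restr (forget 𝒮 T) hj.functor
    (push (𝟭 𝒮) (constGamma j) (openEmb_constGamma j hj)) (forget 𝒮 S) (locTau j hj)
    (pullF ε) (pullF ε') (push (𝟭 𝒮) γ hγ)
    (pullPushTau ε ε' (𝟭 𝒮) (constGamma j) (openEmb_constGamma j hj) γ hγ hcomm)
    (θ := augθ ε) (R := augR ε) rfl (augAdj ε) HEq.rfl rfl
    (fun I hI => injective_restr_open γ hγ (fun {s s'} g x y e => by
      refine hcart s x (ε'.app s' y) ?_
      have h1 := ConcreteCategory.congr_hom (ε.naturality g) x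
      exact h1.symm.trans ((congrArg (ε.app s') e).trans (hcomm s' y).symm)) I)
    h L n I f i

end Locality

/-- Descent is local on the base. -/
theorem Desc.of_cover {𝒮 : Type} [SmallCategory 𝒮] {S : TopCat.{u}} {Z : 𝒮 ⥤ TopCat.{u}}
    (ε : Z ⟶ (Functor.const 𝒮).obj S) {ι : Type u} {T : ι → TopCat.{u}} (j : ∀ a, T a ⟶ S)
    (hj : ∀ a, IsOpenEmbedding (j a)) (hcov : ∀ x, ∃ a, x ∈ Set.range (j a))
    (Z' : ι → (𝒮 ⥤ TopCat.{u})) (ε' : ∀ a, Z' a ⟶ (Functor.const 𝒮).obj (T a))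
    (γ : ∀ a, Z' a ⟶ 𝟭 𝒮 ⋙ Z) (hγ : ∀ a s, IsOpenEmbedding ((γ a).app s))
    (hcomm : ∀ a s x, j a ((ε' a).app s x) = ε.app s ((γ a).app s x))
    (hcart : ∀ a s x y, ε.app s x = j a y → x ∈ Set.range ((γ a).app s))
    (h : ∀ a, Desc (ε' a)) : Desc ε := by
  refine isFFPlus_of_unitCrit (augAdj ε) ?_
  intro L n _ I _ _ f _
  rw [quasiIso_iff]
  intro i
  rw [quasiIsoAt_iff_isIso_homologyMap]
  refine isIso_of_cover j hj hcov _ fun a U => ?_
  haveI : (hj a).functor.IsContinuous (Opens.grothendieckTopology (T a))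
      (Opens.grothendieckTopology S) := (hj a).functor_isContinuous
  haveI : (hj a).functor.IsCocontinuous (Opens.grothendieckTopology (T a))
      (Opens.grothendieckTopology S) := ⟨fun {V R} hR => fun x hx => by
        obtain ⟨O, g, hg, hxO⟩ := hR (j a x) ⟨x, hx, rfl⟩
        refine ⟨V ⊓ (Opens.map (j a)).obj O, homOfLE inf_le_left, ?_, hx, hxO⟩
        have hle : (hj a).functor.obj (V ⊓ (Opens.map (j a)).obj O) ≤ O := by
          rintro _ ⟨z, hz, rfl⟩
          exact hz.2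
        exact (congrArg (fun q => R.arrows q) (Subsingleton.elim _ _)).mp
          (R.downward_closed hg (homOfLE hle))⟩
  haveI := isIso_local_homologyMap ε (j a) (hj a) (ε' a) (γ a) (hγ a) (hcomm a) (hcart a) (h a)
    L n I f i
  exact inferInstanceAs (IsIso ((((sheafToPresheaf _ AddCommGrpCat.{u}).map
    (((hj a).functor.sheafPushforwardContinuous AddCommGrpCat.{u}
      (Opens.grothendieckTopology (T a)) (Opens.grothendieckTopology S)).map
        (HomologicalComplex.homologyMap (transposeC (augAdj ε) f) i)))).app (op U)))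

end

end Groth.DescLib
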