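import Mathlib.Algebra.Homology.DerivedCategory.ExactFunctor
import Mathlib.Algebra.Homology.DerivedCategory.Plus
import Mathlib.Algebra.Homology.ModelCategory.Injective
import Mathlib.CategoryTheory.Adjunction.Additive
import Mathlib.CategoryTheory.Adjunction.Mates
import Groth.Agent.FibDescSecLib.Derived

/-! Full faithfulness of an exact functor on bounded below derived categories. -/

set_option linter.style.haveILetI false

universe v₁ v₂ v₃ v₄ u₁ u₂ u₃ u₄

open CategoryTheory CategoryTheory.Limits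

namespace Groth.DescLib

noncomputable section

attribute [local instance] HasDerivedCategory.standard

variable {A : Type u₁} [Category.{v₁} A] [Abelian A] {B : Type u₂} [Category.{v₂} B] [Abelian B]
  {C : Type u₃} [Category.{v₃} C] [Abelian C]

/-- An exact functor is fully faithful on bounded below derived categories. -/
def IsFFPlus (θ : A ⥤ B) : Prop :=
  ∃ (_ : θ.Additive) (_ : PreservesFiniteLimits θ) (_ : PreservesFiniteColimits θ),
    ∀ K L : DerivedCategory.Plus A,
      Function.Bijective fun g : K.obj ⟶ L.obj => θ.mapDerivedCategory.map g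

section Basic

variable {θ θ' : A ⥤ B} [θ.Additive] [PreservesFiniteLimits θ] [PreservesFiniteColimits θ]
  [θ'.Additive] [PreservesFiniteLimits θ'] [PreservesFiniteColimits θ']

lemma IsFFPlus.bijective (h : IsFFPlus θ) (K L : DerivedCategory.Plus A) :
    Function.Bijective fun g : K.obj ⟶ L.obj => θ.mapDerivedCategory.map g := by
  obtain ⟨_, _, _, h⟩ := h
  exact h K L

/-- Isomorphic exact functors have isomorphic derived functors. -/
def mapDerivedIso (e : θ ≅ θ') : θ.mapDerivedCategory ≅ θ'.mapDerivedCategory :=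
  Localization.liftNatIso DerivedCategory.Q (HomologicalComplex.quasiIso A (ComplexShape.up ℤ))
    (θ.mapHomologicalComplex (ComplexShape.up ℤ) ⋙ DerivedCategory.Q)
    (θ'.mapHomologicalComplex (ComplexShape.up ℤ) ⋙ DerivedCategory.Q) _ _
    (Functor.isoWhiskerRight (NatIso.mapHomologicalComplex e _) _)

lemma IsFFPlus.of_iso (h : IsFFPlus θ) (e : θ ≅ θ') : IsFFPlus θ' := by
  refine ⟨inferInstance, inferInstance, inferInstance, fun K L => ?_⟩
  have he : (fun g : K.obj ⟶ L.obj => θ'.mapDerivedCategory.map g) =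
      (((mapDerivedIso e).app K.obj).homCongr ((mapDerivedIso e).app L.obj)) ∘
        fun g : K.obj ⟶ L.obj => θ.mapDerivedCategory.map g := by
    funext g
    simp [Iso.homCongr]
  rw [he]
  exact (Equiv.bijective _).comp (h.bijective K L)

lemma mapDerived_mem_plus (K : DerivedCategory.Plus A) :
    DerivedCategory.TStructure.t.plus (θ.mapDerivedCategory.obj K.obj) := by
  obtain ⟨n, hn⟩ := K.2
  haveI : K.obj.IsGE n := hn
  obtain ⟨K₀, _, ⟨e⟩⟩ := DerivedCategory.exists_iso_Q_obj_of_isGE K.obj n
  refine ⟨n, ?_⟩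
  haveI : CochainComplex.IsStrictlyGE ((θ.mapHomologicalComplex (.up ℤ)).obj K₀) n := inferInstance
  haveI : DerivedCategory.TStructure.t.IsGE
      ((θ.mapHomologicalComplex (ComplexShape.up ℤ) ⋙ DerivedCategory.Q).obj K₀) n :=
    inferInstanceAs ((DerivedCategory.Q.obj ((θ.mapHomologicalComplex (.up ℤ)).obj K₀)).IsGE n)
  exact DerivedCategory.TStructure.t.isGE_of_iso
    ((θ.mapDerivedCategoryFactors.app K₀).symm ≪≫ θ.mapDerivedCategory.mapIso e.symm) n

/-- The image of a bounded below object. -/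
def mapPlus (θ : A ⥤ B) [θ.Additive] [PreservesFiniteLimits θ] [PreservesFiniteColimits θ]
    (K : DerivedCategory.Plus A) : DerivedCategory.Plus B :=
  ⟨θ.mapDerivedCategory.obj K.obj, mapDerived_mem_plus K⟩

end Basic

section Comp

variable (a : A ⥤ B) (b : B ⥤ C) [a.Additive] [PreservesFiniteLimits a] [PreservesFiniteColimits a]
  [b.Additive] [PreservesFiniteLimits b] [PreservesFiniteColimits b]

/-- Derived functors of exact functors compose. -/
def mapDerivedCompIso :
    a.mapDerivedCategory ⋙ b.mapDerivedCategory ≅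
      (haveI : PreservesFiniteLimits (a ⋙ b) := comp_preservesFiniteLimits a b
       haveI : PreservesFiniteColimits (a ⋙ b) := comp_preservesFiniteColimits a b
       (a ⋙ b).mapDerivedCategory) :=
  haveI : PreservesFiniteLimits (a ⋙ b) := comp_preservesFiniteLimits a b
  haveI : PreservesFiniteColimits (a ⋙ b) := comp_preservesFiniteColimits a b
  haveI : Localization.Lifting DerivedCategory.Q
      (HomologicalComplex.quasiIso A (ComplexShape.up ℤ))
      ((a ⋙ b).mapHomologicalComplex (ComplexShape.up ℤ) ⋙ DerivedCategory.Q)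
      (a.mapDerivedCategory ⋙ b.mapDerivedCategory) := ⟨FibDescSec.mapFactorsComp a b⟩
  Localization.liftNatIso DerivedCategory.Q (HomologicalComplex.quasiIso A (ComplexShape.up ℤ))
    ((a ⋙ b).mapHomologicalComplex (ComplexShape.up ℤ) ⋙ DerivedCategory.Q)
    ((a ⋙ b).mapHomologicalComplex (ComplexShape.up ℤ) ⋙ DerivedCategory.Q) _ _ (Iso.refl _)

variable [PreservesFiniteLimits (a ⋙ b)] [PreservesFiniteColimits (a ⋙ b)]

lemma map_comp_eq (K L : DerivedCategory A) :
    (fun g : K ⟶ L => (a ⋙ b).mapDerivedCategory.map g) =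
      ((mapDerivedCompIso a b).app K).homCongr ((mapDerivedCompIso a b).app L) ∘
        fun g : K ⟶ L => b.mapDerivedCategory.map (a.mapDerivedCategory.map g) := by
  funext g
  have h := (mapDerivedCompIso a b).hom.naturality g
  simp only [Functor.comp_map] at h
  simp [Iso.homCongr, h]

lemma IsFFPlus.comp (ha : IsFFPlus a) (hb : IsFFPlus b) : IsFFPlus (a ⋙ b) := by
  refine ⟨inferInstance, inferInstance, inferInstance, fun K L => ?_⟩
  rw [map_comp_eq]
  exact (Equiv.bijective _).comp
    ((hb.bijective (mapPlus a K) (mapPlus a L)).comp (ha.bijective K L))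

lemma IsFFPlus.of_comp (hb : IsFFPlus b) (h : IsFFPlus (a ⋙ b)) : IsFFPlus a := by
  refine ⟨inferInstance, inferInstance, inferInstance, fun K L => ?_⟩
  have h' := h.bijective K L
  rw [map_comp_eq] at h'
  have h2 : Function.Bijective (fun g : K.obj ⟶ L.obj =>
      b.mapDerivedCategory.map (a.mapDerivedCategory.map g)) :=
    ((Equiv.bijective _).of_comp_iff' _).1 h'
  exact ((hb.bijective (mapPlus a K) (mapPlus a L)).of_comp_iff' _).1 h2

end Comp

/-- An exact equivalence is fully faithful on derived categories. -/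
lemma IsFFPlus.of_equivalence (a : A ⥤ B) (a' : B ⥤ A) [a.Additive] [PreservesFiniteLimits a]
    [PreservesFiniteColimits a] [a'.Additive] [PreservesFiniteLimits a']
    [PreservesFiniteColimits a'] (e : 𝟭 A ≅ a ⋙ a') (e' : a' ⋙ a ≅ 𝟭 B) : IsFFPlus a :=
  ⟨inferInstance, inferInstance, inferInstance, fun K L =>
    FibDescSec.bijective_mapDerivedCategory a a' (𝟭 B) e (𝟙 _) e'.hom K.obj L.obj⟩

section Criterion

variable {θ : A ⥤ B} {R : B ⥤ A} (adj : θ ⊣ R) [θ.Additive] [R.Additive]

/-- The transpose of a map of complexes. -/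
def transposeC {L : CochainComplex A ℤ} {I : CochainComplex B ℤ}
    (g : (θ.mapHomologicalComplex (.up ℤ)).obj L ⟶ I) :
    L ⟶ (R.mapHomologicalComplex (.up ℤ)).obj I where
  f i := adj.homEquiv (L.X i) (I.X i) (g.f i)
  comm' i j _ := by
    refine (adj.homEquiv_naturality_right (g.f i) (I.d i j)).symm.trans
      (Eq.trans ?_ (adj.homEquiv_naturality_left (L.d i j) (g.f j)))
    exact congrArg (adj.homEquiv _ _) (g.comm i j)

/-- The complexwise unit. -/
def unitC (K : CochainComplex A ℤ) :
    K ⟶ (R.mapHomologicalComplex (.up ℤ)).obj ((θ.mapHomologicalComplex (.up ℤ)).obj K) :=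
  transposeC adj (𝟙 _)

/-- The complexwise counit. -/
def counitC (I : CochainComplex B ℤ) :
    (θ.mapHomologicalComplex (.up ℤ)).obj ((R.mapHomologicalComplex (.up ℤ)).obj I) ⟶ I where
  f i := adj.counit.app (I.X i)
  comm' i j _ := (adj.counit.naturality (I.d i j)).symm

lemma transposeC_eq {L : CochainComplex A ℤ} {I : CochainComplex B ℤ}
    (g : (θ.mapHomologicalComplex (.up ℤ)).obj L ⟶ I) :
    transposeC adj g = unitC adj L ≫ (R.mapHomologicalComplex (.up ℤ)).map g := by
  ext i
  change adj.homEquiv (L.X i) (I.X i) (g.f i) = adj.homEquiv (L.X i) _ (𝟙 _) ≫ R.map (g.f i)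
  rw [← adj.homEquiv_naturality_right]
  congr 1
  exact (Category.id_comp _).symm

lemma transposeC_counit {L : CochainComplex A ℤ} {I : CochainComplex B ℤ}
    (g : (θ.mapHomologicalComplex (.up ℤ)).obj L ⟶ I) :
    (θ.mapHomologicalComplex (.up ℤ)).map (transposeC adj g) ≫ counitC adj I = g := by
  ext i
  exact (adj.homEquiv_counit (g := adj.homEquiv (L.X i) (I.X i) (g.f i))).symm.trans
    (Equiv.symm_apply_apply _ _)

lemma counit_transposeC {L : CochainComplex A ℤ} {I : CochainComplex B ℤ}
    (f : L ⟶ (R.mapHomologicalComplex (.up ℤ)).obj I) :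
    transposeC adj ((θ.mapHomologicalComplex (.up ℤ)).map f ≫ counitC adj I) = f := by
  ext i
  exact (congrArg (adj.homEquiv (L.X i) (I.X i))
    (adj.homEquiv_counit (g := f.f i)).symm).trans (Equiv.apply_symm_apply _ _)

/-- The unit criterion. -/
def UnitCrit : Prop :=
  ∀ (L : CochainComplex A ℤ) (n : ℤ) [L.IsStrictlyGE n] (I : CochainComplex B ℤ)
    [I.IsStrictlyGE n] [∀ i, Injective (I.X i)] (α : (θ.mapHomologicalComplex (.up ℤ)).obj L ⟶ I)
    [QuasiIso α], QuasiIso (transposeC adj α)

variable [PreservesFiniteLimits θ] [PreservesFiniteColimits θ]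

/-- Adjunction on derived categories against a K-injective target. -/
def adjD (K : CochainComplex A ℤ) (I : CochainComplex B ℤ)
    (ψ : DerivedCategory.Q.obj K ⟶
      DerivedCategory.Q.obj ((R.mapHomologicalComplex (.up ℤ)).obj I)) :
    DerivedCategory.Q.obj ((θ.mapHomologicalComplex (.up ℤ)).obj K) ⟶ DerivedCategory.Q.obj I :=
  θ.mapDerivedCategoryFactors.inv.app K ≫ θ.mapDerivedCategory.map ψ ≫
    θ.mapDerivedCategoryFactors.hom.app _ ≫ DerivedCategory.Q.map (counitC adj I)

lemma adjD_Q {K : CochainComplex A ℤ} {I : CochainComplex B ℤ}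
    (f : K ⟶ (R.mapHomologicalComplex (.up ℤ)).obj I) :
    adjD adj K I (DerivedCategory.Q.map f) =
      DerivedCategory.Q.map ((θ.mapHomologicalComplex (.up ℤ)).map f ≫ counitC adj I) := by
  rw [adjD, Functor.mapDerivedCategoryFactors_hom_naturality_assoc, Functor.map_comp]
  simp

lemma adjD_comp {K L : CochainComplex A ℤ} {I : CochainComplex B ℤ}
    (g : DerivedCategory.Q.obj K ⟶ DerivedCategory.Q.obj L)
    (α : (θ.mapHomologicalComplex (.up ℤ)).obj L ⟶ I) :
    adjD adj K I (g ≫ DerivedCategory.Q.map (transposeC adj α)) =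
      θ.mapDerivedCategoryFactors.inv.app K ≫ θ.mapDerivedCategory.map g ≫
        θ.mapDerivedCategoryFactors.hom.app L ≫ DerivedCategory.Q.map α := by
  rw [adjD, Functor.map_comp, Category.assoc,
    Functor.mapDerivedCategoryFactors_hom_naturality_assoc, ← Functor.map_comp,
    transposeC_counit]

lemma Q_map_bijective {D : Type u₄} [Category.{v₄} D] [Abelian D] (K L : CochainComplex D ℤ)
    [L.IsKInjective] (g : DerivedCategory.Q.obj K ⟶ DerivedCategory.Q.obj L) :
    ∃ f : K ⟶ L, DerivedCategory.Q.map f = g := by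
  obtain ⟨f', hf'⟩ := (CochainComplex.IsKInjective.Qh_map_bijective
    ((HomotopyCategory.quotient _ _).obj K) L).surjective
    ((DerivedCategory.quotientCompQhIso D).hom.app K ≫ g ≫
      (DerivedCategory.quotientCompQhIso D).inv.app L)
  obtain ⟨f, rfl⟩ := (HomotopyCategory.quotient _ _).map_surjective f'
  refine ⟨f, ?_⟩
  have h := (DerivedCategory.quotientCompQhIso D).hom.naturality f
  simp only [Functor.comp_map] at h
  rw [hf'] at h
  simp only [Category.assoc, Iso.inv_hom_id_app, Category.comp_id, cancel_epi] at h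
  exact h.symm

lemma Q_map_eq_zero_iff {D : Type u₄} [Category.{v₄} D] [Abelian D] {K L : CochainComplex D ℤ}
    [L.IsKInjective] (f : K ⟶ L) :
    DerivedCategory.Q.map f = 0 ↔ Nonempty (Homotopy f 0) := by
  constructor
  · intro hf
    refine ⟨HomotopyCategory.homotopyOfEq _ _ ((CochainComplex.IsKInjective.Qh_map_bijective
      ((HomotopyCategory.quotient _ _).obj K) L).injective ?_)⟩
    have h := (DerivedCategory.quotientCompQhIso D).hom.naturality f
    simp only [Functor.comp_map, hf, comp_zero] at h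
    rw [Functor.map_zero, Functor.map_zero]
    exact (cancel_mono ((DerivedCategory.quotientCompQhIso D).hom.app L)).1 (by simpa using h)
  · rintro ⟨h⟩
    refine (NatIso.naturality_1 (DerivedCategory.quotientCompQhIso D) f).symm.trans ?_
    simp [HomotopyCategory.eq_of_homotopy _ _ h]

include adj in
lemma injective_map (I : B) [Injective I] : Injective (R.obj I) :=
  Injective.injective_of_adjoint adj I

variable (n : ℤ) (K : CochainComplex A ℤ) (I : CochainComplex B ℤ) [I.IsStrictlyGE n]
  [∀ i, Injective (I.X i)]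

include n adj in
lemma isKInjective_map : CochainComplex.IsKInjective ((R.mapHomologicalComplex (.up ℤ)).obj I) := by
  haveI : ∀ i, Injective (((R.mapHomologicalComplex (.up ℤ)).obj I).X i) := fun i =>
    injective_map adj (I.X i)
  exact CochainComplex.isKInjective_of_injective _ n

include n in
lemma adjD_bijective : Function.Bijective (adjD adj K I) := by
  haveI : I.IsKInjective := CochainComplex.isKInjective_of_injective I n
  haveI := isKInjective_map adj n I
  constructor
  · intro ψ₁ ψ₂ h
    obtain ⟨f₁, rfl⟩ := Q_map_bijective _ _ ψ₁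
    obtain ⟨f₂, rfl⟩ := Q_map_bijective _ _ ψ₂
    rw [adjD_Q, adjD_Q] at h
    rw [← sub_eq_zero, ← Functor.map_sub, ← Preadditive.sub_comp, ← Functor.map_sub] at h
    obtain ⟨H⟩ := (Q_map_eq_zero_iff _).1 h
    rw [← sub_eq_zero, ← Functor.map_sub, Q_map_eq_zero_iff, ← counit_transposeC adj (f₁ - f₂),
      transposeC_eq]
    exact ⟨((R.mapHomotopy H).compLeft (unitC adj K)).trans (Homotopy.ofEq (by simp))⟩
  · intro φ
    obtain ⟨g, rfl⟩ := Q_map_bijective _ _ φ
    exact ⟨DerivedCategory.Q.map (transposeC adj g), by rw [adjD_Q, transposeC_counit]⟩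

end Criterion

section CriterionIff

variable {θ : A ⥤ B} {R : B ⥤ A} (adj : θ ⊣ R) [θ.Additive] [R.Additive]
  [PreservesFiniteLimits θ] [PreservesFiniteColimits θ]

lemma exists_resolution [EnoughInjectives B] (L : CochainComplex A ℤ) (n : ℤ)
    [L.IsStrictlyGE n] :
    ∃ (I : CochainComplex B ℤ) (α : (θ.mapHomologicalComplex (.up ℤ)).obj L ⟶ I),
      I.IsStrictlyGE n ∧ (∀ i, Injective (I.X i)) ∧ QuasiIso α := by
  obtain ⟨I, α, h₁, h₂, h₃⟩ := CochainComplex.Plus.modelCategoryQuillen.exists_quasiIso_injective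
    ((θ.mapHomologicalComplex (.up ℤ)).obj L) n
  exact ⟨I, α, by assumption, by assumption, by assumption⟩

include adj in
/-- The unit criterion gives full faithfulness. -/
theorem isFFPlus_of_unitCrit [EnoughInjectives B] (h : UnitCrit adj) : IsFFPlus θ := by
  refine ⟨inferInstance, inferInstance, inferInstance, fun K L => ?_⟩
  obtain ⟨m, hm⟩ := K.2
  haveI : K.obj.IsGE m := hm
  obtain ⟨K₀, _, ⟨eK⟩⟩ := DerivedCategory.exists_iso_Q_obj_of_isGE K.obj m
  obtain ⟨n, hn⟩ := L.2
  haveI : L.obj.IsGE n := hn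
  obtain ⟨L₀, _, ⟨eL⟩⟩ := DerivedCategory.exists_iso_Q_obj_of_isGE L.obj n
  obtain ⟨I, α, hI₁, hI₂, hα⟩ := exists_resolution (θ := θ) L₀ n
  haveI := hI₁
  haveI := hI₂
  haveI := hα
  haveI : QuasiIso (transposeC adj α) := h L₀ n I α
  let e₁ := eK.homCongr eL
  let e₂ : (DerivedCategory.Q.obj K₀ ⟶ DerivedCategory.Q.obj L₀) ≃
      (DerivedCategory.Q.obj K₀ ⟶
        DerivedCategory.Q.obj ((R.mapHomologicalComplex (.up ℤ)).obj I)) :=
    (Iso.refl _).homCongr (asIso (DerivedCategory.Q.map (transposeC adj α)))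
  let e₄ : (θ.mapDerivedCategory.obj K.obj ⟶ θ.mapDerivedCategory.obj L.obj) ≃
      (DerivedCategory.Q.obj ((θ.mapHomologicalComplex (.up ℤ)).obj K₀) ⟶
        DerivedCategory.Q.obj I) :=
    (θ.mapDerivedCategory.mapIso eK ≪≫ θ.mapDerivedCategoryFactors.app K₀).homCongr
      (θ.mapDerivedCategory.mapIso eL ≪≫ θ.mapDerivedCategoryFactors.app L₀ ≪≫
        asIso (DerivedCategory.Q.map α))
  have key : (e₄ ∘ fun g : K.obj ⟶ L.obj => θ.mapDerivedCategory.map g) =
      adjD adj K₀ I ∘ e₂ ∘ e₁ := by
    funext g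
    simp only [Function.comp_apply, e₁, e₂, e₄, Iso.homCongr_apply, Iso.refl_inv, asIso_hom,
      Category.id_comp, adjD_comp]
    simp
  have hb : Function.Bijective (adjD adj K₀ I ∘ e₂ ∘ e₁) :=
    (adjD_bijective adj n K₀ I).comp (e₂.bijective.comp e₁.bijective)
  rw [← key] at hb
  exact (e₄.bijective.of_comp_iff' _).1 hb

include adj in
/-- Full faithfulness gives the unit criterion. -/
theorem unitCrit_of_isFFPlus (h : IsFFPlus θ) : UnitCrit adj := by
  intro L n _ I _ _ α _
  haveI : CochainComplex.IsStrictlyGE ((R.mapHomologicalComplex (.up ℤ)).obj I) n := inferInstance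
  let RI := (R.mapHomologicalComplex (.up ℤ)).obj I
  let PL : DerivedCategory.Plus A := ⟨DerivedCategory.Q.obj L, n, inferInstance⟩
  let PR : DerivedCategory.Plus A := ⟨DerivedCategory.Q.obj RI, n, inferInstance⟩
  let β := DerivedCategory.Q.map (transposeC adj α)
  obtain ⟨γ, hγ⟩ := (h.bijective PR PL).surjective
    (θ.mapDerivedCategoryFactors.hom.app RI ≫ DerivedCategory.Q.map (counitC adj I) ≫
      inv (DerivedCategory.Q.map α) ≫ θ.mapDerivedCategoryFactors.inv.app L)
  have hγβ : γ ≫ β = 𝟙 _ := by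
    apply (adjD_bijective adj n RI I).injective
    rw [show (𝟙 (DerivedCategory.Q.obj RI)) = DerivedCategory.Q.map (𝟙 RI) from
      (CategoryTheory.Functor.map_id _ _).symm, adjD_Q, adjD_comp]
    dsimp only at hγ
    rw [hγ]
    simp [RI]
  have hβγ : β ≫ γ = 𝟙 _ := by
    apply (h.bijective PL PL).injective
    have h2 := congrArg (adjD adj L I) (show (β ≫ γ) ≫ β = 𝟙 _ ≫ β by
      rw [Category.assoc, hγβ, Category.comp_id, Category.id_comp])
    rw [adjD_comp, adjD_comp] at h2
    simp only [cancel_epi, ← Category.assoc, cancel_mono] at h2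
    exact h2
  haveI : IsIso β := ⟨γ, hβγ, hγβ⟩
  exact (DerivedCategory.isIso_Q_map_iff_quasiIso (φ := transposeC adj α)).1 (inferInstanceAs (IsIso β))

end CriterionIff

section Transfer

variable {A' : Type u₁} [Category.{v₁} A'] [Abelian A'] {B' : Type u₂} [Category.{v₂} B']
  [Abelian B'] {θ : A ⥤ B} {R : B ⥤ A} (adj : θ ⊣ R) [θ.Additive] [R.Additive]
  {θ' : A' ⥤ B'} {R' : B' ⥤ A'} (adj' : θ' ⊣ R') [θ'.Additive] [R'.Additive]
  (r : A ⥤ A') (s : B ⥤ B') [r.Additive] [PreservesFiniteLimits r] [PreservesFiniteColimits r]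
  [s.Additive] [PreservesFiniteLimits s] [PreservesFiniteColimits s]

/-- The restricted transpose is a quasi-isomorphism. -/
theorem quasiIso_map_transposeC (σ : TwoSquare r θ θ' s) [IsIso σ.natTrans]
    [IsIso (mateEquiv adj adj' σ).natTrans] (hs : ∀ I : B, Injective I → Injective (s.obj I))
    (h : UnitCrit adj') (L : CochainComplex A ℤ) (n : ℤ) [L.IsStrictlyGE n]
    (I : CochainComplex B ℤ) [I.IsStrictlyGE n] [∀ i, Injective (I.X i)]
    (α : (θ.mapHomologicalComplex (.up ℤ)).obj L ⟶ I) [QuasiIso α] :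
    QuasiIso ((r.mapHomologicalComplex (.up ℤ)).map (transposeC adj α)) := by
  haveI : ∀ i, Injective (((s.mapHomologicalComplex (.up ℤ)).obj I).X i) := fun i =>
    hs _ inferInstance
  let σc : (θ'.mapHomologicalComplex (.up ℤ)).obj ((r.mapHomologicalComplex (.up ℤ)).obj L) ≅
      (s.mapHomologicalComplex (.up ℤ)).obj ((θ.mapHomologicalComplex (.up ℤ)).obj L) :=
    (NatIso.mapHomologicalComplex (asIso σ.natTrans : r ⋙ θ' ≅ θ ⋙ s) (.up ℤ)).app L
  let νc : (r.mapHomologicalComplex (.up ℤ)).obj ((R.mapHomologicalComplex (.up ℤ)).obj I) ≅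
      (R'.mapHomologicalComplex (.up ℤ)).obj ((s.mapHomologicalComplex (.up ℤ)).obj I) :=
    (NatIso.mapHomologicalComplex
      (asIso (mateEquiv adj adj' σ).natTrans : R ⋙ r ≅ s ⋙ R') (.up ℤ)).app I
  haveI : QuasiIso ((s.mapHomologicalComplex (.up ℤ)).map α) := inferInstance
  haveI := h _ n _ (σc.hom ≫ (s.mapHomologicalComplex (.up ℤ)).map α)
  have key : (r.mapHomologicalComplex (.up ℤ)).map (transposeC adj α) ≫ νc.hom =
      transposeC adj' (σc.hom ≫ (s.mapHomologicalComplex (.up ℤ)).map α) := by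
    ext i
    have h1 := unit_mateEquiv adj adj' σ (L.X i)
    have h2 := (mateEquiv adj adj' σ).natTrans.naturality (α.f i)
    simp only [Functor.comp_map] at h2
    change r.map (adj.homEquiv (L.X i) (I.X i) (α.f i)) ≫ (mateEquiv adj adj' σ).natTrans.app (I.X i)
      = adj'.homEquiv (r.obj (L.X i)) (s.obj (I.X i)) (σ.natTrans.app (L.X i) ≫ s.map (α.f i))
    rw [adj.homEquiv_unit, adj'.homEquiv_unit, Functor.map_comp, Category.assoc]
    erw [h2, reassoc_of% h1]
    rw [Functor.map_comp]
    rfl
  rw [← quasiIso_iff_comp_right _ νc.hom, key]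
  infer_instance

end Transfer

/-- The unit criterion is local for a jointly conservative family of exact functors. -/
theorem isIso_map_homologyMap {A' : Type u₄} [Category.{v₄} A'] [Abelian A'] (r : A ⥤ A')
    [r.Additive] [PreservesFiniteLimits r] [PreservesFiniteColimits r] {K L : CochainComplex A ℤ}
    (f : K ⟶ L) [QuasiIso ((r.mapHomologicalComplex (.up ℤ)).map f)] (i : ℤ) :
    IsIso (r.map (HomologicalComplex.homologyMap f i)) := by
  let φ := (HomologicalComplex.shortComplexFunctor A (ComplexShape.up ℤ) i).map f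
  have e := ShortComplex.mapHomologyIso_hom_naturality φ r
  have h1 : IsIso (ShortComplex.homologyMap (r.mapShortComplex.map φ)) :=
    inferInstanceAs (IsIso (HomologicalComplex.homologyMap
      ((r.mapHomologicalComplex (.up ℤ)).map f) i))
  have h2 : IsIso ((ShortComplex.mapHomologyIso _ r).hom ≫
      r.map (ShortComplex.homologyMap φ)) := by
    rw [← e]
    exact @IsIso.comp_isIso' _ _ _ _ _ _ _ h1 inferInstance
  exact @IsIso.of_isIso_comp_left _ _ _ _ _ _ _ inferInstance h2

end

end Groth.DescLib
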