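import Groth.Agent.DescLib.Family

/-!
# Descent data relative to a family are descent data relative to the coproduct
-/

set_option autoImplicit false
set_option linter.style.haveILetI false
set_option backward.isDefEq.respectTransparency false
set_option backward.isDefEq.respectTransparency.types false

universe u

open CategoryTheory CategoryTheory.Limits AlgebraicGeometry TopologicalSpace

namespace DescLib

open Desc

variable {ι : Type u} {S : Scheme.{u}} {X : ι → Scheme.{u}} (f : ∀ i, X i ⟶ S)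

/-- Restriction of a datum relative to the coproduct to the family. -/
noncomputable abbrev toFam : SchDD (Limits.Sigma.desc f) ⥤ SchDDFam f :=
  SchDDFam.ofSchDD (Limits.Sigma.desc f) ⋙ Desc.pullDDFam (f := fun _ : PUnit.{u + 1} => Limits.Sigma.desc f)
    (f' := f) (α := fun _ => PUnit.unit) (p := 𝟙 S) (p' := fun i => Sigma.ι X i)
    (fun i => (Sigma.ι_desc f i).trans (Category.comp_id (f i)).symm)

variable {f} (D : SchDD (Limits.Sigma.desc f))

/-- The projection of a summand. -/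
noncomputable abbrev famFst (i : ι) : (((toFam f).obj D).obj i).left ⟶ D.obj.left :=
  pullback.fst D.obj.hom (Sigma.ι X i)

theorem famFst_hom (i : ι) : famFst D i ≫ D.obj.hom = (((toFam f).obj D).obj i).hom ≫ Sigma.ι X i :=
  pullback.condition

theorem famHom_ext {T : Scheme.{u}} {i : ι} {a b : T ⟶ (((toFam f).obj D).obj i).left}
    (e₁ : a ≫ famFst D i = b ≫ famFst D i)
    (e₂ : a ≫ (((toFam f).obj D).obj i).hom = b ≫ (((toFam f).obj D).obj i).hom) : a = b :=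
  pullback.hom_ext e₁ e₂

theorem rel_famφ {T : Scheme.{u}} {i j : ι} (x₀ : T ⟶ X i) (x₁ : T ⟶ X j) (h : x₀ ≫ f i = x₁ ≫ f j)
    (v : Lifts (((toFam f).obj D).obj i) x₀) :
    Rel D (v.1 ≫ famFst D i) ((((toFam f).obj D).φ x₀ x₁ h v).1 ≫ famFst D j) := by
  have h' : (x₀ ≫ Sigma.ι X i) ≫ Limits.Sigma.desc f = (x₁ ≫ Sigma.ι X j) ≫ Limits.Sigma.desc f := by
    simp only [Category.assoc, Sigma.ι_desc]; exact h
  have e : (((toFam f).obj D).φ x₀ x₁ h v).1 ≫ famFst D j =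
      (D.φ (x₀ ≫ Sigma.ι X i) (x₁ ≫ Sigma.ι X j) h'
        ⟨v.1 ≫ famFst D i, by rw [Category.assoc, famFst_hom, ← Category.assoc, v.2]⟩).1 :=
    pullback.lift_fst _ _ _
  rw [e]
  exact rel_φ h' ⟨v.1 ≫ famFst D i, by rw [Category.assoc, famFst_hom, ← Category.assoc, v.2]⟩

instance : (toFam f).Faithful where
  map_injective {D₁ D₂} φ ψ h := by
    ext1; ext1
    refine Scheme.Cover.hom_ext ((sigmaOpenCover X).pullback₁ D₁.obj.hom) _ _ fun (i : ι) => ?_
    change famFst D₁ i ≫ φ.hom.left = famFst D₁ i ≫ ψ.hom.left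
    have := congrArg (fun a => (a.hom i).left ≫ famFst D₂ i) h
    exact (pullback.lift_fst _ _ _).symm.trans (this.trans (pullback.lift_fst _ _ _))

theorem exists_preimage {D₁ D₂ : SchDD (Limits.Sigma.desc f)} (α : (toFam f).obj D₁ ⟶ (toFam f).obj D₂) :
    ∃ ψ : D₁ ⟶ D₂, ∀ i, famFst D₁ i ≫ ψ.hom.left = (α.hom i).left ≫ famFst D₂ i := by
  let 𝒰 : D₁.obj.left.OpenCover := (sigmaOpenCover X).pullback₁ D₁.obj.hom
  let ψ : D₁.obj.left ⟶ D₂.obj.left := 𝒰.glueMorphisms (fun i => (α.hom i).left ≫ famFst D₂ i)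
    fun (i : ι) (j : ι) => by
      change pullback.fst (famFst D₁ i) (famFst D₁ j) ≫ _ = pullback.snd (famFst D₁ i) (famFst D₁ j) ≫ _
      rcases isEmpty_or_nonempty ↥(pullback (famFst D₁ i) (famFst D₁ j)) with hP | hP
      · exact hom_ext_isEmpty _ _
      · have e : i = j := idx_eq (Z := X) (pullback.fst _ _ ≫ (((toFam f).obj D₁).obj i).hom)
          (pullback.snd _ _ ≫ (((toFam f).obj D₁).obj j).hom) (by
            rw [Category.assoc, Category.assoc, ← famFst_hom, ← famFst_hom, pullback.condition_assoc])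
        subst e
        haveI : Mono (famFst D₁ i) := inferInstanceAs (Mono (pullback.fst D₁.obj.hom (Sigma.ι X i)))
        rw [(cancel_mono (famFst D₁ i)).1 (pullback.condition (f := famFst D₁ i) (g := famFst D₁ i))]
  have hψ : ∀ i, famFst D₁ i ≫ ψ = (α.hom i).left ≫ famFst D₂ i := fun i => 𝒰.ι_glueMorphisms _ _ i
  have hψπ : ψ ≫ D₂.obj.hom = D₁.obj.hom := 𝒰.hom_ext _ _ fun (i : ι) => by
    change famFst D₁ i ≫ ψ ≫ _ = famFst D₁ i ≫ _
    rw [reassoc_of% (hψ i), famFst_hom, famFst_hom, ← Category.assoc, Over.w (α.hom i)]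
  refine ⟨⟨Over.homMk ψ hψπ, fun T x₀ x₁ h v w hw => ?_⟩, hψ⟩
  change w.1 = v.1 ≫ ψ at hw
  change (D₂.φ x₀ x₁ h w).1 = (D₁.φ x₀ x₁ h v).1 ≫ ψ
  let b := (D₁.φ x₀ x₁ h v).1
  let b₂ := (D₂.φ x₀ x₁ h w).1
  let O : ι × ι → T.Opens := fun k => x₀ ⁻¹ᵁ (Sigma.ι X k.1).opensRange ⊓ x₁ ⁻¹ᵁ (Sigma.ι X k.2).opensRange
  refine (T.openCoverOfIsOpenCover O (IsOpenCover.mk (eq_top_iff.mpr fun t _ => by
    obtain ⟨i, y, hy⟩ := exists_sigma_mem (x₀ t)
    obtain ⟨j, z, hz⟩ := exists_sigma_mem (x₁ t)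
    exact Opens.mem_iSup.mpr ⟨(i, j), ⟨y, hy⟩, ⟨z, hz⟩⟩))).hom_ext _ _ fun (k : ι × ι) => ?_
  let o := (O k).ι
  change o ≫ b₂ = o ≫ b ≫ ψ
  let y₀ := IsOpenImmersion.lift (Sigma.ι X k.1) (o ≫ x₀) (by rintro _ ⟨z, rfl⟩; exact z.2.1)
  let y₁ := IsOpenImmersion.lift (Sigma.ι X k.2) (o ≫ x₁) (by rintro _ ⟨z, rfl⟩; exact z.2.2)
  have hy₀ : y₀ ≫ _ = o ≫ x₀ := IsOpenImmersion.lift_fac _ _ _
  have hy₁ : y₁ ≫ _ = o ≫ x₁ := IsOpenImmersion.lift_fac _ _ _
  have hy : y₀ ≫ f k.1 = y₁ ≫ f k.2 := by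
    rw [← Sigma.ι_desc f k.1, ← Sigma.ι_desc f k.2, reassoc_of% hy₀, reassoc_of% hy₁, h]
  let a' : Lifts (((toFam f).obj D₁).obj k.1) y₀ :=
    ⟨pullback.lift (f := D₁.obj.hom) (g := Sigma.ι X k.1) (o ≫ v.1) y₀ (by rw [Category.assoc, v.2, hy₀]),
      pullback.lift_snd _ _ _⟩
  let b' : (O k).toScheme ⟶ (((toFam f).obj D₁).obj k.2).left :=
    pullback.lift (f := D₁.obj.hom) (g := Sigma.ι X k.2) (o ≫ b) y₁
      (by rw [Category.assoc, (D₁.φ x₀ x₁ h v).2, hy₁])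
  have ha' : a'.1 ≫ famFst D₁ k.1 = o ≫ v.1 := pullback.lift_fst _ _ _
  have hb' : b' ≫ famFst D₁ k.2 = o ≫ b := pullback.lift_fst _ _ _
  have e₁ : (((toFam f).obj D₁).φ y₀ y₁ hy a').1 = b' := by
    refine famHom_ext D₁ ?_ ((((toFam f).obj D₁).φ y₀ y₁ hy a').2.trans (pullback.lift_snd _ _ _).symm)
    rw [hb']
    have r := rel_famφ D₁ y₀ y₁ hy a'
    rw [ha'] at r
    refine (r.symm.trans ((rel_φ h v).comp o)).eq ?_
    rw [Category.assoc _ (famFst D₁ k.2), famFst_hom, ← Category.assoc, (((toFam f).obj D₁).φ y₀ y₁ hy a').2,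
      hy₁, Category.assoc, (D₁.φ x₀ x₁ h v).2]
  let w' : Lifts (((toFam f).obj D₂).obj k.1) y₀ :=
    ⟨a'.1 ≫ (α.hom k.1).left, by rw [Category.assoc, Over.w (α.hom k.1)]; exact a'.2⟩
  have e₂ := α.comm y₀ y₁ hy a' w' rfl
  have r := rel_famφ D₂ y₀ y₁ hy w'
  rw [e₂, e₁, Category.assoc b' _ (famFst D₂ k.2), ← hψ, ← Category.assoc b', hb', Category.assoc o b ψ] at r
  rw [show w'.1 ≫ famFst D₂ k.1 = o ≫ w.1 by
    change (a'.1 ≫ (α.hom k.1).left) ≫ _ = _
    rw [Category.assoc, ← hψ, ← Category.assoc, ha', hw, Category.assoc]] at r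
  refine (((rel_φ h w).comp o).symm.trans r).eq ?_
  rw [Category.assoc, Category.assoc, Category.assoc, hψπ, (D₂.φ x₀ x₁ h w).2, (D₁.φ x₀ x₁ h v).2]

instance : (toFam f).Full where
  map_surjective {D₁ D₂} α := by
    obtain ⟨ψ, hψ⟩ := exists_preimage α
    refine ⟨ψ, ?_⟩
    ext1; funext i; ext1
    refine famHom_ext D₂ ((pullback.lift_fst _ _ _).trans (hψ i)) ?_
    exact (Over.w (((toFam f).map ψ).hom i)).trans (Over.w (α.hom i)).symm

instance : (toFam f).EssSurj where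
  mem_essImage E := by
    let sq := fun i => (isPullback_sigmaι_map (fun i => (E.obj i).hom) i).flip
    let e : ∀ i, (E.obj i).left ≅ (((toFam f).obj (ofFam E)).obj i).left := fun i => (sq i).isoPullback
    have e₁ : ∀ i, (e i).hom ≫ famFst (ofFam E) i = Sigma.ι (fun i => (E.obj i).left) i := fun i =>
      (sq i).isoPullback_hom_fst
    have e₂ : ∀ i, (e i).hom ≫ (((toFam f).obj (ofFam E)).obj i).hom = (E.obj i).hom := fun i =>
      (sq i).isoPullback_hom_snd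
    have key : ∀ ⦃T : Scheme.{u}⦄ ⦃i j : ι⦄ (x₀ : T ⟶ X i) (x₁ : T ⟶ X j) (h : x₀ ≫ f i = x₁ ≫ f j)
        (v : Lifts (E.obj i) x₀) (w : Lifts (((toFam f).obj (ofFam E)).obj i) x₀), w.1 = v.1 ≫ (e i).hom →
        (((toFam f).obj (ofFam E)).φ x₀ x₁ h w).1 = (E.φ x₀ x₁ h v).1 ≫ (e j).hom := by
      intro T i j x₀ x₁ h v w hw
      refine famHom_ext (ofFam E) ?_ ((((toFam f).obj (ofFam E)).φ x₀ x₁ h w).2.trans
        (by rw [Category.assoc, e₂, (E.φ x₀ x₁ h v).2]))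
      rw [Category.assoc _ (e j).hom, e₁]
      have r := rel_famφ (ofFam E) x₀ x₁ h w
      rw [hw, Category.assoc v.1, e₁] at r
      refine (r.symm.trans (rel_ofFam.2 (relF_ι h v))).eq ?_
      rw [Category.assoc _ (famFst (ofFam E) j), famFst_hom, ← Category.assoc,
        (((toFam f).obj (ofFam E)).φ x₀ x₁ h w).2]
      change _ = ((E.φ x₀ x₁ h v).1 ≫ _) ≫ Limits.Sigma.map _
      rw [Category.assoc, Sigma.ι_map, ← Category.assoc, (E.φ x₀ x₁ h v).2]
    let ι' : E ⟶ (toFam f).obj (ofFam E) := ⟨fun i => Over.homMk (e i).hom (e₂ i), key⟩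
    refine ⟨ofFam E, ⟨Iso.symm ⟨ι', ⟨fun i => Over.homMk (e i).inv ?_, ?_⟩, ?_, ?_⟩⟩⟩
    · rw [← e₂, Iso.inv_hom_id_assoc]
    · intro T i j x₀ x₁ h v w hw
      change w.1 = v.1 ≫ (e i).inv at hw
      have := key x₀ x₁ h w v (by rw [hw, Category.assoc, Iso.inv_hom_id, Category.comp_id])
      change _ = (((toFam f).obj (ofFam E)).φ x₀ x₁ h v).1 ≫ (e j).inv
      rw [this, Category.assoc, Iso.hom_inv_id, Category.comp_id]
    · ext1; funext i; ext1; exact (e i).hom_inv_id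
    · ext1; funext i; ext1; exact (e i).inv_hom_id

theorem isEquivalence_toFam : (toFam f).IsEquivalence where

end DescLib
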