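import Groth.Agent.DescLib.Refine
import Mathlib.AlgebraicGeometry.Gluing
import Mathlib.AlgebraicGeometry.Limits

/-!
# A descent datum covered by effective stable opens is effective
-/

set_option autoImplicit false
set_option linter.style.haveILetI false
set_option backward.isDefEq.respectTransparency false
set_option backward.isDefEq.respectTransparency.types false

universe u

open CategoryTheory CategoryTheory.Limits AlgebraicGeometry TopologicalSpace

namespace DescLib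

open Desc

variable {X S : Scheme.{u}} {p : X ⟶ S} (D : SchDD p)

/-- A stable open on which the descent datum has a quotient. -/
def Good (W : D.obj.left.Opens) : Prop :=
  Stable D (W : Set D.obj.left) ∧ ∃ (U : Scheme.{u}) (g : U ⟶ S) (q : W.toScheme ⟶ U), IsQuot D W.ι g q

theorem exists_of_isPullback {P A B C : Scheme.{u}} {fst : P ⟶ A} {snd : P ⟶ B} {f : A ⟶ C} {g : B ⟶ C}
    (h : IsPullback fst snd f g) {a : A} {b : B} (e : f a = g b) : ∃ z : P, fst z = a ∧ snd z = b := by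
  obtain ⟨z, hz₁, hz₂⟩ := Scheme.Pullback.exists_preimage_pullback (f := f) (g := g) a b e
  exact ⟨h.isoPullback.inv z, by rw [← Scheme.Hom.comp_apply, h.isoPullback_inv_fst, hz₁],
    by rw [← Scheme.Hom.comp_apply, h.isoPullback_inv_snd, hz₂]⟩

variable {D}

theorem good_of_isQuot {Y U : Scheme.{u}} {j : Y ⟶ D.obj.left} [IsOpenImmersion j] {g : U ⟶ S} {q : Y ⟶ U}
    (hq : IsQuot D j g q) : Good D j.opensRange := by
  refine ⟨hq.stable, U, g, (IsOpenImmersion.isoOfRangeEq j.opensRange.ι j ?_).hom ≫ q, ?_⟩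
  · rw [Scheme.Opens.range_ι]; rfl
  · have := hq.of_iso (IsOpenImmersion.isoOfRangeEq j.opensRange.ι j (by rw [Scheme.Opens.range_ι]; rfl))
    rwa [IsOpenImmersion.isoOfRangeEq_hom_fac] at this

theorem Good.of_le [Fpqc p] {W W' : D.obj.left.Opens} (h : Good D W) (hle : W' ≤ W)
    (hW' : Stable D (W' : Set D.obj.left)) : Good D W' := by
  obtain ⟨-, U, g, q, hq⟩ := h
  obtain ⟨U', g', q', hq', -⟩ := exists_isQuot_of_le hq hW' (by rw [Scheme.Opens.range_ι]; exact hle)
  exact ⟨hW', U', g', q', hq'⟩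

theorem Good.inf [Fpqc p] {W W' : D.obj.left.Opens} (h : Good D W) (h' : Good D W') : Good D (W ⊓ W') :=
  h.of_le inf_le_left (h.1.inter h'.1)

variable (D) in
theorem exists_isQuot_glue [Fpqc p] (h : ∀ v : D.obj.left, ∃ W : D.obj.left.Opens, v ∈ W ∧ Good D W) :
    ∃ (U : Scheme.{u}) (g : U ⟶ S) (q : D.obj.left ⟶ U), IsQuot D (𝟙 _) g q := by
  let J : Type u := {W : D.obj.left.Opens // Good D W}
  choose Uo go qo hqo using fun W : J => W.2.2
  haveI hfp : ∀ W : J, Fpqc (qo W) := fun W => (hqo W).fpqc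
  have ht : ∀ {a b : J} (hab : a ≤ b), ∃ t : Uo a ⟶ Uo b, qo a ≫ t = D.obj.left.homOfLE hab ≫ qo b := fun {a b} hab =>
    (hqo a).exists_desc _ fun T x y r => by
      rw [← Category.assoc, ← Category.assoc]
      refine (hqo b).rel _ _ ?_
      simpa only [Category.assoc, Scheme.homOfLE_ι] using r
  choose t ht using @ht
  let F : J ⥤ Scheme.{u} :=
    { obj := Uo
      map := fun {a b} f => t (leOfHom f)
      map_id := fun a => by
        rw [← cancel_epi (qo a), ht, Category.comp_id]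
        simp
      map_comp := fun {a b c} f f' => by
        refine (cancel_epi (qo a)).1 ?_
        rw [ht, ← Category.assoc, ht (leOfHom f), Category.assoc, ht (leOfHom f'), Scheme.homOfLE_homOfLE_assoc] }
  have hg : ∀ {a b : J} (hab : a ≤ b), t hab ≫ go b = go a := fun {a b} hab => by
    refine (cancel_epi (qo a)).1 ?_
    rw [← Category.assoc, ht hab, Category.assoc, (hqo b).w, (hqo a).w, ← Category.assoc, Scheme.homOfLE_ι]
  have hsq : ∀ {a b : J} (hab : a ≤ b), IsPullback (qo a) (D.obj.left.homOfLE hab) (t hab) (qo b) := by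
    intro a b hab
    refine IsPullback.of_bot ?_ (ht hab) (hqo b).isPullback
    rw [hg hab, ← Category.assoc, Scheme.homOfLE_ι]
    exact (hqo a).isPullback
  haveI hopen : ∀ {a b : J} (f : a ⟶ b), IsOpenImmersion (F.map f) := fun {a b} f => by
    obtain ⟨U', g', q', hq', hi⟩ := exists_isQuot_of_le (hqo b) a.2.1
      (by rw [Scheme.Opens.range_ι]; exact leOfHom f)
    obtain ⟨i, hi, hiq⟩ := hi (D.obj.left.homOfLE (leOfHom f)) (Scheme.homOfLE_ι _ _)
    haveI := hq'.fpqc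
    obtain ⟨e₁, he₁⟩ := (hqo a).exists_desc q' hq'.rel
    obtain ⟨e₂, he₂⟩ := hq'.exists_desc (qo a) (hqo a).rel
    haveI : IsIso e₁ := ⟨e₂, by rw [← cancel_epi (qo a), reassoc_of% he₁, he₂, Category.comp_id],
      by rw [← cancel_epi q', reassoc_of% he₂, he₁, Category.comp_id]⟩
    haveI := hi
    have : F.map f = e₁ ≫ i := by
      change t (leOfHom f) = _
      rw [← cancel_epi (qo a), ht, reassoc_of% he₁, hiq]
    rw [this]; infer_instance
  haveI hdir : (F ⋙ Scheme.forget).IsLocallyDirected := ⟨by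
    intro a b c fa fb (u₁ : Uo a) (u₂ : Uo b) (e : t (leOfHom fa) u₁ = t (leOfHom fb) u₂)
    obtain ⟨v, hv⟩ := (qo c).surjective (t (leOfHom fa) u₁)
    obtain ⟨y₁, hy₁, hy₁'⟩ := exists_of_isPullback (hsq (leOfHom fa)) hv.symm
    obtain ⟨y₂, hy₂, hy₂'⟩ := exists_of_isPullback (hsq (leOfHom fb)) (e.symm.trans hv.symm)
    let d : J := ⟨a.1 ⊓ b.1, a.2.inf b.2⟩
    have hc : (c.1.ι v : D.obj.left) ∈ d.1 := by
      refine ⟨?_, ?_⟩
      · rw [← hy₁', ← Scheme.Hom.comp_apply, Scheme.homOfLE_ι]; exact y₁.2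
      · rw [← hy₂', ← Scheme.Hom.comp_apply, Scheme.homOfLE_ι]; exact y₂.2
    have hda : d ≤ a := inf_le_left (a := a.1) (b := b.1)
    have hdb : d ≤ b := inf_le_right (a := a.1) (b := b.1)
    have key : ∀ {k : J} (hdk : d ≤ k) (y : k.1.toScheme), k.1.ι y = c.1.ι v →
        t hdk (qo d ⟨_, hc⟩) = qo k y := by
      intro k hdk y hy
      rw [← Scheme.Hom.comp_apply, ht, Scheme.Hom.comp_apply]
      congr 1
      apply k.1.ι.isOpenEmbedding.injective
      rw [← Scheme.Hom.comp_apply, Scheme.homOfLE_ι, hy]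
      rfl
    refine ⟨d, homOfLE hda, homOfLE hdb, qo d ⟨_, hc⟩, ?_, ?_⟩
    · refine (key hda y₁ ?_).trans hy₁
      rw [← hy₁', ← Scheme.Hom.comp_apply, Scheme.homOfLE_ι]
    · refine (key hdb y₂ ?_).trans hy₂
      rw [← hy₂', ← Scheme.Hom.comp_apply, Scheme.homOfLE_ι]⟩
  let U := colimit F
  let ιU : ∀ a : J, Uo a ⟶ U := colimit.ι F
  have hιU : ∀ {a b : J} (hab : a ≤ b), t hab ≫ ιU b = ιU a := fun hab => colimit.w F (homOfLE hab)
  let g : U ⟶ S := colimit.desc F ⟨S, ⟨go, fun a b f => (hg (leOfHom f)).trans (Category.comp_id _).symm⟩⟩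
  have hgι : ∀ a : J, ιU a ≫ g = go a := fun a => colimit.ι_desc _ _
  let 𝒱 : D.obj.left.OpenCover := D.obj.left.openCoverOfIsOpenCover (fun a : J => a.1)
    (IsOpenCover.mk (eq_top_iff.mpr fun v _ => by
      obtain ⟨W, hv, hW⟩ := h v
      exact Opens.mem_iSup.mpr ⟨⟨W, hW⟩, hv⟩))
  let q : D.obj.left ⟶ U := 𝒱.glueMorphisms (fun a => qo a ≫ ιU a) fun (a : J) (b : J) => by
    let d : J := ⟨a.1 ⊓ b.1, a.2.inf b.2⟩
    have hda : d ≤ a := inf_le_left (a := a.1) (b := b.1)
    have hdb : d ≤ b := inf_le_right (a := a.1) (b := b.1)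
    change pullback.fst a.1.ι b.1.ι ≫ qo a ≫ ιU a = pullback.snd a.1.ι b.1.ι ≫ qo b ≫ ιU b
    have hp := isPullback_opens_inf a.1 b.1
    let l := hp.lift (pullback.fst a.1.ι b.1.ι) (pullback.snd a.1.ι b.1.ι) pullback.condition
    have e₁ : l ≫ _ = pullback.fst a.1.ι b.1.ι := hp.lift_fst _ _ _
    have e₂ : l ≫ _ = pullback.snd a.1.ι b.1.ι := hp.lift_snd _ _ _
    refine ((reassoc_of% e₁) _).symm.trans (Eq.trans ?_ ((reassoc_of% e₂) _))
    change _ ≫ D.obj.left.homOfLE hda ≫ _ = _ ≫ D.obj.left.homOfLE hdb ≫ _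
    rw [← reassoc_of% (ht hda), ← reassoc_of% (ht hdb), hιU, hιU]
  have hqι : ∀ a : J, a.1.ι ≫ q = qo a ≫ ιU a := fun a => 𝒱.ι_glueMorphisms _ _ a
  haveI : ∀ a : J, IsOpenImmersion (ιU a) := fun a => inferInstanceAs (IsOpenImmersion (colimit.ι F a))
  have hpre : ∀ a : J, q ⁻¹ᵁ (ιU a).opensRange = a.1.ι.opensRange := by
    intro a
    rw [Scheme.Opens.opensRange_ι]
    refine Opens.ext (Set.ext fun v => ⟨?_, fun hv => ?_⟩)
    · rintro ⟨u, hu⟩
      obtain ⟨W, hvW, hW⟩ := h v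
      have e : ιU ⟨W, hW⟩ (qo ⟨W, hW⟩ ⟨v, hvW⟩) = ιU a u := by
        rw [← Scheme.Hom.comp_apply, ← hqι, Scheme.Hom.comp_apply]
        exact hu.symm
      obtain ⟨k, fi, fj, x, hx, -⟩ := (Scheme.IsLocallyDirected.ι_eq_ι_iff F).mp e
      obtain ⟨y, -, hy⟩ := exists_of_isPullback (hsq (leOfHom fi)) (a := x) (b := ⟨v, hvW⟩) hx
      have hyv : k.1.ι y = v := by
        rw [← Scheme.homOfLE_ι _ (leOfHom fi), Scheme.Hom.comp_apply, hy]; rfl
      exact (leOfHom fj) (hyv ▸ y.2)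
    · refine ⟨qo a ⟨v, hv⟩, ?_⟩
      rw [← Scheme.Hom.comp_apply, ← hqι]
      rfl
  have hqg : q ≫ g = D.obj.hom ≫ p := 𝒱.hom_ext _ _ fun (a : J) => by
    change a.1.ι ≫ q ≫ g = a.1.ι ≫ D.obj.hom ≫ p
    rw [reassoc_of% (hqι a), hgι, (hqo a).w]
  have hsqU : ∀ a : J, IsPullback (qo a) a.1.ι (ιU a) q := fun a =>
    IsOpenImmersion.isPullback _ _ _ _ (hqι a) (hpre a)
  let k : D.obj.left ⟶ pullback g p := pullback.lift q D.obj.hom hqg
  haveI : IsIso k := by
    refine IsZariskiLocalAtTarget.of_openCover (P := MorphismProperty.isomorphisms Scheme)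
      ((Scheme.IsLocallyDirected.openCover F).pullback₁ (pullback.fst g p)) fun (a : J) => ?_
    change IsIso (pullback.snd k (pullback.fst (pullback.fst g p) (ιU a)))
    have rig := (IsPullback.of_hasPullback (pullback.fst g p) (ιU a)).flip
    have hbig : IsPullback (pullback.snd (pullback.fst g p) (ιU a))
        (pullback.fst (pullback.fst g p) (ιU a) ≫ pullback.snd g p) (go a) p := by
      rw [← hgι a]
      exact rig.paste_vert (IsPullback.of_hasPullback g p)
    let ka : a.1.toScheme ≅ pullback (pullback.fst g p) (ιU a) := (hqo a).isPullback.isoIsPullback _ _ hbig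
    have e₁ : ka.hom ≫ pullback.snd (pullback.fst g p) (ιU a) = qo a :=
      IsPullback.isoIsPullback_hom_fst _ _ _ _
    have e₂ : ka.hom ≫ pullback.fst (pullback.fst g p) (ιU a) ≫ pullback.snd g p = a.1.ι ≫ D.obj.hom :=
      IsPullback.isoIsPullback_hom_snd _ _ _ _
    have comm : a.1.ι ≫ k = ka.hom ≫ pullback.fst (pullback.fst g p) (ιU a) := by
      apply pullback.hom_ext
      · rw [Category.assoc, Category.assoc, pullback.lift_fst, hqι, pullback.condition, reassoc_of% e₁]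
      · rw [Category.assoc, Category.assoc, pullback.lift_snd, e₂]
    have big : IsPullback (ka.hom ≫ pullback.snd (pullback.fst g p) (ιU a)) a.1.ι (ιU a) (k ≫ pullback.fst g p) := by
      rw [e₁, pullback.lift_fst]
      exact hsqU a
    have sq := (IsPullback.of_right big comm.symm rig).flip
    rw [← sq.isoPullback_inv_snd]
    infer_instance
  refine ⟨U, g, q, ⟨fun T x y r => ?_, fun T x c _ => ⟨c, Category.comp_id c⟩, ?_⟩⟩
  · rw [Category.comp_id, Category.comp_id] at r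
    refine (T.openCoverOfIsOpenCover (fun a : J => x ⁻¹ᵁ a.1) (IsOpenCover.mk (eq_top_iff.mpr fun s _ => by
      obtain ⟨W, hv, hW⟩ := h (x s)
      exact Opens.mem_iSup.mpr ⟨⟨W, hW⟩, hv⟩))).hom_ext _ _ fun (a : J) => ?_
    change (x ⁻¹ᵁ a.1).ι ≫ x ≫ q = (x ⁻¹ᵁ a.1).ι ≫ y ≫ q
    have hr := r.comp (x ⁻¹ᵁ a.1).ι
    rw [← morphismRestrict_ι x a.1] at hr
    obtain ⟨y', hy'⟩ := (hqo a).lift _ _ hr
    rw [← hy'] at hr
    rw [← reassoc_of% (morphismRestrict_ι x a.1), ← reassoc_of% hy', hqι, ← Category.assoc, ← Category.assoc,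
      (hqo a).rel _ _ hr]
  · rw [Category.id_comp]
    exact (IsPullback.of_hasPullback g p).of_iso (asIso k).symm (Iso.refl _) (Iso.refl _) (Iso.refl _)
      (by simp [k]) (by simp [k]) (by simp) (by simp)

theorem effective_of_forall_good [Fpqc p] (D : SchDD p)
    (h : ∀ v : D.obj.left, ∃ W : D.obj.left.Opens, v ∈ W ∧ Good D W) :
    ∃ U : Over S, Nonempty ((Desc.toDD p).obj U ≅ D) := by
  obtain ⟨U, g, q, hq⟩ := exists_isQuot_glue D h
  exact effective_of_isQuot hq

end DescLib
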