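import Groth.Agent.DescLib.Main
import Groth.Agent.RichLib.IndQuasiAffine
import Mathlib.AlgebraicGeometry.IdealSheaf.Functorial
import Mathlib.RingTheory.Flat.Basic

/-!
# Effective fpqc descent for ind-quasi-affine schemes: stable quasi-compact opens

Over affine schemes `X → S`, let `v` lie in an affine open `W`, and `U₁ ⊆ U₂ ⊆ U₃` be quasi-compact opens,
each containing the saturation of the previous one and of `W`. A function `f` on `U₃` with `v ∈ D(f) ⊆ W` has,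
by flatness, restriction to `U₁` generated over `Γ(X)` by functions invariant on `U₁` which vanish on the
saturation of the complement of `U₁`; the nonvanishing locus of one of them is the wanted stable open.
-/

set_option autoImplicit false
set_option linter.style.haveILetI false
set_option backward.isDefEq.respectTransparency false
set_option backward.isDefEq.respectTransparency.types false

universe u

open CategoryTheory CategoryTheory.Limits AlgebraicGeometry TopologicalSpace TensorProduct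

namespace DescLib

open Desc

/-- The kernel of a base-changed linear map, flat case. -/
theorem exists_ker_tensor {A : Type u} [CommRing A] {M N F : Type u} [AddCommGroup M] [AddCommGroup N]
    [AddCommGroup F] [Module A M] [Module A N] [Module A F] [Module.Flat A F] (L : M →ₗ[A] N) {z : M ⊗[A] F}
    (hz : L.rTensor F z = 0) : ∃ z' : L.ker ⊗[A] F, L.ker.subtype.rTensor F z' = z :=
  (Module.Flat.rTensor_exact F (L.exact_subtype_ker_map) z).1 hz

theorem basicOpen_map {P Q : Scheme.{u}} (m : P ⟶ Q) (g : Γ(Q, ⊤)) (x : P) :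
    x ∈ P.basicOpen (m.appTop g) ↔ m x ∈ Q.basicOpen g := by
  rw [← Scheme.preimage_basicOpen_top]; rfl

variable {X S : Scheme.{u}} {p : X ⟶ S} (D : SchDD p)

theorem quasiSeparatedSpace_of_compactOpens (hV : ∀ W : D.obj.left.Opens, IsCompact (W : Set D.obj.left) →
    W.toScheme.IsQuasiAffine) : QuasiSeparatedSpace D.obj.left := by
  refine ⟨fun A B hAo hA hBo hB => ?_⟩
  let W : D.obj.left.Opens := ⟨A ∪ B, hAo.union hBo⟩
  haveI := hV W (hA.union hB)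
  haveI : QuasiSeparatedSpace W.toScheme := inferInstance
  have e : A ∩ B = W.ι '' ((W.ι ⁻¹' A) ∩ (W.ι ⁻¹' B)) := by
    ext x
    constructor
    · intro hx; exact ⟨⟨x, Or.inl hx.1⟩, hx, rfl⟩
    · rintro ⟨y, hy, rfl⟩; exact hy
  have hc : ∀ C : Set D.obj.left, C ⊆ A ∪ B → IsCompact C → IsCompact (W.ι ⁻¹' C) := fun C hC hCc =>
    W.ι.isOpenEmbedding.isInducing.isCompact_preimage' hCc (by rw [Scheme.Opens.range_ι]; exact hC)
  rw [e]
  exact (QuasiSeparatedSpace.inter_isCompact _ _ (hAo.preimage W.ι.continuous) (hc A Set.subset_union_left hA)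
    (hBo.preimage W.ι.continuous) (hc B Set.subset_union_right hB)).image W.ι.continuous

theorem exists_compact_open_superset {V : Scheme.{u}} {K : Set V} (hK : IsCompact K) :
    ∃ U : V.Opens, IsCompact (U : Set V) ∧ K ⊆ U := by
  obtain ⟨t, ht⟩ := hK.elim_finite_subcover (fun W : V.affineOpens => (W.1 : Set V)) (fun W => W.1.2)
    (fun x _ => by
      obtain ⟨W, hW, hx, -⟩ := Opens.isBasis_iff_nbhd.mp V.isBasis_affineOpens (Opens.mem_top x)
      exact Set.mem_iUnion.mpr ⟨⟨W, hW⟩, hx⟩)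
  exact ⟨⟨⋃ W ∈ t, (W.1 : Set V), isOpen_biUnion fun W _ => W.1.2⟩, t.isCompact_biUnion fun W _ => W.2.isCompact, ht⟩

theorem exists_good_indQA [IsAffine X] [IsAffine S] [Flat p] [Surjective p]
    (hV : ∀ W : D.obj.left.Opens, IsCompact (W : Set D.obj.left) → W.toScheme.IsQuasiAffine) (v : D.obj.left) :
    ∃ G : D.obj.left.Opens, v ∈ G ∧ Good D G := by
  haveI := quasiSeparatedSpace_of_compactOpens D hV
  haveI : QuasiCompact p := inferInstance
  let π := D.obj.hom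
  let R := pullback (π ≫ p) p
  let fst : R ⟶ D.obj.left := pullback.fst (π ≫ p) p
  let snd : R ⟶ X := pullback.snd (π ≫ p) p
  obtain ⟨d, hd, hdr⟩ := exists_rel fst snd (by rw [Category.assoc]; exact pullback.condition)
  have hz : ∀ {T : Scheme.{u}} {a b : T ⟶ D.obj.left} (z : T ⟶ R),
      z ≫ fst = a → z ≫ snd = b ≫ π → Rel D a b → z ≫ d = b := by
    intro T a b z h₁ h₂ r
    have h := hdr.comp z
    rw [h₁] at h
    exact (h.symm.trans r).eq (by rw [Category.assoc, hd]; exact h₂)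
  let σ : R ⟶ R :=
    pullback.lift d (fst ≫ π) (by rw [← Category.assoc d, hd, Category.assoc]; exact pullback.condition.symm)
  have hσ₁ : σ ≫ fst = d := pullback.lift_fst _ _ _
  have hσ₂ : σ ≫ snd = fst ≫ π := pullback.lift_snd _ _ _
  have hσd : σ ≫ d = fst := hz σ hσ₁ hσ₂ hdr.symm
  have hσσ : σ ≫ σ = 𝟙 _ := pullback.hom_ext
    (by change (σ ≫ σ) ≫ fst = 𝟙 _ ≫ fst; rw [Category.assoc, hσ₁, hσd, Category.id_comp])
    (by change (σ ≫ σ) ≫ snd = 𝟙 _ ≫ snd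
        rw [Category.assoc, hσ₂, ← Category.assoc, hσ₁, hd, Category.id_comp])
  haveI : IsIso σ := ⟨σ, hσσ, hσσ⟩
  haveI : QuasiCompact fst := MorphismProperty.pullback_fst _ _ ‹_›
  haveI : QuasiCompact d := by rw [← hσ₁]; infer_instance
  haveI : QuasiSeparatedSpace R := quasiSeparatedSpace_of_quasiSeparated fst
  let s : D.obj.left ⟶ R := pullback.lift (𝟙 D.obj.left) π (Category.id_comp _)
  have hs : s ≫ fst = 𝟙 _ := pullback.lift_fst _ _ _
  have hsd : s ≫ d = 𝟙 _ := hz s hs ((pullback.lift_snd _ _ _).trans (Category.id_comp _).symm) (Rel.refl _)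
  have hnext : ∀ U : D.obj.left.Opens, IsCompact (U : Set D.obj.left) → ∃ U' : D.obj.left.Opens,
      IsCompact (U' : Set D.obj.left) ∧ U ≤ U' ∧ ∀ y, fst y ∈ U → d y ∈ U' := by
    intro U hU
    obtain ⟨U', hU', hsub⟩ := exists_compact_open_superset ((fst.isCompact_preimage hU).image d.continuous)
    refine ⟨U', hU', fun x hx => hsub ⟨s x, ?_, ?_⟩, fun y hy => hsub ⟨y, hy, rfl⟩⟩
    · change fst (s x) ∈ U
      rw [← Scheme.Hom.comp_apply, hs]; exact hx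
    · rw [← Scheme.Hom.comp_apply, hsd]; rfl
  obtain ⟨W, hW, hvW, -⟩ := Opens.isBasis_iff_nbhd.mp D.obj.left.isBasis_affineOpens (Opens.mem_top v)
  obtain ⟨U₁, hU₁, hWU₁, hd₀₁⟩ := hnext W (IsAffineOpen.isCompact hW)
  obtain ⟨U₂, hU₂, h₁₂, hd₁₂⟩ := hnext U₁ hU₁
  obtain ⟨U₃, hU₃, h₂₃, hd₂₃⟩ := hnext U₂ hU₂
  -- the saturation of the complement of `U₁`
  let E : Set D.obj.left := {x | ∃ y, fst y ∉ U₁ ∧ d y = x}
  have hE₁ : ∀ x, x ∉ U₁ → x ∈ E := fun x hx => ⟨s x, by rwa [← Scheme.Hom.comp_apply, hs], by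
    rw [← Scheme.Hom.comp_apply, hsd]; rfl⟩
  have hEW : ∀ x ∈ E, x ∉ W := by
    rintro x ⟨y, hy, rfl⟩ hxW
    refine hy ?_
    have h := hd₀₁ (σ y) (by rw [← Scheme.Hom.comp_apply, hσ₁]; exact hxW)
    rwa [← Scheme.Hom.comp_apply, hσd] at h
  have hEst : Stable D E := by
    rintro T a b r t ⟨y, hy, hyt⟩
    let z : T ⟶ R := pullback.lift a (b ≫ π) (by rw [← Category.assoc]; exact r.1)
    have hza : z ≫ fst = a := pullback.lift_fst _ _ _
    obtain ⟨w, hw₁, hw₂⟩ := Scheme.Pullback.exists_preimage_pullback (f := d) (g := fst) y (z t)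
      (by rw [hyt, ← Scheme.Hom.comp_apply z fst, hza])
    let q₁ := pullback.fst d fst
    let q₂ := pullback.snd d fst
    have r₁ := hdr.comp q₁
    have r₂ := hdr.comp q₂
    rw [← pullback.condition] at r₂
    have r₁₂ := r₁.trans r₂
    let ρ : pullback d fst ⟶ R := pullback.lift (q₁ ≫ fst) ((q₂ ≫ d) ≫ π) (by rw [← Category.assoc]; exact r₁₂.1)
    have hρd : ρ ≫ d = q₂ ≫ d := hz ρ (pullback.lift_fst _ _ _) (pullback.lift_snd _ _ _) r₁₂
    refine ⟨ρ w, ?_, ?_⟩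
    · rw [← Scheme.Hom.comp_apply ρ fst, show ρ ≫ fst = q₁ ≫ fst from pullback.lift_fst _ _ _,
        Scheme.Hom.comp_apply, hw₁]
      exact hy
    · have hzd : z ≫ d = b := hz z hza (pullback.lift_snd _ _ _) r
      rw [← Scheme.Hom.comp_apply, hρd, Scheme.Hom.comp_apply, hw₂, ← Scheme.Hom.comp_apply, hzd]
  -- the function
  haveI hQ₁ := hV U₁ hU₁
  haveI hQ₂ := hV U₂ hU₂
  haveI hQ₃ := hV U₃ hU₃
  have hv₁ : v ∈ U₁ := hWU₁ hvW
  obtain ⟨_, ⟨_, ⟨f, -, rfl⟩, rfl⟩, hvf, hfW⟩ := (Scheme.IsQuasiAffine.isBasis_basicOpen U₃.toScheme)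
    |>.exists_subset_of_mem_open (show (⟨v, h₂₃ (h₁₂ hv₁)⟩ : U₃.toScheme) ∈ U₃.ι ⁻¹ᵁ W from hvW) (U₃.ι ⁻¹ᵁ W).2
  -- the algebra
  let j₁ := U₁.ι ≫ π
  let j₂ := U₂.ι ≫ π
  let R₁ := pullback (j₁ ≫ p) p
  let R₂ := pullback (j₂ ≫ p) p
  let r₁ : R₁ ⟶ U₁.toScheme := pullback.fst _ _
  let t₁ : R₁ ⟶ X := pullback.snd _ _
  let r₂ : R₂ ⟶ U₂.toScheme := pullback.fst _ _
  let t₂ : R₂ ⟶ X := pullback.snd _ _
  have w₁ : (r₁ ≫ j₁) ≫ p = t₁ ≫ p := by rw [Category.assoc]; exact pullback.condition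
  have w₂ : (r₂ ≫ j₂) ≫ p = t₂ ≫ p := by rw [Category.assoc]; exact pullback.condition
  let m₁ : R₁ ⟶ R := pullback.lift (r₁ ≫ U₁.ι) t₁ (by simpa only [j₁, Category.assoc] using w₁)
  let m₂ : R₂ ⟶ R := pullback.lift (r₂ ≫ U₂.ι) t₂ (by simpa only [j₂, Category.assoc] using w₂)
  have hm₁ : m₁ ≫ fst = r₁ ≫ U₁.ι := pullback.lift_fst _ _ _
  have hm₂ : m₂ ≫ fst = r₂ ≫ U₂.ι := pullback.lift_fst _ _ _
  let d₁ : R₁ ⟶ U₂.toScheme := IsOpenImmersion.lift U₂.ι (m₁ ≫ d) (by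
    rintro _ ⟨y, rfl⟩
    rw [Scheme.Opens.range_ι, Scheme.Hom.comp_apply]
    exact hd₁₂ _ (by rw [← Scheme.Hom.comp_apply, hm₁, Scheme.Hom.comp_apply]; exact (r₁ y).2))
  have hd₁ : d₁ ≫ U₂.ι = m₁ ≫ d := IsOpenImmersion.lift_fac _ _ _
  let d₂ : R₂ ⟶ U₃.toScheme := IsOpenImmersion.lift U₃.ι (m₂ ≫ d) (by
    rintro _ ⟨y, rfl⟩
    rw [Scheme.Opens.range_ι, Scheme.Hom.comp_apply]
    exact hd₂₃ _ (by rw [← Scheme.Hom.comp_apply, hm₂, Scheme.Hom.comp_apply]; exact (r₂ y).2))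
  have hd₂ : d₂ ≫ U₃.ι = m₂ ≫ d := IsOpenImmersion.lift_fac _ _ _
  let i₁₂ := D.obj.left.homOfLE h₁₂
  have hi : i₁₂ ≫ U₂.ι = U₁.ι := Scheme.homOfLE_ι _ _
  have hd₁π : d₁ ≫ j₂ = t₁ := by
    rw [← Category.assoc d₁, hd₁, Category.assoc, hd]
    exact pullback.lift_snd _ _ _
  let R₁₁ := pullback (r₁ ≫ j₁ ≫ p) p
  let pr : R₁₁ ⟶ R₁ := pullback.fst _ _
  let pt : R₁₁ ⟶ X := pullback.snd _ _
  have wα : (pr ≫ d₁) ≫ j₂ ≫ p = pt ≫ p := by
    rw [Category.assoc, ← Category.assoc d₁, hd₁π, ← w₁, Category.assoc]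
    exact pullback.condition
  have wβ : (pr ≫ r₁ ≫ i₁₂) ≫ j₂ ≫ p = pt ≫ p := by
    simp only [j₂, Category.assoc]
    rw [reassoc_of% hi]
    simpa only [j₁, Category.assoc] using (pullback.condition (f := r₁ ≫ j₁ ≫ p) (g := p))
  let α : R₁₁ ⟶ R₂ := pullback.lift (pr ≫ d₁) pt wα
  let β : R₁₁ ⟶ R₂ := pullback.lift (pr ≫ r₁ ≫ i₁₂) pt wβ
  have hαβ : α ≫ d₂ = β ≫ d₂ := by
    rw [← cancel_mono U₃.ι, Category.assoc, Category.assoc, hd₂, ← Category.assoc, ← Category.assoc]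
    have e₁ : (α ≫ m₂) ≫ fst = (pr ≫ m₁) ≫ d := by
      rw [Category.assoc, hm₂, ← Category.assoc, show α ≫ r₂ = pr ≫ d₁ from pullback.lift_fst _ _ _,
        Category.assoc, hd₁, ← Category.assoc]
    have e₂ : (β ≫ m₂) ≫ fst = (pr ≫ m₁) ≫ fst := by
      rw [Category.assoc, hm₂, ← Category.assoc, show β ≫ r₂ = pr ≫ r₁ ≫ i₁₂ from pullback.lift_fst _ _ _,
        Category.assoc, Category.assoc, hi, Category.assoc, hm₁]
    have ra := hdr.comp (α ≫ m₂)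
    have rb := hdr.comp (β ≫ m₂)
    have rc := hdr.comp (pr ≫ m₁)
    rw [e₁] at ra
    rw [e₂] at rb
    refine (ra.symm.trans (rc.symm.trans rb)).eq (Eq.trans (b := pt) ?_ (Eq.symm ?_)) <;>
      rw [Category.assoc, hd, Category.assoc, show m₂ ≫ snd = t₂ from pullback.lift_snd _ _ _] <;>
      exact pullback.lift_snd _ _ _
  -- the scheme `K` over the complement
  let P : R.Opens := d ⁻¹ᵁ U₁
  let Z : Closeds P.toScheme :=
    ⟨(P.ι ≫ fst) ⁻¹' (U₁ : Set D.obj.left)ᶜ, U₁.2.isClosed_compl.preimage (P.ι ≫ fst).continuous⟩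
  let K := (Scheme.IdealSheafData.vanishingIdeal Z).subscheme
  let kι : K ⟶ P.toScheme := (Scheme.IdealSheafData.vanishingIdeal Z).subschemeι
  haveI : CompactSpace P.toScheme := isCompact_iff_compactSpace.mp (d.isCompact_preimage hU₁)
  haveI : CompactSpace K := QuasiCompact.compactSpace_of_compactSpace kι
  haveI : QuasiSeparatedSpace P.toScheme := quasiSeparatedSpace_of_quasiSeparated P.ι
  haveI : QuasiSeparatedSpace K := quasiSeparatedSpace_of_quasiSeparated kι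
  let k : K ⟶ U₁.toScheme := kι ≫ (d ∣_ U₁)
  have hkι : Set.range kι = (Z : Set P.toScheme) := by
    rw [Scheme.IdealSheafData.range_subschemeι, Scheme.IdealSheafData.coe_support_vanishingIdeal]
  have hk₁ : ∀ x : K, U₁.ι (k x) ∈ E := fun x => by
    have hx : kι x ∈ (Z : Set P.toScheme) := hkι ▸ ⟨x, rfl⟩
    refine ⟨P.ι (kι x), ?_, ?_⟩
    · rw [← Scheme.Hom.comp_apply]; exact hx
    · rw [← Scheme.Hom.comp_apply, ← Scheme.Hom.comp_apply, ← Scheme.Hom.comp_apply]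
      simp only [k, Category.assoc, morphismRestrict_ι]
      rfl
  have hk₂ : ∀ x : U₁.toScheme, U₁.ι x ∈ E → ∃ x' : K, k x' = x := by
    rintro x ⟨y, hy, hyx⟩
    have hyP : d y ∈ U₁ := hyx ▸ x.2
    have hyZ : (⟨y, hyP⟩ : P.toScheme) ∈ (Z : Set P.toScheme) := by
      change (P.ι ≫ fst) ⟨y, hyP⟩ ∉ U₁
      rw [Scheme.Hom.comp_apply]; exact hy
    obtain ⟨x', hx'⟩ : (⟨y, hyP⟩ : P.toScheme) ∈ Set.range kι := hkι ▸ hyZ
    refine ⟨x', U₁.ι.isOpenEmbedding.injective ?_⟩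
    rw [← hyx, ← Scheme.Hom.comp_apply, Category.assoc, morphismRestrict_ι, Scheme.Hom.comp_apply, hx',
      Scheme.Hom.comp_apply]
    rfl
  let RK := pullback (k ≫ j₁ ≫ p) p
  let κ : RK ⟶ R₂ := pullback.lift (pullback.fst _ _ ≫ k ≫ i₁₂) (pullback.snd _ _) (by
    simp only [j₂, Category.assoc]
    rw [reassoc_of% hi]
    simpa only [j₁, Category.assoc] using (pullback.condition (f := k ≫ j₁ ≫ p) (g := p)))
  -- rings
  letI algA : Algebra Γ(S, ⊤) Γ(X, ⊤) := p.appTop.hom.toAlgebra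
  letI alg₁ : Algebra Γ(S, ⊤) Γ(U₁.toScheme, ⊤) := (j₁ ≫ p).appTop.hom.toAlgebra
  letI alg₂ : Algebra Γ(S, ⊤) Γ(U₂.toScheme, ⊤) := (j₂ ≫ p).appTop.hom.toAlgebra
  letI algR : Algebra Γ(S, ⊤) Γ(R₁, ⊤) := (r₁ ≫ j₁ ≫ p).appTop.hom.toAlgebra
  letI algK : Algebra Γ(S, ⊤) Γ(K, ⊤) := (k ≫ j₁ ≫ p).appTop.hom.toAlgebra
  haveI : Module.Flat Γ(S, ⊤) Γ(X, ⊤) := p.flat_appTop
  haveI : CompactSpace ↥R₁ := QuasiCompact.compactSpace_of_compactSpace r₁
  haveI : QuasiSeparatedSpace ↥R₁ := quasiSeparatedSpace_of_quasiSeparated r₁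
  obtain ⟨e₁, he₁⟩ :=
    AlgSpLib.exists_tensor_equiv (AlgSpLib.isPushout_appTop_of_flat (IsPullback.of_hasPullback (j₁ ≫ p) p)) rfl rfl
  obtain ⟨e₂, he₂⟩ :=
    AlgSpLib.exists_tensor_equiv (AlgSpLib.isPushout_appTop_of_flat (IsPullback.of_hasPullback (j₂ ≫ p) p)) rfl rfl
  obtain ⟨e₁₁, he₁₁⟩ := AlgSpLib.exists_tensor_equiv
    (AlgSpLib.isPushout_appTop_of_flat (IsPullback.of_hasPullback (r₁ ≫ j₁ ≫ p) p)) rfl rfl
  obtain ⟨eK, heK⟩ := AlgSpLib.exists_tensor_equiv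
    (AlgSpLib.isPushout_appTop_of_flat (IsPullback.of_hasPullback (k ≫ j₁ ≫ p) p)) rfl rfl
  let eA : Γ(U₁.toScheme, ⊤) ⊗[Γ(S, ⊤)] Γ(X, ⊤) ≃ₐ[Γ(S, ⊤)] Γ(R₁, ⊤) :=
    AlgEquiv.ofRingEquiv (f := e₁) fun a => by
      change e₁ ((j₁ ≫ p).appTop a ⊗ₜ 1) = (r₁ ≫ j₁ ≫ p).appTop a
      rw [he₁, map_one, mul_one]; rfl
  let φ : Γ(U₂.toScheme, ⊤) →ₐ[Γ(S, ⊤)] Γ(R₁, ⊤) :=
    ⟨d₁.appTop.hom, fun a => by
      change d₁.appTop ((j₂ ≫ p).appTop a) = (r₁ ≫ j₁ ≫ p).appTop a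
      rw [← CommRingCat.comp_apply, ← Scheme.Hom.comp_appTop, ← Category.assoc d₁, hd₁π, ← w₁, Category.assoc]⟩
  let ρ : Γ(U₂.toScheme, ⊤) →ₐ[Γ(S, ⊤)] Γ(R₁, ⊤) :=
    ⟨(r₁ ≫ i₁₂).appTop.hom, fun a => by
      change (r₁ ≫ i₁₂).appTop ((j₂ ≫ p).appTop a) = (r₁ ≫ j₁ ≫ p).appTop a
      rw [← CommRingCat.comp_apply, ← Scheme.Hom.comp_appTop]
      simp only [j₁, j₂, Category.assoc]
      rw [reassoc_of% hi]⟩
  let L : Γ(U₂.toScheme, ⊤) →ₗ[Γ(S, ⊤)] Γ(R₁, ⊤) := φ.toLinearMap - ρ.toLinearMap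
  let ψ : Γ(U₂.toScheme, ⊤) →ₐ[Γ(S, ⊤)] Γ(K, ⊤) :=
    ⟨(k ≫ i₁₂).appTop.hom, fun a => by
      change (k ≫ i₁₂).appTop ((j₂ ≫ p).appTop a) = (k ≫ j₁ ≫ p).appTop a
      rw [← CommRingCat.comp_apply, ← Scheme.Hom.comp_appTop]
      simp only [j₁, j₂, Category.assoc]
      rw [reassoc_of% hi]⟩
  have hα : ∀ z, e₁₁ (φ.toLinearMap.rTensor Γ(X, ⊤) z) = α.appTop (e₂ z) := fun z => by
    induction z using TensorProduct.induction_on with
    | zero => simp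
    | tmul b a =>
      rw [LinearMap.rTensor_tmul, he₁₁, he₂, map_mul]
      change _ * _ = α.appTop ((pullback.fst (j₂ ≫ p) p).appTop b) * α.appTop ((pullback.snd (j₂ ≫ p) p).appTop a)
      rw [← CommRingCat.comp_apply, ← Scheme.Hom.comp_appTop, ← CommRingCat.comp_apply,
        ← Scheme.Hom.comp_appTop, pullback.lift_fst, pullback.lift_snd, Scheme.Hom.comp_appTop]
      rfl
    | add x y hx hy => simp only [map_add, hx, hy]
  have hβ : ∀ z, e₁₁ (ρ.toLinearMap.rTensor Γ(X, ⊤) z) = β.appTop (e₂ z) := fun z => by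
    induction z using TensorProduct.induction_on with
    | zero => simp
    | tmul b a =>
      rw [LinearMap.rTensor_tmul, he₁₁, he₂, map_mul]
      change _ * _ = β.appTop ((pullback.fst (j₂ ≫ p) p).appTop b) * β.appTop ((pullback.snd (j₂ ≫ p) p).appTop a)
      rw [← CommRingCat.comp_apply, ← Scheme.Hom.comp_appTop, ← CommRingCat.comp_apply,
        ← Scheme.Hom.comp_appTop, pullback.lift_fst, pullback.lift_snd, Scheme.Hom.comp_appTop]
      rfl
    | add x y hx hy => simp only [map_add, hx, hy]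
  have hκ : ∀ z, eK (ψ.toLinearMap.rTensor Γ(X, ⊤) z) = κ.appTop (e₂ z) := fun z => by
    induction z using TensorProduct.induction_on with
    | zero => simp
    | tmul b a =>
      rw [LinearMap.rTensor_tmul, heK, he₂, map_mul]
      change _ * _ = κ.appTop ((pullback.fst (j₂ ≫ p) p).appTop b) * κ.appTop ((pullback.snd (j₂ ≫ p) p).appTop a)
      rw [← CommRingCat.comp_apply, ← Scheme.Hom.comp_appTop, ← CommRingCat.comp_apply,
        ← Scheme.Hom.comp_appTop, pullback.lift_fst, pullback.lift_snd, Scheme.Hom.comp_appTop]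
      rfl
    | add x y hx hy => simp only [map_add, hx, hy]
  haveI : CompactSpace ↥RK := QuasiCompact.compactSpace_of_compactSpace (pullback.fst (k ≫ j₁ ≫ p) p)
  have hnil : IsNilpotent ((κ ≫ d₂).appTop f) := by
    rw [Scheme.isNilpotent_iff_basicOpen_eq_bot]
    refine eq_bot_iff.mpr fun y hy => ?_
    rw [basicOpen_map] at hy
    refine (hEW _ ?_ (hfW hy) : False).elim
    rw [← Scheme.Hom.comp_apply, Category.assoc, hd₂, ← Category.assoc, Scheme.Hom.comp_apply]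
    refine hEst ((κ ≫ m₂) ≫ fst) ((κ ≫ m₂) ≫ d) (hdr.comp _) y ?_
    have e : (κ ≫ m₂) ≫ fst = pullback.fst (k ≫ j₁ ≫ p) p ≫ k ≫ U₁.ι := by
      rw [Category.assoc, hm₂, ← Category.assoc]
      exact ((congrArg (· ≫ U₂.ι) (pullback.lift_fst _ _ _)).trans (Category.assoc _ _ _)).trans
        (congrArg (_ ≫ ·) ((Category.assoc _ _ _).trans (congrArg (k ≫ ·) hi)))
    rw [e, Scheme.Hom.comp_apply, Scheme.Hom.comp_apply]
    exact hk₁ _
  obtain ⟨n, hn⟩ := hnil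
  let h := e₂.symm (d₂.appTop (f ^ (n + 1)))
  have he₂h : e₂ h = d₂.appTop (f ^ (n + 1)) := e₂.apply_symm_apply _
  have hLh : L.rTensor Γ(X, ⊤) h = 0 := by
    rw [LinearMap.rTensor_sub, LinearMap.sub_apply, sub_eq_zero]
    apply e₁₁.injective
    rw [hα, hβ, he₂h, ← CommRingCat.comp_apply, ← CommRingCat.comp_apply, ← Scheme.Hom.comp_appTop,
      ← Scheme.Hom.comp_appTop, hαβ]
  obtain ⟨h₀, hh₀⟩ := exists_ker_tensor L hLh
  let ψ₀ := ψ.toLinearMap.comp L.ker.subtype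
  have hψh : ψ₀.rTensor Γ(X, ⊤) h₀ = 0 := by
    rw [LinearMap.rTensor_comp, LinearMap.comp_apply, hh₀]
    apply eK.injective
    rw [hκ, he₂h, map_zero, ← CommRingCat.comp_apply, ← Scheme.Hom.comp_appTop, map_pow, pow_succ, hn, zero_mul]
  obtain ⟨h₁, hh₁⟩ := exists_ker_tensor ψ₀ hψh
  -- evaluation at `v`
  let s₁ : U₁.toScheme ⟶ R₂ := pullback.lift i₁₂ j₁ (by simp only [j₁, j₂, Category.assoc]; rw [reassoc_of% hi])
  have hs₁ : s₁ ≫ d₂ = D.obj.left.homOfLE (h₁₂.trans h₂₃) := by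
    rw [← cancel_mono U₃.ι, Category.assoc, hd₂, Scheme.homOfLE_ι, ← Category.assoc]
    refine hz (s₁ ≫ m₂) ?_ ?_ (Rel.refl _)
    · rw [Category.assoc, hm₂, ← Category.assoc, show s₁ ≫ r₂ = i₁₂ from pullback.lift_fst _ _ _, hi]
    · rw [Category.assoc, show m₂ ≫ snd = t₂ from pullback.lift_snd _ _ _]
      exact pullback.lift_snd _ _ _
  let v₁ : U₁.toScheme := ⟨v, hv₁⟩
  have hvh : v₁ ∈ U₁.toScheme.basicOpen (s₁.appTop (e₂ h)) := by
    rw [he₂h, ← CommRingCat.comp_apply, ← Scheme.Hom.comp_appTop, hs₁, basicOpen_map,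
      ]
    have hv₃ : D.obj.left.homOfLE (h₁₂.trans h₂₃) v₁ = (⟨v, h₂₃ (h₁₂ hv₁)⟩ : U₃.toScheme) := by
      apply U₃.ι.isOpenEmbedding.injective
      rw [← Scheme.Hom.comp_apply, Scheme.homOfLE_ι]
      rfl
    rw [hv₃]
    exact (Scheme.mem_basicOpen_top _ _ _).2 (by
      rw [map_pow]; exact ((Scheme.mem_basicOpen_top _ _ _).1 hvf).pow _)
  have key : ∀ z : ψ₀.ker ⊗[Γ(S, ⊤)] Γ(X, ⊤),
      v₁ ∈ U₁.toScheme.basicOpen (s₁.appTop (e₂ (L.ker.subtype.rTensor _ (ψ₀.ker.subtype.rTensor _ z)))) →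
        ∃ g : ψ₀.ker, v₁ ∈ U₁.toScheme.basicOpen (i₁₂.appTop (g.1 : Γ(U₂.toScheme, ⊤))) := fun z => by
    induction z using TensorProduct.induction_on with
    | zero =>
      intro h0
      rw [map_zero, map_zero, map_zero, map_zero, Scheme.basicOpen_zero] at h0
      exact h0.elim
    | tmul b a =>
      intro h0
      rw [LinearMap.rTensor_tmul, LinearMap.rTensor_tmul, he₂, map_mul, Scheme.basicOpen_mul] at h0
      refine ⟨b, ?_⟩
      have h1 := h0.1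
      change v₁ ∈ U₁.toScheme.basicOpen (s₁.appTop ((pullback.fst (j₂ ≫ p) p).appTop _)) at h1
      rw [← CommRingCat.comp_apply, ← Scheme.Hom.comp_appTop, pullback.lift_fst] at h1
      exact h1
    | add x y hx hy =>
      intro h0
      simp only [map_add] at h0
      exact (Scheme.basicOpen_add_le _ _ _ h0).elim hx hy
  obtain ⟨g, hg⟩ := key h₁ (by rw [hh₁, hh₀]; exact hvh)
  let g₂ : Γ(U₂.toScheme, ⊤) := (g.1 : Γ(U₂.toScheme, ⊤))
  have hgL : d₁.appTop g₂ = (r₁ ≫ i₁₂).appTop g₂ := sub_eq_zero.mp g.1.2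
  have hgψ : (k ≫ i₁₂).appTop g₂ = 0 := g.2
  let G' := U₁.toScheme.basicOpen (i₁₂.appTop g₂)
  let G : D.obj.left.Opens := U₁.ι ''ᵁ G'
  have hGE : ∀ x, x ∈ G → x ∉ E := by
    rintro _ ⟨x, hx, rfl⟩ hxE
    obtain ⟨x', rfl⟩ := hk₂ x hxE
    have : x' ∈ K.basicOpen (k.appTop (i₁₂.appTop g₂)) := (basicOpen_map _ _ _).2 hx
    rw [← CommRingCat.comp_apply, ← Scheme.Hom.comp_appTop, hgψ, Scheme.basicOpen_zero] at this
    exact this.elim
  have hGst : Stable D (G : Set D.obj.left) := by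
    intro T a b r t ht
    obtain ⟨x, hx, hxa⟩ := ht
    have hbU : b t ∈ U₁ := by
      by_contra hb
      exact hGE _ ⟨x, hx, hxa⟩ (hEst b a r.symm t (hE₁ _ hb))
    let O : T.Opens := a ⁻¹ᵁ U₁ ⊓ b ⁻¹ᵁ U₁
    have htO : t ∈ O := ⟨show a t ∈ U₁ from hxa ▸ x.2, hbU⟩
    let a' : O.toScheme ⟶ U₁.toScheme := IsOpenImmersion.lift U₁.ι (O.ι ≫ a) (by
      rintro _ ⟨y, rfl⟩; rw [Scheme.Opens.range_ι]; exact y.2.1)
    let b' : O.toScheme ⟶ U₁.toScheme := IsOpenImmersion.lift U₁.ι (O.ι ≫ b) (by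
      rintro _ ⟨y, rfl⟩; rw [Scheme.Opens.range_ι]; exact y.2.2)
    have ha' : a' ≫ U₁.ι = O.ι ≫ a := IsOpenImmersion.lift_fac _ _ _
    have hb' : b' ≫ U₁.ι = O.ι ≫ b := IsOpenImmersion.lift_fac _ _ _
    let z : O.toScheme ⟶ R₁ := pullback.lift a' ((O.ι ≫ b) ≫ π) (by
      simp only [j₁, Category.assoc]
      rw [reassoc_of% ha']
      simpa only [π, Category.assoc] using congrArg (O.ι ≫ ·) r.1)
    have hz₁ : z ≫ r₁ = a' := pullback.lift_fst _ _ _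
    have hzd : z ≫ d₁ = b' ≫ i₁₂ := by
      rw [← cancel_mono U₂.ι, Category.assoc, hd₁, Category.assoc, hi, hb', ← Category.assoc]
      refine hz (z ≫ m₁) ?_ ?_ (r.comp O.ι)
      · rw [Category.assoc, hm₁, ← Category.assoc, hz₁, ha']
      · rw [Category.assoc, show m₁ ≫ snd = t₁ from pullback.lift_snd _ _ _]
        exact pullback.lift_snd _ _ _
    have hax : a' ⟨t, htO⟩ = x := U₁.ι.isOpenEmbedding.injective (by
      rw [← Scheme.Hom.comp_apply, ha']; exact hxa.symm)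
    have h₁ : (⟨t, htO⟩ : O.toScheme) ∈ O.toScheme.basicOpen ((z ≫ d₁).appTop g₂) := by
      rw [Scheme.Hom.comp_appTop, CommRingCat.comp_apply, hgL, ← CommRingCat.comp_apply, ← Scheme.Hom.comp_appTop,
        ← Category.assoc, hz₁, Scheme.Hom.comp_appTop, CommRingCat.comp_apply, basicOpen_map, hax]
      exact hx
    rw [hzd, Scheme.Hom.comp_appTop, CommRingCat.comp_apply, basicOpen_map] at h₁
    refine ⟨b' ⟨t, htO⟩, h₁, ?_⟩
    change (b' ≫ U₁.ι) _ = _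
    rw [hb']; rfl
  haveI : CompactSpace U₁.toScheme := isCompact_iff_compactSpace.mp hU₁
  have hGc : IsCompact (G : Set D.obj.left) :=
    (isCompact_basicOpen U₁.toScheme isCompact_univ (i₁₂.appTop g₂)).image U₁.ι.continuous
  haveI := hV G hGc
  obtain ⟨U, g₀, q, hq⟩ := exists_isQuot_of_quasiAffine D (j := G.ι) (by rw [Scheme.Opens.range_ι]; exact hGst)
  exact ⟨G, ⟨v₁, hg, rfl⟩, hGst, U, g₀, q, hq⟩

end DescLib
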