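import Groth.Agent.DescLib.Aug
import Mathlib.CategoryTheory.Comma.StructuredArrow.Basic

/-! Restriction functors preserving injective sheaves. -/

set_option linter.style.haveILetI false

universe u

open CategoryTheory CategoryTheory.Limits TopologicalSpace Opposite Topology

namespace Groth.DescLib

noncomputable section

/-- A criterion for a discrete family to be final. -/
lemma final_discrete {J : Type u} [SmallCategory J] {ι : Type u} (T : ι → J)
    (hex : ∀ j : J, ∃ i, Nonempty (j ⟶ T i))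
    (huniq : ∀ (j : J) (i i' : ι), (j ⟶ T i) → (j ⟶ T i') → i = i')
    (hsub : ∀ (j : J) (i : ι), Subsingleton (j ⟶ T i)) : (Discrete.functor T).Final := by
  refine ⟨fun j => ?_⟩
  obtain ⟨i, ⟨h⟩⟩ := hex j
  haveI : Nonempty (StructuredArrow j (Discrete.functor T)) :=
    ⟨StructuredArrow.mk (Y := (⟨i⟩ : Discrete ι)) h⟩
  refine zigzag_isConnected fun P Q => ?_
  obtain ⟨⟨i₁⟩, h₁, rfl⟩ := StructuredArrow.mk_surjective P
  obtain ⟨⟨i₂⟩, h₂, rfl⟩ := StructuredArrow.mk_surjective Q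
  obtain rfl : i₁ = i₂ := huniq j i₁ i₂ h₁ h₂
  obtain rfl : h₁ = h₂ := @Subsingleton.elim _ (hsub j i₁) _ _
  exact Zigzag.refl _

section Open

variable {𝒮 : Type} [SmallCategory 𝒮] {Z Z' : 𝒮 ⥤ TopCat.{u}} (γ : Z' ⟶ 𝟭 𝒮 ⋙ Z)
  (hγ : ∀ t, IsOpenEmbedding (γ.app t))

/-- Restriction to a cartesian open subdiagram preserves injective sheaves. -/
theorem injective_restr_open
    (hcart : ∀ {i i' : 𝒮} (f : i ⟶ i') (x : Z.obj i) (y : Z'.obj i'),
      Z.map f x = γ.app i' y → x ∈ Set.range (γ.app i))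
    (I : TSh Z) [Injective I] :
    Injective (((push (𝟭 𝒮) γ hγ).sheafPushforwardContinuous AddCommGrpCat.{u}
      (totJ Z') (totJ Z)).obj I) := by
  refine injective_restr (J := totJ Z) (JG := totJ Z') (push (𝟭 𝒮) γ hγ) (fun X => ?_) I
  obtain ⟨⟨i, V⟩⟩ := X
  let A₀ : Tot Z' := ⟨i, (Opens.map (γ.app i)).obj V⟩
  refine ⟨ULift.{u} (PLift ((V : Set (Z.obj i)) ⊆ Set.range (γ.app i))),
    fun h => CostructuredArrow.mk (Y := op A₀)
      (Quiver.Hom.op ((⟨𝟙 i, fun x hx => by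
        obtain ⟨y, rfl⟩ := h.down.down hx
        exact ⟨y, hx, (ConcreteCategory.congr_hom (Z.map_id i) (γ.app i y)).symm⟩⟩) :
        (⟨i, V⟩ : Tot Z) ⟶ (push (𝟭 𝒮) γ hγ).obj A₀)), final_discrete _ ?_ ?_ ?_⟩
  · intro j
    obtain ⟨⟨A⟩, h, rfl⟩ := j.mk_surjective
    let f : i ⟶ A.base := baseOf (A := (⟨i, V⟩ : Tot Z)) (B := (push (𝟭 𝒮) γ hγ).obj A) h.unop
    have hsub : (V : Set (Z.obj i)) ⊆ Set.range (γ.app i) := fun x hx => by
      obtain ⟨y, hy, e⟩ := Tot.Hom.mem h.unop hx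
      exact hcart f x y e.symm
    refine ⟨⟨⟨hsub⟩⟩, ⟨CostructuredArrow.homMk (Quiver.Hom.op (⟨f, fun y hy => ?_⟩ : A₀ ⟶ A))
      (Quiver.Hom.unop_inj (Tot.ext' (Category.id_comp f)))⟩⟩
    obtain ⟨z, hz, e⟩ := Tot.Hom.mem h.unop hy
    have e2 : γ.app A.base (Z'.map f y) = γ.app A.base z :=
      (ConcreteCategory.congr_hom (γ.naturality f) y).trans e.symm
    exact (congrArg (fun w => w ∈ A.U) ((hγ A.base).injective e2)).mpr hz
  · intro _ _ _ _ _
    exact ULift.ext _ _ (Subsingleton.elim _ _)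
  · intro j t
    refine ⟨fun a b => CostructuredArrow.hom_ext _ _ (Quiver.Hom.unop_inj (Tot.ext' ?_))⟩
    have ha := congrArg (fun q => Tot.Hom.f q.unop) (CostructuredArrow.w a)
    have hb := congrArg (fun q => Tot.Hom.f q.unop) (CostructuredArrow.w b)
    exact ((Category.id_comp _).symm.trans (ha.trans hb.symm)).trans (Category.id_comp _)

end Open

section Fibre

variable {𝒮 ℰ 𝒯 : Type} [SmallCategory 𝒮] [SmallCategory ℰ] [SmallCategory 𝒯] (p : 𝒮 ⥤ ℰ)
  (k : ℰ) (c : 𝒯 ⥤ 𝒮) (η : c ⋙ p ≅ (Functor.const 𝒯).obj k)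
  {Z : 𝒮 ⥤ TopCat.{u}}

/-- The fibre of the indices over `k` mapped to the indices over `k`. -/
def liftFib : 𝒯 ⥤ CostructuredArrow p k where
  obj t := CostructuredArrow.mk (η.hom.app t)
  map {t t'} v := CostructuredArrow.homMk (c.map v) (by
    simpa using η.hom.naturality v)
  map_id t := CostructuredArrow.hom_ext _ _ (c.map_id t)
  map_comp a b := CostructuredArrow.hom_ext _ _ (c.map_comp a b)

/-- The identity comparison. -/
def liftFibGamma : c ⋙ Z ⟶ liftFib p k c η ⋙ (CostructuredArrow.proj p k ⋙ Z) where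
  app t := 𝟙 (Z.obj (c.obj t))
  naturality _ _ _ := (Category.comp_id _).trans (Category.id_comp _).symm

lemma openEmb_liftFibGamma (t : 𝒯) : IsOpenEmbedding ((liftFibGamma p k c η (Z := Z)).app t) :=
  IsOpenEmbedding.id

/-- The cofinality condition on the fibre. -/
def FibCond : Prop :=
  ∀ (s : 𝒮) (f : p.obj s ⟶ k), ∃ (t₀ : 𝒯) (b₀ : s ⟶ c.obj t₀),
    p.map b₀ ≫ η.hom.app t₀ = f ∧
      ∀ (t : 𝒯) (b : s ⟶ c.obj t), p.map b ≫ η.hom.app t = f → ∃! v : t₀ ⟶ t, b₀ ≫ c.map v = b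

variable {p k c η}

lemma flat_liftFib (hc : FibCond p k c η) :
    RepresentablyFlat (push (liftFib p k c η) (liftFibGamma p k c η (Z := Z))
      (openEmb_liftFibGamma p k c η)) where
  cofiltered A := by
    obtain ⟨σ, V⟩ := A
    obtain ⟨t₀, b₀, hb₀, hu⟩ := hc σ.left σ.hom
    let K := push (liftFib p k c η) (liftFibGamma p k c η (Z := Z)) (openEmb_liftFibGamma p k c η)
    let bb : σ ⟶ (liftFib p k c η).obj t₀ := CostructuredArrow.homMk b₀ hb₀
    let V' : Opens (Z.obj σ.left) := V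
    let mk' (O : Opens (Z.obj (c.obj t₀))) (hO : ∀ x ∈ V', Z.map b₀ x ∈ O) :
        StructuredArrow (⟨σ, V⟩ : Tot (CostructuredArrow.proj p k ⋙ Z)) K :=
      StructuredArrow.mk (Y := (⟨t₀, O⟩ : Tot (c ⋙ Z)))
        (⟨bb, fun x hx => ⟨Z.map b₀ x, hO x hx, rfl⟩⟩ :
          (⟨σ, V⟩ : Tot (CostructuredArrow.proj p k ⋙ Z)) ⟶ K.obj ⟨t₀, O⟩)
    haveI : Nonempty (StructuredArrow (⟨σ, V⟩ : Tot (CostructuredArrow.proj p k ⋙ Z)) K) :=
      ⟨mk' ⊤ fun _ _ => trivial⟩
    have key : ∀ P : StructuredArrow (⟨σ, V⟩ : Tot (CostructuredArrow.proj p k ⋙ Z)) K,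
        ∃ (O : Opens (Z.obj (c.obj t₀))) (hO : ∀ x ∈ V', Z.map b₀ x ∈ O),
          Nonempty (mk' O hO ⟶ P) ∧ ∀ (g g' : mk' O hO ⟶ P), g = g' := by
      intro P
      let bP : σ ⟶ (liftFib p k c η).obj P.right.base :=
        baseOf (A := (⟨σ, V⟩ : Tot (CostructuredArrow.proj p k ⋙ Z))) (B := K.obj P.right) P.hom
      obtain ⟨v, hv, huniq⟩ := hu P.right.base bP.left (CostructuredArrow.w bP)
      refine ⟨(Opens.map (Z.map (c.map v))).obj P.right.U, fun x hx => ?_, ⟨StructuredArrow.homMk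
        (⟨v, le_rfl⟩ : (⟨t₀, _⟩ : Tot (c ⋙ Z)) ⟶ P.right)
        (Tot.ext' (CostructuredArrow.hom_ext _ _ hv))⟩, fun g g' => ?_⟩
      · obtain ⟨y, hy, e⟩ := Tot.Hom.mem P.hom hx
        change Z.map (c.map v) (Z.map b₀ x) ∈ P.right.U
        have e1 : Z.map bP.left x = Z.map (c.map v) (Z.map b₀ x) :=
          (congrArg (fun q : σ.left ⟶ c.obj P.right.base => Z.map q x) hv.symm).trans
            (ConcreteCategory.congr_hom (Z.map_comp b₀ (c.map v)) x)
        exact (congrArg (fun w => w ∈ P.right.U) (e1.symm.trans e.symm)).mpr hy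
      · refine StructuredArrow.hom_ext _ _ (Tot.ext' ?_)
        have h1 := congrArg (fun q => CommaMorphism.left (Tot.Hom.f q)) (StructuredArrow.w g)
        have h2 := congrArg (fun q => CommaMorphism.left (Tot.Hom.f q)) (StructuredArrow.w g')
        exact (huniq _ h1).trans (huniq _ h2).symm
    haveI : IsCofilteredOrEmpty (StructuredArrow (⟨σ, V⟩ : Tot (CostructuredArrow.proj p k ⋙ Z)) K) := by
      refine ⟨fun P Q => ?_, fun {P Q} f g => ?_⟩
      · obtain ⟨O, hO, ⟨gP⟩, -⟩ := key P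
        obtain ⟨O', hO', ⟨gQ⟩, -⟩ := key Q
        let M := mk' (O ⊓ O') fun x hx => ⟨hO x hx, hO' x hx⟩
        have hid : ∀ (W : Opens (Z.obj (c.obj t₀))), O ⊓ O' ≤ W →
            O ⊓ O' ≤ (Opens.map ((c ⋙ Z).map (𝟙 t₀))).obj W := fun W hW x hx => by
          change (c ⋙ Z).map (𝟙 t₀) x ∈ W
          simpa using hW hx
        exact ⟨M, StructuredArrow.homMk (⟨𝟙 t₀, hid O inf_le_left⟩ : M.right ⟶ (mk' O hO).right)
          (Tot.ext' (CostructuredArrow.hom_ext _ _ (by simp [M, mk', K, bb, push, liftFib]))) ≫ gP,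
          StructuredArrow.homMk (⟨𝟙 t₀, hid O' inf_le_right⟩ : M.right ⟶ (mk' O' hO').right)
          (Tot.ext' (CostructuredArrow.hom_ext _ _ (by simp [M, mk', K, bb, push, liftFib]))) ≫ gQ,
          trivial⟩
      · obtain ⟨O, hO, ⟨gP⟩, -⟩ := key P
        obtain ⟨O', hO', -, hQ⟩ := key Q
        let M := mk' (O ⊓ O') fun x hx => ⟨hO x hx, hO' x hx⟩
        let toP : M ⟶ P := StructuredArrow.homMk (⟨𝟙 t₀, fun x hx => by
          change (c ⋙ Z).map (𝟙 t₀) x ∈ O
          simpa using hx.1⟩ : M.right ⟶ (mk' O hO).right)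
          (Tot.ext' (CostructuredArrow.hom_ext _ _ (by simp [M, mk', K, bb, push, liftFib]))) ≫ gP
        refine ⟨M, toP, StructuredArrow.hom_ext _ _ (Tot.ext' ?_)⟩
        obtain ⟨v, -, huniq⟩ := hu Q.right.base
          (baseOf (A := (⟨σ, V⟩ : Tot (CostructuredArrow.proj p k ⋙ Z)))
            (B := K.obj Q.right) Q.hom).left
          (CostructuredArrow.w (baseOf (A := (⟨σ, V⟩ : Tot (CostructuredArrow.proj p k ⋙ Z)))
            (B := K.obj Q.right) Q.hom))
        have h1 := congrArg (fun q => CommaMorphism.left (Tot.Hom.f q)) (StructuredArrow.w (toP ≫ f))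
        have h2 := congrArg (fun q => CommaMorphism.left (Tot.Hom.f q)) (StructuredArrow.w (toP ≫ g))
        exact (huniq _ h1).trans (huniq _ h2).symm
    exact {}

/-- Restriction to a fibre preserves injective sheaves. -/
theorem injective_restr_fibre (hc : FibCond p k c η) (I : TSh Z) [Injective I] :
    Injective (((push c (𝟙 (c ⋙ Z)) openEmb_id).sheafPushforwardContinuous AddCommGrpCat.{u}
      (totJ (c ⋙ Z)) (totJ Z)).obj I) := by
  let W := CostructuredArrow.proj p k ⋙ Z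
  let K₁ := push (liftFib p k c η) (liftFibGamma p k c η (Z := Z)) (openEmb_liftFibGamma p k c η)
  let K₂ := push (CostructuredArrow.proj p k) (𝟙 W) openEmb_id
  haveI : Injective ((K₂.sheafPushforwardContinuous AddCommGrpCat.{u} (totJ W) (totJ Z)).obj I) := by
    refine injective_restr (J := totJ Z) (JG := totJ W) K₂ (fun X => ?_) I
    obtain ⟨⟨i, V⟩⟩ := X
    let A₀ (f : p.obj i ⟶ k) : Tot W := ⟨CostructuredArrow.mk f, V⟩
    refine ⟨ULift.{u} (p.obj i ⟶ k), fun f => CostructuredArrow.mk (Y := op (A₀ f.down))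
      (Quiver.Hom.op ((⟨𝟙 i, fun x hx => ⟨x, hx,
          (ConcreteCategory.congr_hom (Z.map_id i) x).symm⟩⟩) :
        (⟨i, V⟩ : Tot Z) ⟶ K₂.obj (A₀ f.down))), final_discrete _ ?_ ?_ ?_⟩
    · intro j
      obtain ⟨⟨A⟩, h, rfl⟩ := j.mk_surjective
      let g : i ⟶ A.base.left := baseOf (A := (⟨i, V⟩ : Tot Z)) (B := K₂.obj A) h.unop
      refine ⟨⟨p.map g ≫ A.base.hom⟩, ⟨CostructuredArrow.homMk (Quiver.Hom.op
        (⟨CostructuredArrow.homMk g rfl, fun y hy => ?_⟩ : A₀ (p.map g ≫ A.base.hom) ⟶ A))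
        (Quiver.Hom.unop_inj (Tot.ext' (Category.id_comp g)))⟩⟩
      obtain ⟨z, hz, e⟩ := Tot.Hom.mem h.unop hy
      exact (congrArg (fun w => w ∈ A.U) e.symm).mpr hz
    · intro j f f' a b
      obtain ⟨⟨A⟩, h, rfl⟩ := j.mk_surjective
      have ha := congrArg (fun q => Tot.Hom.f q.unop) (CostructuredArrow.w a)
      have hb := congrArg (fun q => Tot.Hom.f q.unop) (CostructuredArrow.w b)
      have hab := (Category.id_comp _).symm.trans ((ha.trans hb.symm).trans (Category.id_comp _))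
      refine ULift.ext _ _ ?_
      have wa := CostructuredArrow.w (Tot.Hom.f a.left.unop)
      have wb := CostructuredArrow.w (Tot.Hom.f b.left.unop)
      exact wa.symm.trans ((congrArg (fun q => p.map q ≫ A.base.hom) hab).trans wb)
    · intro j f
      refine ⟨fun a b => CostructuredArrow.hom_ext _ _ (Quiver.Hom.unop_inj (Tot.ext'
        (CostructuredArrow.hom_ext _ _ ?_)))⟩
      have ha := congrArg (fun q => Tot.Hom.f q.unop) (CostructuredArrow.w a)
      have hb := congrArg (fun q => Tot.Hom.f q.unop) (CostructuredArrow.w b)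
      exact (Category.id_comp _).symm.trans ((ha.trans hb.symm).trans (Category.id_comp _))
  haveI : RepresentablyFlat K₁ := flat_liftFib hc
  haveI : PreservesFiniteLimits (K₁.sheafPullback AddCommGrpCat.{u} (totJ (c ⋙ Z)) (totJ W)) :=
    preservesFiniteLimits_pullback _ _ _
  haveI : (K₁.sheafPullback AddCommGrpCat.{u} (totJ (c ⋙ Z)) (totJ W)).PreservesMonomorphisms :=
    inferInstance
  haveI := Injective.injective_of_adjoint
    (K₁.sheafAdjunctionContinuous AddCommGrpCat.{u} (totJ (c ⋙ Z)) (totJ W))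
    ((K₂.sheafPushforwardContinuous AddCommGrpCat.{u} (totJ W) (totJ Z)).obj I)
  refine (fun (e : K₁ ⋙ K₂ ≅ push c (𝟙 (c ⋙ Z)) openEmb_id) => ?_) (NatIso.ofComponents (fun A => eqToIso (congrArg (Tot.mk (c.obj A.base))
      (Opens.ext (Set.image_id _))))
      (fun g => Tot.ext' ?_))
  · exact Injective.of_iso ((Functor.sheafPushforwardContinuousComp' e AddCommGrpCat.{u}
      (totJ (c ⋙ Z)) (totJ W) (totJ Z)).app I)
      (show Injective ((K₁.sheafPushforwardContinuous AddCommGrpCat.{u} (totJ (c ⋙ Z)) (totJ W)).obj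
        ((K₂.sheafPushforwardContinuous AddCommGrpCat.{u} (totJ W) (totJ Z)).obj I)) from this)
  · simp only [Tot.comp_f, eqToIso.hom, eqToHom_f, eqToHom_refl]
    exact (Category.comp_id (c.map (baseOf g))).trans (Category.id_comp (c.map (baseOf g))).symm

end Fibre

end

end Groth.DescLib
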