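import Mathlib.Topology.Sheaves.SheafCondition.Sites
import Mathlib.CategoryTheory.Sites.CoverLifting
import Mathlib.CategoryTheory.Sites.Pullback
import Mathlib.Algebra.Category.Grp.Limits
import Mathlib.Algebra.Category.Grp.Colimits
import Mathlib.Algebra.Category.Grp.FilteredColimits

/-! The total site of a diagram of topological spaces. -/

set_option linter.style.haveILetI false

universe u w

open CategoryTheory CategoryTheory.Limits TopologicalSpace Opposite Topology

namespace Groth.DescLib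

noncomputable section

variable {𝒮 : Type} [SmallCategory 𝒮] (Y : 𝒮 ⥤ TopCat.{u})

/-- An open subset of a member of a diagram of spaces. -/
structure Tot : Type u where
  /-- the index -/
  base : 𝒮
  /-- the open subset -/
  U : Opens (Y.obj base)

variable {Y}

/-- A morphism of open subsets lying over a morphism of indices. -/
structure Tot.Hom (A B : Tot Y) : Type u where
  /-- the morphism of indices -/
  f : A.base ⟶ B.base
  le : A.U ≤ (Opens.map (Y.map f)).obj B.U

lemma Tot.Hom.mem {A B : Tot Y} (g : Tot.Hom A B) {x : Y.obj A.base} (hx : x ∈ A.U) :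
    Y.map g.f x ∈ B.U := g.le hx

instance : SmallCategory (Tot Y) where
  Hom A B := Tot.Hom A B
  id A := ⟨𝟙 _, fun x hx => by
    change Y.map (𝟙 A.base) x ∈ A.U
    simpa using hx⟩
  comp {A B C} a b := ⟨a.f ≫ b.f, fun x hx => by
    change Y.map (a.f ≫ b.f) x ∈ C.U
    rw [Y.map_comp]
    exact b.mem (a.mem hx)⟩
  id_comp a := by cases a; simp
  comp_id a := by cases a; simp
  assoc a b c := by simp

lemma Tot.ext' {A B : Tot Y} {a b : A ⟶ B} (h : Tot.Hom.f a = Tot.Hom.f b) : a = b := by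
  cases a; cases b; cases h; rfl

@[simp] lemma Tot.id_f (A : Tot Y) : Tot.Hom.f (𝟙 A) = 𝟙 A.base := rfl

@[simp] lemma Tot.comp_f {A B C : Tot Y} (a : A ⟶ B) (b : B ⟶ C) :
    Tot.Hom.f (a ≫ b) = Tot.Hom.f a ≫ Tot.Hom.f b := rfl

/-- The inclusion of one open subset into another over an identity. -/
def Tot.incl {i : 𝒮} {V U : Opens (Y.obj i)} (h : V ≤ U) : (⟨i, V⟩ : Tot Y) ⟶ ⟨i, U⟩ :=
  ⟨𝟙 i, fun x hx => by
    change Y.map (𝟙 i) x ∈ U
    simpa using h hx⟩

@[simp] lemma Tot.incl_f {i : 𝒮} {V U : Opens (Y.obj i)} (h : V ≤ U) :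
    Tot.Hom.f (Tot.incl h) = 𝟙 i := rfl

variable (Y) in
/-- The inclusion of the open subsets of a member. -/
def totι (i : 𝒮) : Opens (Y.obj i) ⥤ Tot Y where
  obj V := ⟨i, V⟩
  map h := Tot.incl h.le
  map_id _ := Tot.ext' rfl
  map_comp _ _ := Tot.ext' (Category.comp_id _).symm

variable (Y) in
/-- The total topology. -/
def totJ : GrothendieckTopology (Tot Y) where
  sieves A := {S | ∀ x ∈ A.U, ∃ (V : Opens (Y.obj A.base)) (h : V ≤ A.U),
    x ∈ V ∧ S (Tot.incl h : (⟨A.base, V⟩ : Tot Y) ⟶ A)}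
  top_mem' A x hx := ⟨A.U, le_rfl, hx, trivial⟩
  pullback_stable' := by
    intro A B S g hS x hx
    obtain ⟨V, h, hxV, hSV⟩ := hS _ (g.mem hx)
    refine ⟨B.U ⊓ (Opens.map (Y.map g.f)).obj V, inf_le_left, ⟨hx, hxV⟩, ?_⟩
    have hle : B.U ⊓ (Opens.map (Y.map g.f)).obj V ≤ (Opens.map (Y.map g.f)).obj V := inf_le_right
    let g' : (⟨B.base, B.U ⊓ (Opens.map (Y.map g.f)).obj V⟩ : Tot Y) ⟶ ⟨A.base, V⟩ := ⟨g.f, hle⟩
    have e : Tot.incl (inf_le_left : B.U ⊓ (Opens.map (Y.map g.f)).obj V ≤ B.U) ≫ g =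
        g' ≫ Tot.incl h := Tot.ext' ((Category.id_comp _).trans (Category.comp_id _).symm)
    change S (_ ≫ g)
    rw [e]
    exact S.downward_closed hSV g'
  transitive' := by
    intro A S hS R hR x hx
    obtain ⟨V, h, hxV, hSV⟩ := hS x hx
    obtain ⟨W, h', hxW, hRW⟩ := hR hSV x hxV
    refine ⟨W, h'.trans h, hxW, ?_⟩
    have e : Tot.incl h' ≫ Tot.incl h = Tot.incl (h'.trans h) := Tot.ext' (Category.comp_id _)
    rw [← e]
    exact hRW

lemma mem_totJ {A : Tot Y} {S : Sieve A} :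
    S ∈ totJ Y A ↔ ∀ x ∈ A.U, ∃ (V : Opens (Y.obj A.base)) (h : V ≤ A.U),
      x ∈ V ∧ S (Tot.incl h : (⟨A.base, V⟩ : Tot Y) ⟶ A) := Iff.rfl

lemma exists_factor {i : 𝒮} {V U : Opens (Y.obj i)} {A : Tot Y} (h : V ≤ U)
    (a : A ⟶ ⟨i, V⟩) (b : A ⟶ ⟨i, U⟩) (e : Tot.Hom.f a = Tot.Hom.f b) :
    a ≫ Tot.incl h = b := Tot.ext' ((Category.comp_id _).trans e)

instance totι_isCocontinuous (i : 𝒮) :
    (totι Y i).IsCocontinuous (Opens.grothendieckTopology (Y.obj i)) (totJ Y) where
  cover_lift {U T} hT := by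
    intro x hx
    obtain ⟨V, h, hxV, hTV⟩ := hT x hx
    exact ⟨V, homOfLE h, hTV, hxV⟩

lemma totι_compatiblePreserving (i : 𝒮) : CompatiblePreserving (totJ Y) (totι Y i) where
  compatible := by
    intro ℱ U T x hx V₁ V₂ Z f₁ f₂ g₁ g₂ hg₁ hg₂ eq
    have hb : Tot.Hom.f f₁ = Tot.Hom.f f₂ :=
      (Category.comp_id _).symm.trans ((congrArg Tot.Hom.f eq).trans (Category.comp_id _))
    let W : Opens (Y.obj i) := V₁ ⊓ V₂
    let b : Z.base ⟶ i := Tot.Hom.f f₁
    let k : Z ⟶ (totι Y i).obj W := ⟨b, fun y hy => ⟨Tot.Hom.mem f₁ hy, by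
      have := Tot.Hom.mem f₂ hy
      rw [← hb] at this
      exact this⟩⟩
    let p₁ : W ⟶ V₁ := homOfLE inf_le_left
    let p₂ : W ⟶ V₂ := homOfLE inf_le_right
    have h₁ : f₁ = k ≫ (totι Y i).map p₁ := Tot.ext' (Category.comp_id b).symm
    have h₂ : f₂ = k ≫ (totι Y i).map p₂ :=
      Tot.ext' (hb.symm.trans (Category.comp_id b).symm)
    rw [h₁, h₂, op_comp, op_comp, Functor.map_comp_apply, Functor.map_comp_apply]
    exact congrArg (ℱ.obj.map k.op) (hx p₁ p₂ hg₁ hg₂ (Subsingleton.elim _ _))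

instance totι_isContinuous (i : 𝒮) :
    (totι Y i).IsContinuous (Opens.grothendieckTopology (Y.obj i)) (totJ Y) := by
  refine Functor.isContinuous_of_coverPreserving (totι_compatiblePreserving i) ⟨fun {U R} hR => ?_⟩
  intro x hx
  obtain ⟨V, f, hf, hxV⟩ := hR x hx
  exact ⟨V, f.le, hxV, Sieve.image_mem_functorPushforward _ R hf⟩

/-- A presheaf on the total site is a sheaf as soon as its restrictions to the members are. -/
theorem isSheaf_of_fibres (P : (Tot Y)ᵒᵖ ⥤ Type w)
    (hP : ∀ i : 𝒮, Presieve.IsSheaf (Opens.grothendieckTopology (Y.obj i)) ((totι Y i).op ⋙ P)) :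
    Presieve.IsSheaf (totJ Y) P := by
  have hR : ∀ {A : Tot Y} (T : Sieve A), T ∈ totJ Y A →
      T.functorPullback (totι Y A.base) ∈ Opens.grothendieckTopology (Y.obj A.base) A.U :=
    fun {A} T hT => (totι Y A.base).cover_lift _ _ hT
  have hsep : ∀ {A : Tot Y} (T : Sieve A), T ∈ totJ Y A →
      Presieve.IsSeparatedFor P T.arrows := by
    intro A T hT x y₁ y₂ h₁ h₂
    refine (hP A.base _ (hR T hT)).isSeparatedFor.ext fun V r hr => ?_
    exact (h₁ _ hr).trans (h₂ _ hr).symm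
  intro A T hT
  rw [← Presieve.isSeparatedFor_and_exists_isAmalgamation_iff_isSheafFor]
  refine ⟨hsep T hT, fun x hx => ?_⟩
  let xR : Presieve.FamilyOfElements ((totι Y A.base).op ⋙ P)
      (T.functorPullback (totι Y A.base) : Sieve A.U).arrows := fun V r hr => x _ hr
  have hc : xR.Compatible := by
    intro Y₁ Y₂ Z g₁ g₂ f₁ f₂ h₁ h₂ e
    exact hx ((totι Y A.base).map g₁) ((totι Y A.base).map g₂) h₁ h₂
      (((totι Y A.base).map_comp g₁ f₁).symm.trans ((congrArg (totι Y A.base).map e).trans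
        ((totι Y A.base).map_comp g₂ f₂)))
  refine ⟨(hP A.base _ (hR T hT)).amalgamate _ hc, fun B g hg => ?_⟩
  let R : Sieve A.U := T.functorPullback (totι Y A.base)
  let T' : Sieve A := R.functorPushforward (totι Y A.base)
  have hT' : T' ∈ totJ Y A := fun y hy => by
    obtain ⟨V, h, hyV, hV⟩ := hT y hy
    exact ⟨V, h, hyV, Sieve.image_mem_functorPushforward (totι Y A.base) R
      (f := homOfLE h) hV⟩
  refine (hsep _ ((totJ Y).pullback_stable g hT')).ext fun C c hc' => ?_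
  obtain ⟨V, r, k, hr, e⟩ := hc'
  refine (Functor.map_comp_apply P g.op c.op _).symm.trans ?_
  refine (congrArg (fun q : C ⟶ A => P.map q.op ((hP A.base _ (hR T hT)).amalgamate xR hc)) e).trans ?_
  refine (Functor.map_comp_apply P ((totι Y A.base).map r).op k.op _).trans ?_
  refine (congrArg (P.map k.op) ((hP A.base _ (hR T hT)).valid_glue hc r hr)).trans ?_
  exact hx k c hr hg e.symm

/-- Continuity may be checked on the members. -/
theorem isContinuous_of_fibres {D : Type u} [SmallCategory D] (K : GrothendieckTopology D)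
    (m : Tot Y ⥤ D)
    (h : ∀ i : 𝒮, (totι Y i ⋙ m).IsContinuous (Opens.grothendieckTopology (Y.obj i)) K) :
    m.IsContinuous (totJ Y) K where
  op_comp_isSheaf_of_types G := isSheaf_of_fibres _ fun i => by
    haveI := h i
    exact (totι Y i ⋙ m).op_comp_isSheaf_of_types (Opens.grothendieckTopology (Y.obj i)) K G

/-- The index morphism of a morphism, with explicit indices. -/
abbrev baseOf {A B : Tot Y} (g : A ⟶ B) : A.base ⟶ B.base := Tot.Hom.f g

section Push

variable {𝒯 : Type} [SmallCategory 𝒯] {Z : 𝒯 ⥤ TopCat.{u}} (ψ : 𝒯 ⥤ 𝒮) (γ : Z ⟶ ψ ⋙ Y)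
  (hγ : ∀ p, IsOpenEmbedding (γ.app p))

/-- Images of open subsets along a componentwise open embedding. -/
def push : Tot Z ⥤ Tot Y where
  obj A := ⟨ψ.obj A.base, (hγ A.base).functor.obj A.U⟩
  map {A B} g := ⟨ψ.map (Tot.Hom.f g), by
    rintro _ ⟨x, hx, rfl⟩
    refine ⟨Z.map (Tot.Hom.f g) x, Tot.Hom.mem g hx, ?_⟩
    exact ConcreteCategory.congr_hom (γ.naturality (Tot.Hom.f g)) x⟩
  map_id A := Tot.ext' (ψ.map_id _)
  map_comp _ _ := Tot.ext' (ψ.map_comp _ _)

/-- The push functor on a member. -/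
def totιPushIso (p : 𝒯) : (hγ p).functor ⋙ totι Y (ψ.obj p) ≅ totι Z p ⋙ push ψ γ hγ :=
  NatIso.ofComponents (fun _ => Iso.refl _) (fun _ => Tot.ext' (by
    change 𝟙 (ψ.obj p) ≫ 𝟙 _ = 𝟙 _ ≫ ψ.map (𝟙 p)
    simp))

lemma push_isContinuous : (push ψ γ hγ).IsContinuous (totJ Z) (totJ Y) := by
  refine isContinuous_of_fibres _ _ fun p => ?_
  haveI : (hγ p).functor.IsContinuous (Opens.grothendieckTopology (Z.obj p))
      (Opens.grothendieckTopology (Y.obj (ψ.obj p))) := (hγ p).functor_isContinuous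
  haveI := Functor.isContinuous_comp (hγ p).functor (totι Y (ψ.obj p))
    (Opens.grothendieckTopology (Z.obj p)) (Opens.grothendieckTopology (Y.obj (ψ.obj p))) (totJ Y)
  exact Functor.isContinuous_of_iso (totιPushIso ψ γ hγ p) _ _

lemma push_isCocontinuous : (push ψ γ hγ).IsCocontinuous (totJ Z) (totJ Y) where
  cover_lift {A T} hT := by
    intro x hx
    obtain ⟨V, h, hxV, hTV⟩ := hT (γ.app A.base x) ⟨x, hx, rfl⟩
    refine ⟨A.U ⊓ (Opens.map (γ.app A.base)).obj V, inf_le_left, ⟨hx, hxV⟩, ?_⟩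
    let W : Opens (Z.obj A.base) := A.U ⊓ (Opens.map (γ.app A.base)).obj V
    let g : (push ψ γ hγ).obj ⟨A.base, W⟩ ⟶ ⟨ψ.obj A.base, V⟩ := ⟨𝟙 (ψ.obj A.base), by
      rintro _ ⟨y, hy, rfl⟩
      have e : Y.map (𝟙 (ψ.obj A.base)) (γ.app A.base y) = γ.app A.base y := by simp
      exact (congrArg (fun z => z ∈ V) e).mpr hy.2⟩
    have e : (push ψ γ hγ).map (Tot.incl (inf_le_left : W ≤ A.U)) = g ≫ Tot.incl h :=
      Tot.ext' ((ψ.map_id _).trans (Category.comp_id (𝟙 (ψ.obj A.base))).symm)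
    change T.arrows ((push ψ γ hγ).map (Tot.incl (inf_le_left : W ≤ A.U)))
    rw [e]
    exact T.downward_closed hTV g

end Push

section Pull

variable {Z : 𝒮 ⥤ TopCat.{u}} (α : Z ⟶ Y)

/-- Preimages of open subsets along a morphism of diagrams. -/
def pullF : Tot Y ⥤ Tot Z where
  obj A := ⟨A.base, (Opens.map (α.app A.base)).obj A.U⟩
  map {A B} g :=
    ⟨(Tot.Hom.f g : A.base ⟶ B.base), fun x hx => by
      have e := ConcreteCategory.congr_hom (α.naturality (Tot.Hom.f g)) x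
      exact (congrArg (fun y => y ∈ B.U) e).mpr (Tot.Hom.mem g hx)⟩
  map_id _ := Tot.ext' rfl
  map_comp _ _ := Tot.ext' rfl

instance pullF_flat : RepresentablyFlat (pullF α) where
  cofiltered A := by
    haveI : Nonempty (StructuredArrow A (pullF α)) :=
      ⟨StructuredArrow.mk (Y := (⟨A.base, ⊤⟩ : Tot Y))
        (⟨𝟙 A.base, fun _ _ => trivial⟩ : A ⟶ (pullF α).obj ⟨A.base, ⊤⟩)⟩
    let pre (P : StructuredArrow A (pullF α)) : Opens (Y.obj A.base) :=
      (Opens.map (Y.map (Tot.Hom.f P.hom))).obj P.right.U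
    have hpre : ∀ (P : StructuredArrow A (pullF α)) x, x ∈ A.U → α.app A.base x ∈ pre P := by
      intro P x hx
      have e := ConcreteCategory.congr_hom (α.naturality (Tot.Hom.f P.hom)) x
      exact (congrArg (fun y => y ∈ P.right.U) e).mp (Tot.Hom.mem P.hom hx)
    have hid : ∀ (V : Opens (Y.obj A.base)), (∀ x ∈ A.U, α.app A.base x ∈ V) →
        A.U ≤ (Opens.map (Z.map (𝟙 A.base))).obj ((Opens.map (α.app A.base)).obj V) := by
      intro V hV x hx
      change α.app A.base (Z.map (𝟙 A.base) x) ∈ V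
      simpa using hV x hx
    haveI : IsCofilteredOrEmpty (StructuredArrow A (pullF α)) := by
      refine ⟨fun P Q => ?_, fun {P Q} f g => ?_⟩
      · let fP : A.base ⟶ P.right.base := baseOf (B := (pullF α).obj P.right) P.hom
        let fQ : A.base ⟶ Q.right.base := baseOf (B := (pullF α).obj Q.right) Q.hom
        exact ⟨StructuredArrow.mk (Y := (⟨A.base, pre P ⊓ pre Q⟩ : Tot Y))
          (⟨𝟙 A.base, hid _ fun x hx => ⟨hpre P x hx, hpre Q x hx⟩⟩ :
            A ⟶ (pullF α).obj ⟨A.base, pre P ⊓ pre Q⟩),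
          StructuredArrow.homMk ⟨fP, (inf_le_left : pre P ⊓ pre Q ≤ pre P)⟩
            (Tot.ext' (Category.id_comp _)),
          StructuredArrow.homMk ⟨fQ, (inf_le_right : pre P ⊓ pre Q ≤ pre Q)⟩
            (Tot.ext' (Category.id_comp _)), trivial⟩
      · let fP : A.base ⟶ P.right.base := baseOf (B := (pullF α).obj P.right) P.hom
        refine ⟨StructuredArrow.mk (Y := (⟨A.base, pre P⟩ : Tot Y))
          (⟨𝟙 A.base, hid _ (hpre P)⟩ : A ⟶ (pullF α).obj ⟨A.base, pre P⟩),
          StructuredArrow.homMk ⟨fP, le_refl (pre P)⟩ (Tot.ext' (Category.id_comp _)),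
          StructuredArrow.hom_ext _ _ (Tot.ext' ?_)⟩
        exact (congrArg Tot.Hom.f (StructuredArrow.w f)).trans
          (congrArg Tot.Hom.f (StructuredArrow.w g)).symm
    exact {}

instance pullF_isContinuous : (pullF α).IsContinuous (totJ Y) (totJ Z) := by
  refine Functor.isContinuous_of_coverPreserving (compatiblePreservingOfFlat _ _) ⟨fun {A R} hR => ?_⟩
  intro x hx
  obtain ⟨V, h, hxV, hRV⟩ := hR (α.app A.base x) hx
  exact ⟨(Opens.map (α.app A.base)).obj V, fun y hy => h hy, hxV,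
    ⟨⟨A.base, V⟩, Tot.incl h, 𝟙 _, hRV, Tot.ext' (Category.comp_id (𝟙 A.base)).symm⟩⟩

end Pull

section Forget

variable (𝒮) (S : TopCat.{u})

/-- Forgetting the index of an open subset of a constant diagram. -/
def forget : Tot ((Functor.const 𝒮).obj S) ⥤ Opens S where
  obj A := A.U
  map g := homOfLE (Tot.Hom.le g)
  map_id _ := Subsingleton.elim _ _
  map_comp _ _ := Subsingleton.elim _ _

lemma forget_isContinuous :
    (forget 𝒮 S).IsContinuous (totJ _) (Opens.grothendieckTopology S) := by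
  refine isContinuous_of_fibres _ _ fun p => ?_
  haveI : (𝟭 (Opens S)).IsContinuous
      (Opens.grothendieckTopology (((Functor.const 𝒮).obj S).obj p))
      (Opens.grothendieckTopology S) := Functor.isContinuous_id (Opens.grothendieckTopology S)
  exact Functor.isContinuous_of_iso (F₁ := 𝟭 (Opens S))
    (NatIso.ofComponents (fun _ => Iso.refl _) (fun _ => Subsingleton.elim _ _)) _ _

lemma forget_isCocontinuous :
    (forget 𝒮 S).IsCocontinuous (totJ _) (Opens.grothendieckTopology S) where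
  cover_lift {A T} hT := by
    intro x hx
    obtain ⟨V, f, hf, hxV⟩ := hT x hx
    refine ⟨V, f.le, hxV, ?_⟩
    exact (congrArg (fun q : V ⟶ A.U => T.arrows q) (Subsingleton.elim _ _)).mp hf

end Forget

end

end Groth.DescLib
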