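import Groth.Agent.DescLib.BC
import Groth.Agent.DescLib.Site
import Groth.Agent.DescLib.FF
import Mathlib.CategoryTheory.Abelian.GrothendieckCategory.EnoughInjectives
import Mathlib.CategoryTheory.Abelian.GrothendieckAxioms.Sheaf

/-! Squares of functors between total sites. -/

set_option linter.style.haveILetI false

universe u

open CategoryTheory CategoryTheory.Limits TopologicalSpace Opposite Topology

namespace Groth.DescLib

noncomputable section

section General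

variable {C D E : Type u} [SmallCategory C] [SmallCategory D] [SmallCategory E]
  (J : GrothendieckTopology C) (K : GrothendieckTopology D) (L : GrothendieckTopology E)

lemma additive_restr (F : C ⥤ D) [F.IsContinuous J K] :
    (F.sheafPushforwardContinuous AddCommGrpCat.{u} J K).Additive where
  map_add := by intros; rfl

lemma preservesFiniteLimits_restr (F : C ⥤ D) [F.IsContinuous J K] :
    PreservesFiniteLimits (F.sheafPushforwardContinuous AddCommGrpCat.{u} J K) := by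
  haveI : PreservesLimitsOfSize.{0, 0} (F.sheafPushforwardContinuous AddCommGrpCat.{u} J K) :=
    (F.sheafAdjunctionContinuous AddCommGrpCat.{u} J K).rightAdjoint_preservesLimits
  exact PreservesLimitsOfSize.preservesFiniteLimits _

lemma preservesFiniteColimits_restr (F : C ⥤ D) [F.IsContinuous J K] [F.IsCocontinuous J K] :
    PreservesFiniteColimits (F.sheafPushforwardContinuous AddCommGrpCat.{u} J K) := by
  haveI : PreservesColimitsOfSize.{0, 0} (F.sheafPushforwardContinuous AddCommGrpCat.{u} J K) :=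
    (F.sheafAdjunctionCocontinuous AddCommGrpCat.{u} J K).leftAdjoint_preservesColimits
  exact PreservesColimitsOfSize.preservesFiniteColimits _

lemma preservesFiniteColimits_pullback (F : C ⥤ D) [F.IsContinuous J K] :
    PreservesFiniteColimits (F.sheafPullback AddCommGrpCat.{u} J K) := by
  haveI : PreservesColimitsOfSize.{0, 0} (F.sheafPullback AddCommGrpCat.{u} J K) :=
    (F.sheafAdjunctionContinuous AddCommGrpCat.{u} J K).leftAdjoint_preservesColimits
  exact PreservesColimitsOfSize.preservesFiniteColimits _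

lemma additive_pullback (F : C ⥤ D) [F.IsContinuous J K] :
    (F.sheafPullback AddCommGrpCat.{u} J K).Additive :=
  haveI := additive_restr J K F
  (F.sheafAdjunctionContinuous AddCommGrpCat.{u} J K).left_adjoint_additive

lemma preservesFiniteLimits_pullback (F : C ⥤ D) [F.IsContinuous J K] [RepresentablyFlat F] :
    PreservesFiniteLimits (F.sheafPullback AddCommGrpCat.{u} J K) := by
  haveI : PreservesFiniteLimits (F.op.lan : (Cᵒᵖ ⥤ AddCommGrpCat.{u}) ⥤ _) :=
    lan_preservesFiniteLimits_of_flat AddCommGrpCat.{u} F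
  exact Functor.sheafPullbackConstruction.preservesFiniteLimits F AddCommGrpCat.{u} J K

/-- Inverse images compose. -/
def pullbackCompIso (F : C ⥤ D) (G : D ⥤ E) (H : C ⥤ E) (e : F ⋙ G ≅ H) [F.IsContinuous J K]
    [G.IsContinuous K L] [H.IsContinuous J L] :
    F.sheafPullback AddCommGrpCat.{u} J K ⋙ G.sheafPullback AddCommGrpCat.{u} K L ≅
      H.sheafPullback AddCommGrpCat.{u} J L :=
  (((F.sheafAdjunctionContinuous AddCommGrpCat.{u} J K).comp
    (G.sheafAdjunctionContinuous AddCommGrpCat.{u} K L)).ofNatIsoRight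
      (Functor.sheafPushforwardContinuousComp' e AddCommGrpCat.{u} J K L)).leftAdjointUniq
    (H.sheafAdjunctionContinuous AddCommGrpCat.{u} J L)

/-- Inverse image along the identity. -/
def pullbackIdIso (F : C ⥤ C) (e : F ≅ 𝟭 C) [F.IsContinuous J J] :
    F.sheafPullback AddCommGrpCat.{u} J J ≅ 𝟭 _ :=
  ((F.sheafAdjunctionContinuous AddCommGrpCat.{u} J J).ofNatIsoRight
    (Functor.sheafPushforwardContinuousId' e AddCommGrpCat.{u} J)).leftAdjointUniq Adjunction.id

end General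

/-- Sheaves of abelian groups on a total site. -/
abbrev TSh {𝒮 : Type} [SmallCategory 𝒮] (Y : 𝒮 ⥤ TopCat.{u}) : Type (u + 1) :=
  Sheaf (totJ Y) AddCommGrpCat.{u}

attribute [instance] push_isContinuous push_isCocontinuous forget_isContinuous forget_isCocontinuous

lemma eqToHom_f {𝒮 : Type} [SmallCategory 𝒮] {Y : 𝒮 ⥤ TopCat.{u}} {A B : Tot Y} (h : A = B) :
    Tot.Hom.f (eqToHom h) = eqToHom (congrArg Tot.base h) := by
  subst h; rfl

section Functors

variable {𝒮 : Type} [SmallCategory 𝒮] {Y Z : 𝒮 ⥤ TopCat.{u}}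

/-- Pullback of sheaves along a morphism of diagrams. -/
abbrev pullS (α : Z ⟶ Y) : TSh Y ⥤ TSh Z :=
  (pullF α).sheafPullback AddCommGrpCat.{u} (totJ Y) (totJ Z)

instance (α : Z ⟶ Y) : (pullS α).Additive := additive_pullback _ _ _
instance (α : Z ⟶ Y) : PreservesFiniteLimits (pullS α) := preservesFiniteLimits_pullback _ _ _
instance (α : Z ⟶ Y) : PreservesFiniteColimits (pullS α) := preservesFiniteColimits_pullback _ _ _

/-- Pullbacks compose. -/
def pullSComp {W : 𝒮 ⥤ TopCat.{u}} (β : Z ⟶ Y) (α : W ⟶ Z) (ε : W ⟶ Y) (h : α ≫ β = ε) :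
    pullS β ⋙ pullS α ≅ pullS ε :=
  pullbackCompIso _ _ _ (pullF β) (pullF α) (pullF ε)
    (NatIso.ofComponents (fun A => eqToIso (by subst h; rfl))
      (fun g => Tot.ext' (by subst h; simp [pullF, eqToHom_f])))

/-- Pullback along the identity. -/
def pullSId : pullS (𝟙 Y) ≅ 𝟭 (TSh Y) :=
  pullbackIdIso _ (pullF (𝟙 Y))
    (NatIso.ofComponents (fun A => eqToIso (by rfl)) (fun g => Tot.ext' (by simp [pullF, eqToHom_f])))

/-- Isomorphic diagrams have equivalent derived categories. -/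
lemma isFFPlus_pullS_iso (e : Z ≅ Y) : IsFFPlus (pullS e.hom) :=
  IsFFPlus.of_equivalence (pullS e.hom) (pullS e.inv)
    (pullSId.symm ≪≫ (pullSComp e.hom e.inv (𝟙 Y) e.inv_hom_id).symm)
    (pullSComp e.inv e.hom (𝟙 Z) e.hom_inv_id ≪≫ pullSId)

end Functors

section PullPush

variable {𝒮 : Type} [SmallCategory 𝒮] {Y Z : 𝒮 ⥤ TopCat.{u}} (α : Z ⟶ Y)
  {𝒯 : Type} [SmallCategory 𝒯] {Y' Z' : 𝒯 ⥤ TopCat.{u}} (α' : Z' ⟶ Y') (ψ : 𝒯 ⥤ 𝒮)
  (γY : Y' ⟶ ψ ⋙ Y) (hY : ∀ t, IsOpenEmbedding (γY.app t))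
  (γZ : Z' ⟶ ψ ⋙ Z) (hZ : ∀ t, IsOpenEmbedding (γZ.app t))
  (hcomm : ∀ t x, γY.app t (α'.app t x) = α.app (ψ.obj t) (γZ.app t x))

include hcomm in
lemma pullPush_le (A : Tot Y') :
    ((pullF α' ⋙ push ψ γZ hZ).obj A).U ≤
      (Opens.map (Z.map (𝟙 (ψ.obj A.base)))).obj ((push ψ γY hY ⋙ pullF α).obj A).U := by
  rintro _ ⟨x, hx, rfl⟩
  have e : Z.map (𝟙 (ψ.obj A.base)) (γZ.app A.base x) = γZ.app A.base x := by simp
  refine (congrArg (fun z => z ∈ ((push ψ γY hY ⋙ pullF α).obj A).U) e).mpr ?_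
  exact ⟨α'.app A.base x, hx, hcomm _ _⟩

/-- The comparison transformation of the pull-push square. -/
def pullPushTau : pullF α' ⋙ push ψ γZ hZ ⟶ push ψ γY hY ⋙ pullF α where
  app A := ⟨𝟙 (ψ.obj A.base), pullPush_le α α' ψ γY hY γZ hZ hcomm A⟩
  naturality A B g := Tot.ext'
    ((Category.comp_id (ψ.map (baseOf g))).trans (Category.id_comp (ψ.map (baseOf g))).symm)

include hcomm in
lemma pullPush_cart_le (hcart : ∀ t x y, α.app (ψ.obj t) x = γY.app t y → x ∈ Set.range (γZ.app t))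
    (A : Tot Y') :
    ((push ψ γY hY ⋙ pullF α).obj A).U ≤
      (Opens.map (Z.map (𝟙 (ψ.obj A.base)))).obj ((pullF α' ⋙ push ψ γZ hZ).obj A).U := by
  rintro x ⟨y, hy, hxy⟩
  have e : Z.map (𝟙 (ψ.obj A.base)) x = x := by simp
  refine (congrArg (fun z => z ∈ ((pullF α' ⋙ push ψ γZ hZ).obj A).U) e).mpr ?_
  obtain ⟨z, rfl⟩ := hcart A.base x y hxy.symm
  have hz : α'.app A.base z = y := (hY A.base).injective ((hcomm _ _).trans hxy.symm)
  exact ⟨z, (congrArg (fun w => w ∈ A.U) hz).mpr hy, rfl⟩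

include hcomm in
lemma pullPushTau_isIso
    (hcart : ∀ t x y, α.app (ψ.obj t) x = γY.app t y → x ∈ Set.range (γZ.app t)) :
    IsIso (pullPushTau α α' ψ γY hY γZ hZ hcomm) := by
  haveI : ∀ A, IsIso ((pullPushTau α α' ψ γY hY γZ hZ hcomm).app A) := fun A =>
    ⟨⟨⟨𝟙 (ψ.obj A.base), pullPush_cart_le α α' ψ γY hY γZ hZ hcomm hcart A⟩,
      Tot.ext' (Category.comp_id (𝟙 (ψ.obj A.base))), Tot.ext' (Category.comp_id (𝟙 (ψ.obj A.base)))⟩⟩
  exact NatIso.isIso_of_isIso_app _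

lemma zigzag_of_span {C₀ C₁ C G : Type u} [SmallCategory C₀] [SmallCategory C₁] [SmallCategory C]
    [SmallCategory G] {l : C₁ ⥤ C₀} {e : C₀ ⥤ C} {E : C₁ ⥤ G} {k : G ⥤ C} {τ : E ⋙ k ⟶ l ⋙ e}
    (h : ∀ (U : C₀) (W : G) (g : k.obj W ⟶ e.obj U),
      ∃ (X₀ : C₁) (a₀ : l.obj X₀ ⟶ U) (b₀ : W ⟶ E.obj X₀),
        k.map b₀ ≫ τ.app X₀ ≫ e.map a₀ = g ∧
        ∀ (X : C₁) (a : l.obj X ⟶ U) (b : W ⟶ E.obj X), k.map b ≫ τ.app X ≫ e.map a = g →
          ∃ (X' : C₁) (b' : W ⟶ E.obj X') (φ : X' ⟶ X₀) (φ' : X' ⟶ X),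
            b' ≫ E.map φ = b₀ ∧ b' ≫ E.map φ' = b ∧ l.map φ ≫ a₀ = l.map φ' ≫ a) :
    (opSquare l e E k τ).GuitartExact := by
  refine guitartExact_of_span _ fun {X₂ X₃} g => ?_
  obtain ⟨X₀, a₀, b₀, h₀, hX₀⟩ := h X₂.unop X₃.unop g.unop
  refine ⟨TwoSquare.CostructuredArrowDownwards.mk _ _ (op X₀) a₀.op b₀.op
    (Quiver.Hom.unop_inj (by simpa using h₀)), fun X => ?_⟩
  obtain ⟨X₁, a, b, comm, rfl⟩ := TwoSquare.CostructuredArrowDownwards.mk_surjective X
  have hc : k.map b.unop ≫ τ.app X₁.unop ≫ e.map a.unop = g.unop := by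
    have := congrArg Quiver.Hom.unop comm
    simpa using this
  obtain ⟨X', b', φ, φ', h1, h2, h3⟩ := hX₀ X₁.unop a.unop b.unop hc
  let M : (opSquare l e E k τ).CostructuredArrowDownwards g :=
    TwoSquare.CostructuredArrowDownwards.mk _ _ (op X') (l.map φ' ≫ a.unop).op b'.op
      (Quiver.Hom.unop_inj (by
        simp only [Functor.op_map, unop_comp, Quiver.Hom.unop_op, NatTrans.op_app, Category.assoc]
        rw [← hc, ← h2]
        simp only [Functor.map_comp, Category.assoc]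
        have hn := τ.naturality φ'
        simp only [Functor.comp_map] at hn
        rw [reassoc_of% hn]))
  refine Zigzag.trans (j₂ := M) (Zigzag.of_hom ?_) (Zigzag.of_inv ?_)
  · exact CostructuredArrow.homMk (StructuredArrow.homMk φ'.op (Quiver.Hom.unop_inj rfl))
      (StructuredArrow.hom_ext _ _ (Quiver.Hom.unop_inj h2))
  · exact CostructuredArrow.homMk (StructuredArrow.homMk φ.op (Quiver.Hom.unop_inj h3))
      (StructuredArrow.hom_ext _ _ (Quiver.Hom.unop_inj h1))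

include hcomm in
lemma pullPush_guitartExact :
    (opSquare (push ψ γY hY) (pullF α) (pullF α') (push ψ γZ hZ)
      (pullPushTau α α' ψ γY hY γZ hZ hcomm)).GuitartExact := by
  refine zigzag_of_span fun U W g => ?_
  let f : ψ.obj W.base ⟶ U.base := baseOf (A := (push ψ γZ hZ).obj W) (B := (pullF α).obj U) g
  let X₀ : Tot Y' := ⟨W.base, (Opens.map (γY.app W.base)).obj ((Opens.map (Y.map f)).obj U.U)⟩
  have hb₀ : W.U ≤ (Opens.map (Z'.map (𝟙 W.base))).obj ((pullF α').obj X₀).U := by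
    intro x hx
    have e : Z'.map (𝟙 W.base) x = x := by simp
    refine (congrArg (fun z => z ∈ ((pullF α').obj X₀).U) e).mpr ?_
    change Y.map f (γY.app W.base (α'.app W.base x)) ∈ U.U
    have e2 := ConcreteCategory.congr_hom (α.naturality f) (γZ.app W.base x)
    refine (congrArg (fun z => Y.map f z ∈ U.U) (hcomm W.base x)).mpr ?_
    exact (congrArg (fun z => z ∈ U.U) e2).mp (Tot.Hom.mem g ⟨x, hx, rfl⟩)
  let a₀ : (push ψ γY hY).obj X₀ ⟶ U := ⟨f, by rintro _ ⟨y, hy, rfl⟩; exact hy⟩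
  let b₀ : W ⟶ (pullF α').obj X₀ := ⟨𝟙 W.base, hb₀⟩
  refine ⟨X₀, a₀, b₀, Tot.ext' ?_, fun X a b hc => ?_⟩
  · change ψ.map (𝟙 W.base) ≫ 𝟙 _ ≫ f = f
    simp
  let bb : W.base ⟶ X.base := baseOf (B := (pullF α').obj X) b
  have hbase : ψ.map bb ≫ baseOf (A := (push ψ γY hY).obj X) a = f := by
    have := congrArg Tot.Hom.f hc
    change ψ.map bb ≫ 𝟙 _ ≫ baseOf (A := (push ψ γY hY).obj X) a = f at this
    simpa using this
  let X' : Tot Y' := ⟨W.base, X₀.U ⊓ (Opens.map (Y'.map bb)).obj X.U⟩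
  have hb' : W.U ≤ (Opens.map (Z'.map (𝟙 W.base))).obj ((pullF α').obj X').U := by
    intro x hx
    have e : Z'.map (𝟙 W.base) x = x := by simp
    refine (congrArg (fun z => z ∈ ((pullF α').obj X').U) e).mpr ⟨?_, ?_⟩
    · exact (congrArg (fun z => z ∈ ((pullF α').obj X₀).U) e).mp (hb₀ hx)
    · exact (congrArg (fun z => z ∈ X.U) (ConcreteCategory.congr_hom (α'.naturality bb) x)).mp
        (Tot.Hom.mem b hx)
  have hle : X'.U ≤ X₀.U := inf_le_left
  refine ⟨X', ⟨𝟙 W.base, hb'⟩, Tot.incl hle, ⟨bb, inf_le_right⟩,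
    Tot.ext' (Category.id_comp (𝟙 W.base)), Tot.ext' (Category.id_comp bb), Tot.ext' ?_⟩
  change ψ.map (𝟙 W.base) ≫ f = ψ.map bb ≫ baseOf (A := (push ψ γY hY).obj X) a
  rw [hbase]
  simp

/-- Pullback commutes with restriction along pushes. -/
def pullPushIso :
    (push ψ γY hY).sheafPushforwardContinuous AddCommGrpCat.{u} (totJ Y') (totJ Y) ⋙ pullS α' ≅
      pullS α ⋙ (push ψ γZ hZ).sheafPushforwardContinuous AddCommGrpCat.{u} (totJ Z') (totJ Z) :=
  haveI := pullPush_guitartExact α α' ψ γY hY γZ hZ hcomm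
  haveI := isIso_sigmaSquare (J₀ := totJ Y) (J₁ := totJ Y') (J := totJ Z) (JG := totJ Z')
    (push ψ γY hY) (pullF α) (pullF α') (push ψ γZ hZ) (pullPushTau α α' ψ γY hY γZ hZ hcomm)
  asIso (sigmaSquare (J₀ := totJ Y) (J₁ := totJ Y') (J := totJ Z) (JG := totJ Z')
    (push ψ γY hY) (pullF α) (pullF α') (push ψ γZ hZ) (pullPushTau α α' ψ γY hY γZ hZ hcomm)).natTrans

end PullPush

end

end Groth.DescLib
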