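import Groth.Agent.DescLib.Main
import Mathlib.AlgebraicGeometry.Morphisms.UniversallyInjective

/-!
# Effective descent along flat surjective quasi-compact radicial morphisms
-/

set_option autoImplicit false
set_option linter.style.haveILetI false
set_option backward.isDefEq.respectTransparency false
set_option backward.isDefEq.respectTransparency.types false

universe u

open CategoryTheory CategoryTheory.Limits AlgebraicGeometry TopologicalSpace

namespace DescLib

open Desc

variable {X S : Scheme.{u}} {p : X ⟶ S} (D : SchDD p)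

theorem stable_of_universallyInjective [UniversallyInjective p] (W : Set D.obj.left) : Stable D W := by
  intro T a b r t ht
  let σ := pullback.lift (f := D.obj.hom ≫ p) (g := p) (𝟙 D.obj.left) D.obj.hom (Category.id_comp _)
  obtain ⟨d, hd, hdr⟩ := exists_rel (pullback.fst (D.obj.hom ≫ p) p) (pullback.snd (D.obj.hom ≫ p) p)
    (by rw [Category.assoc, pullback.condition])
  have hσ : σ ≫ pullback.fst _ _ = 𝟙 _ := pullback.lift_fst _ _ _
  have hσd : σ ≫ d = 𝟙 _ := by
    have h := hdr.comp σ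
    rw [hσ] at h
    refine (h.eq ?_).symm
    rw [Category.id_comp, Category.assoc, hd]
    exact (pullback.lift_snd _ _ _).symm
  let z := pullback.lift (f := D.obj.hom ≫ p) (g := p) a (b ≫ D.obj.hom) (by rw [← Category.assoc]; exact r.1)
  have hz : z ≫ pullback.fst _ _ = a := pullback.lift_fst _ _ _
  have hzd : z ≫ d = b := by
    have h := hdr.comp z
    rw [hz] at h
    refine (r.symm.trans h).eq ?_ |>.symm
    rw [Category.assoc, hd]
    exact (pullback.lift_snd _ _ _).symm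
  haveI : UniversallyInjective (pullback.fst (D.obj.hom ≫ p) p) := MorphismProperty.pullback_fst _ _ ‹_›
  have e : z t = σ (a t) := (pullback.fst (D.obj.hom ≫ p) p).injective (by
    rw [← Scheme.Hom.comp_apply, hz, ← Scheme.Hom.comp_apply σ, hσ]
    rfl)
  have : b t = a t := by
    rw [← hzd, Scheme.Hom.comp_apply, e, ← Scheme.Hom.comp_apply, hσd]
    rfl
  rwa [this]

theorem exists_affine_preimage [Fpqc p] [QuasiCompact p] [UniversallyInjective p] (x : X) :
    ∃ S₀ : S.Opens, IsAffineOpen S₀ ∧ p x ∈ S₀ ∧ IsAffineOpen (p ⁻¹ᵁ S₀) := by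
  obtain ⟨S₁, hS₁, hxS₁, -⟩ := Opens.isBasis_iff_nbhd.mp S.isBasis_affineOpens (Opens.mem_top (p x))
  obtain ⟨X₁, hX₁, hxX₁, hle⟩ := Opens.isBasis_iff_nbhd.mp X.isBasis_affineOpens (show x ∈ p ⁻¹ᵁ S₁ from hxS₁)
  have hopen : IsOpen (p '' (X₁ : Set X)) :=
    isOpen_of_isOpen_preimage p (by rw [Set.preimage_image_eq _ p.injective]; exact X₁.2)
  obtain ⟨f, hf, hxf⟩ := hS₁.exists_basicOpen_le (V := ⟨p '' (X₁ : Set X), hopen⟩) ⟨p x, x, hxX₁, rfl⟩ hxS₁
  refine ⟨S.basicOpen f, hS₁.basicOpen f, hxf, ?_⟩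
  have hsub : X₁ ≤ p ⁻¹ᵁ S₁ := hle
  have e : p ⁻¹ᵁ S.basicOpen f = X.basicOpen (p.appLE S₁ X₁ hsub f) := by
    rw [Scheme.basicOpen_appLE]
    refine le_antisymm (le_inf ?_ le_rfl) inf_le_right
    intro y hy
    obtain ⟨y', hy', he⟩ := hf (show p y ∈ S.basicOpen f from hy)
    exact p.injective he ▸ hy'
  rw [e]
  exact hX₁.basicOpen _

theorem effective_of_radicial [Flat p] [Surjective p] [QuasiCompact p] [UniversallyInjective p] :
    ∃ U : Over S, Nonempty ((Desc.toDD p).obj U ≅ D) := by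
  refine effective_of_forall_good D fun v => ?_
  obtain ⟨S₀, hS₀, hv, hX₀⟩ := exists_affine_preimage (p := p) (D.obj.hom v)
  have hc := (isPullback_morphismRestrict p S₀).flip
  haveI : IsAffine S₀.toScheme := hS₀
  haveI : IsAffine (p ⁻¹ᵁ S₀).toScheme := hX₀
  haveI : Surjective (p ∣_ S₀) := MorphismProperty.of_isPullback (P := @Surjective) hc ‹_›
  haveI : Flat (p ∣_ S₀) := MorphismProperty.of_isPullback (P := @Flat) hc ‹_›
  haveI : UniversallyInjective (p ∣_ S₀) := MorphismProperty.of_isPullback (P := @UniversallyInjective) hc ‹_›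
  let D' := pullDD D (p ∣_ S₀) (p ⁻¹ᵁ S₀).ι S₀.ι hc.w
  obtain ⟨v', hv', -⟩ := Scheme.Pullback.exists_preimage_pullback (f := D.obj.hom) (g := (p ⁻¹ᵁ S₀).ι) v
    ⟨D.obj.hom v, hv⟩ rfl
  obtain ⟨W, hW, hvW, -⟩ :=
    Opens.isBasis_iff_nbhd.mp D'.obj.left.isBasis_affineOpens (Opens.mem_top (v' : D'.obj.left))
  haveI : IsAffine (Scheme.Opens.toScheme W) := hW
  obtain ⟨U, g, q, hq⟩ := exists_isQuot_of_quasiAffine D' (j := (Scheme.Opens.ι W)) (stable_of_universallyInjective D' _)
  have hq' := hq.of_pull hc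
  haveI : IsOpenImmersion ((Scheme.Opens.ι W) ≫ pullFst (D := D) (w := hc.w)) := inferInstance
  refine ⟨((Scheme.Opens.ι W) ≫ pullFst (D := D) (w := hc.w)).opensRange, ⟨⟨v', hvW⟩, ?_⟩, good_of_isQuot hq'⟩
  exact (Scheme.Hom.comp_apply _ _ _).trans hv'

end DescLib
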