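import Groth.Prelude.Def_DescFam
import Mathlib.AlgebraicGeometry.Sites.Fpqc

/-!
# Pullback of descent data along a refinement is full and faithful
-/

set_option autoImplicit false
set_option backward.isDefEq.respectTransparency false
set_option backward.isDefEq.respectTransparency.types false

universe w' w u

open CategoryTheory CategoryTheory.Limits AlgebraicGeometry Opposite

namespace DescLib.RefineFF

open Desc

variable {ι : Type w'} {κ : Type w} {S : Scheme.{u}} {U : ι → Scheme.{u}} {V : κ → Scheme.{u}}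
  (u' : ∀ i, U i ⟶ S) (v : ∀ j, V j ⟶ S) {α : ι → κ} {g : ∀ i, U i ⟶ V (α i)}
  (hw : ∀ i, g i ≫ v (α i) = u' i ≫ 𝟙 S)

/-- The sieve on `V j` of maps whose image in `S` lifts to some `U i`. -/
def sieve (j : κ) : Sieve (V j) where
  arrows := fun T h => ∃ (i : ι) (y : T ⟶ U i), y ≫ u' i = h ≫ v j
  downward_closed := fun {T T' h} hh k => by
    obtain ⟨i, y, hy⟩ := hh
    exact ⟨i, k ≫ y, by rw [Category.assoc, hy, Category.assoc]⟩

theorem sieve_mem_of_cover (hu : Presieve.ofArrows U u' ∈ Scheme.fpqcPrecoverage S) (j : κ) :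
    sieve u' v j ∈ Scheme.fpqcTopology (V j) := by
  refine Scheme.fpqcTopology.superset_covering ?_
    (Scheme.fpqcTopology.pullback_stable (v j) (Precoverage.generate_mem_toGrothendieck hu))
  intro T h hh
  obtain ⟨Z, k, _, ⟨i⟩, hk⟩ := hh
  exact ⟨i, k, hk⟩

include hw in
theorem sieve_mem_of_fibre_cover (j : κ)
    (hj : Presieve.ofArrows (fun i : {i // α i = j} => U i.1) (fun i => g i.1 ≫ eqToHom (congrArg V i.2)) ∈
      Scheme.fpqcPrecoverage (V j)) :
    sieve u' v j ∈ Scheme.fpqcTopology (V j) := by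
  refine Scheme.fpqcTopology.superset_covering ?_ (Precoverage.generate_mem_toGrothendieck hj)
  intro T h hh
  obtain ⟨Z, k, _, ⟨⟨i, rfl⟩⟩, hk⟩ := hh
  refine ⟨i, k, ?_⟩
  rw [← hk, eqToHom_refl, Category.comp_id, Category.assoc, hw, Category.comp_id]

variable {u' v} {D D' D'' : SchDDFam v}

include hw in
theorem compat {T : Scheme.{u}} {j : κ} {i : ι} (x : T ⟶ V j) (y : T ⟶ U i) (e : y ≫ u' i = x ≫ v j) :
    x ≫ v j = (y ≫ g i) ≫ v (α i) := by
  rw [Category.assoc, hw, Category.comp_id, e]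

theorem φ_eq_self (D : SchDDFam v) {T : Scheme.{u}} {i : κ} (x y : T ⟶ V i) (hxy : x = y)
    (h : x ≫ v i = y ≫ v i) (p : Lifts (D.obj i) x) : (D.φ x y h p).1 = p.1 := by
  subst hxy
  exact congrArg Subtype.val (D.φ_self x p)

variable (a' : (pullDDFam hw).obj D ⟶ (pullDDFam hw).obj D')

/-- A point of `D` over `y ≫ g i`, as a point of the pullback. -/
noncomputable def pt (D : SchDDFam v) {T : Scheme.{u}} {i : ι} (y : T ⟶ U i)
    (d : Lifts (D.obj (α i)) (y ≫ g i)) : Lifts (((pullDDFam hw).obj D).obj i) y :=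
  (liftsPullbackEquiv (D.obj (α i)) (g i) y).symm d

/-- The action of `a'` on points over `y ≫ g i`. -/
noncomputable def act {T : Scheme.{u}} {i : ι} (y : T ⟶ U i) (d : Lifts (D.obj (α i)) (y ≫ g i)) :
    Lifts (D'.obj (α i)) (y ≫ g i) :=
  liftsPullbackEquiv (D'.obj (α i)) (g i) y (SchDDFam.Hom.push a' (pt hw D y d))

theorem act_natural {T T' : Scheme.{u}} (k : T' ⟶ T) {i : ι} (y : T ⟶ U i)
    (d : Lifts (D.obj (α i)) (y ≫ g i)) (d' : Lifts (D.obj (α i)) ((k ≫ y) ≫ g i)) (hd : d'.1 = k ≫ d.1) :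
    (act hw a' (k ≫ y) d').1 = k ≫ (act hw a' y d).1 := by
  have hp : (pt hw D (k ≫ y) d').1 = k ≫ (pt hw D y d).1 := by
    show pullback.lift d'.1 (k ≫ y) _ = k ≫ pullback.lift d.1 y _
    exact pullback.hom_ext (by simp [hd]) (by simp)
  show ((pt hw D (k ≫ y) d').1 ≫ (a'.hom i).left) ≫ pullback.fst _ _ =
    k ≫ ((pt hw D y d).1 ≫ (a'.hom i).left) ≫ pullback.fst _ _
  rw [hp]
  simp only [Category.assoc]

theorem act_comm {T : Scheme.{u}} {i i' : ι} (y : T ⟶ U i) (y' : T ⟶ U i') (e : y ≫ u' i = y' ≫ u' i')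
    (d : Lifts (D.obj (α i)) (y ≫ g i)) :
    D'.φ (y ≫ g i) (y' ≫ g i') (pull_compat hw y y' e) (act hw a' y d) =
      act hw a' y' (D.φ (y ≫ g i) (y' ≫ g i') (pull_compat hw y y' e) d) := by
  have h := a'.comm y y' e (pt hw D y d) (SchDDFam.Hom.push a' (pt hw D y d)) rfl
  have h' : ((pullDDFam hw).obj D').φ y y' e (SchDDFam.Hom.push a' (pt hw D y d)) =
      SchDDFam.Hom.push a' (((pullDDFam hw).obj D).φ y y' e (pt hw D y d)) := Subtype.ext h
  have h'' := congrArg (liftsPullbackEquiv (D'.obj (α i')) (g i') y') h'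
  refine ((Equiv.apply_symm_apply (liftsPullbackEquiv (D'.obj (α i')) (g i') y') _).symm.trans h'').trans ?_
  show _ = act hw a' y' _
  refine congrArg (fun q => liftsPullbackEquiv (D'.obj (α i')) (g i') y' (SchDDFam.Hom.push a' q)) ?_
  show (liftsPullbackEquiv (D.obj (α i')) (g i') y').symm (D.φ _ _ _ (liftsPullbackEquiv _ _ _ _)) = pt hw D y' _
  rw [pt, pt, Equiv.apply_symm_apply]

/-- The transported action. -/
noncomputable def F {T : Scheme.{u}} {j : κ} {i : ι} {x : T ⟶ V j} (p : Lifts (D.obj j) x) (y : T ⟶ U i)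
    (e : y ≫ u' i = x ≫ v j) : Lifts (D'.obj j) x :=
  D'.φ (y ≫ g i) x (compat hw x y e).symm (act hw a' y (D.φ x (y ≫ g i) (compat hw x y e) p))

theorem F_indep {T : Scheme.{u}} {j : κ} {i i' : ι} {x : T ⟶ V j} (p : Lifts (D.obj j) x) (y : T ⟶ U i)
    (e : y ≫ u' i = x ≫ v j) (y' : T ⟶ U i') (e' : y' ≫ u' i' = x ≫ v j) :
    F hw a' p y e = F hw a' p y' e' := by
  have h := act_comm hw a' y y' (e.trans e'.symm) (D.φ x (y ≫ g i) (compat hw x y e) p)
  rw [D.φ_comp] at h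
  rw [F, F, ← h, D'.φ_comp]

theorem F_trans {T : Scheme.{u}} {j j' : κ} {i : ι} {x : T ⟶ V j} {x' : T ⟶ V j'} (hx : x ≫ v j = x' ≫ v j')
    (p : Lifts (D.obj j) x) (y : T ⟶ U i) (e : y ≫ u' i = x ≫ v j) :
    D'.φ x x' hx (F hw a' p y e) = F hw a' (D.φ x x' hx p) y (e.trans hx) := by
  rw [F, F, D'.φ_comp, D.φ_comp]

theorem F_natural {T T' : Scheme.{u}} (k : T' ⟶ T) {j : κ} {i : ι} {x : T ⟶ V j} (p : Lifts (D.obj j) x)
    (y : T ⟶ U i) (e : y ≫ u' i = x ≫ v j) (x' : T' ⟶ V j) (hx' : k ≫ x = x') (p' : Lifts (D.obj j) x')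
    (hp : p'.1 = k ≫ p.1) (e' : (k ≫ y) ≫ u' i = x' ≫ v j) :
    (F hw a' p' (k ≫ y) e').1 = k ≫ (F hw a' p y e).1 :=
  D'.φ_natural k _ _ _ _ _ (Category.assoc _ _ _).symm hx' _ _ _
    (act_natural hw a' k y _ _ (D.φ_natural k _ _ _ _ _ hx' (Category.assoc _ _ _).symm _ p p' hp))

/-- Morphisms recover their action on points. -/
theorem F_map (a : D ⟶ D') {T : Scheme.{u}} {j : κ} {i : ι} {x : T ⟶ V j} (p : Lifts (D.obj j) x)
    (y : T ⟶ U i) (e : y ≫ u' i = x ≫ v j) :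
    F hw ((pullDDFam hw).map a) p y e = SchDDFam.Hom.push a p := by
  have hact : ∀ d : Lifts (D.obj (α i)) (y ≫ g i),
      act hw ((pullDDFam hw).map a) y d = SchDDFam.Hom.push a d := fun d => Subtype.ext (by
    show (pullback.lift d.1 y d.2 ≫ pullback.map (D.obj (α i)).hom (g i) (D'.obj (α i)).hom (g i) (a.hom (α i)).left (𝟙 _) (𝟙 _) (by simp [Over.w]) (by simp)) ≫ pullback.fst _ _ = _
    simp [SchDDFam.Hom.push])
  have hc : D'.φ x (y ≫ g i) (compat hw x y e) (SchDDFam.Hom.push a p) =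
      SchDDFam.Hom.push a (D.φ x (y ≫ g i) (compat hw x y e) p) :=
    Subtype.ext (a.comm x (y ≫ g i) (compat hw x y e) p (SchDDFam.Hom.push a p) rfl)
  rw [F, hact, ← hc, D'.φ_comp, D'.φ_self]

variable (u' v)

theorem hom_ext_sieve {Y Z : Scheme.{u}} {R : Sieve Y} (hR : R ∈ Scheme.fpqcTopology Y) (b b' : Y ⟶ Z)
    (h : ∀ ⦃T : Scheme.{u}⦄ (k : T ⟶ Y), R k → k ≫ b = k ≫ b') : b = b' :=
  ((GrothendieckTopology.Subcanonical.isSheaf_of_isRepresentable (J := Scheme.fpqcTopology) (yoneda.obj Z)) R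
    hR).isSeparatedFor.ext h

variable (hcov : ∀ j, sieve u' v j ∈ Scheme.fpqcTopology (V j))

include hcov in
theorem full_faithful : (pullDDFam hw).Full ∧ (pullDDFam hw).Faithful := by
  constructor
  · refine ⟨fun {D D'} a' => ?_⟩
    have key : ∀ j, ∃ b : (D.obj j).left ⟶ (D'.obj j).left, ∀ (T : Scheme.{u}) (x : T ⟶ V j)
        (p : Lifts (D.obj j) x) (i : ι) (y : T ⟶ U i) (e : y ≫ u' i = x ≫ v j),
        p.1 ≫ b = (F hw a' p y e).1 := by
      intro j
      let R := (sieve u' v j).pullback (D.obj j).hom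
      have hR : R ∈ Scheme.fpqcTopology _ := Scheme.fpqcTopology.pullback_stable _ (hcov j)
      let fam : Presieve.FamilyOfElements (yoneda.obj (D'.obj j).left) R.arrows := fun T k hk =>
        (F hw a' (⟨k, rfl⟩ : Lifts (D.obj j) (k ≫ (D.obj j).hom)) hk.choose_spec.choose
          hk.choose_spec.choose_spec).1
      have hval : ∀ (T : Scheme.{u}) (k : T ⟶ (D.obj j).left) (hk : R k) (x : T ⟶ V j) (p : Lifts (D.obj j) x)
          (hp : p.1 = k) (i : ι) (y : T ⟶ U i) (e : y ≫ u' i = x ≫ v j), fam k hk = (F hw a' p y e).1 := by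
        intro T k hk x p hp i y e
        obtain ⟨p, rfl⟩ := p
        change p = k at hp
        subst hp
        exact congrArg Subtype.val (F_indep hw a' _ _ _ _ _)
      have hcompat : fam.Compatible := by
        intro T₁ T₂ W k₁ k₂ h₁ h₂ m₁ m₂ hm
        show k₁ ≫ fam h₁ m₁ = k₂ ≫ fam h₂ m₂
        have ha : ∀ (T : Scheme.{u}) (k : W ⟶ T) (h : T ⟶ (D.obj j).left) (m : R h) (hm' : R (k ≫ h)),
            k ≫ fam h m = fam (k ≫ h) hm' := by
          intro T k h m hm'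
          obtain ⟨i, y, hy⟩ := m
          have hy' : (k ≫ y) ≫ u' i = ((k ≫ h) ≫ (D.obj j).hom) ≫ v j := by
            simp only [Category.assoc] at hy ⊢
            rw [hy]
          rw [hval T h _ _ ⟨h, rfl⟩ rfl i y hy, hval W (k ≫ h) _ _ ⟨k ≫ h, rfl⟩ rfl i (k ≫ y) hy']
          exact (F_natural hw a' k _ y hy _ (Category.assoc _ _ _).symm _ rfl hy').symm
        rw [ha _ k₁ h₁ m₁ (R.downward_closed m₁ k₁), ha _ k₂ h₂ m₂ (R.downward_closed m₂ k₂)]
        congr 1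
      obtain ⟨b, hb, -⟩ := (GrothendieckTopology.Subcanonical.isSheaf_of_isRepresentable
        (J := Scheme.fpqcTopology) (yoneda.obj (D'.obj j).left)) R hR fam hcompat
      refine ⟨b, fun T x p i y e => ?_⟩
      have hk : R p.1 := ⟨i, y, by rw [e]; exact (congrArg (· ≫ v j) p.2).symm⟩
      exact (hb p.1 hk).trans (hval T p.1 hk x p rfl i y e)
    choose b hb using key
    have hover : ∀ j, b j ≫ (D'.obj j).hom = (D.obj j).hom := fun j =>
      hom_ext_sieve (R := (sieve u' v j).pullback (D.obj j).hom)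
        (Scheme.fpqcTopology.pullback_stable _ (hcov j)) _ _ fun T k ⟨i, y, e⟩ => by
          rw [← Category.assoc, hb j T (k ≫ (D.obj j).hom) ⟨k, rfl⟩ i y e]
          exact (F hw a' (⟨k, rfl⟩ : Lifts (D.obj j) (k ≫ (D.obj j).hom)) y e).2
    let a : D ⟶ D' := ⟨fun j => Over.homMk (b j) (hover j), fun T i₀ i₁ x₀ x₁ h p q hq => by
      refine hom_ext_sieve (R := (sieve u' v i₀).pullback x₀)
        (Scheme.fpqcTopology.pullback_stable _ (hcov i₀)) _ _ fun T' k ⟨i, y, e⟩ => ?_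
      have hx : (k ≫ x₀) ≫ v i₀ = (k ≫ x₁) ≫ v i₁ := by rw [Category.assoc, h, Category.assoc]
      let p' : Lifts (D.obj i₀) (k ≫ x₀) := ⟨k ≫ p.1, by rw [Category.assoc, p.2]⟩
      let q' : Lifts (D'.obj i₀) (k ≫ x₀) := ⟨k ≫ q.1, by rw [Category.assoc, q.2]⟩
      have hq' : q' = F hw a' p' y e := Subtype.ext (by
        show k ≫ q.1 = _
        rw [hq, ← Category.assoc]
        exact hb i₀ T' (k ≫ x₀) p' i y e)
      have h₁ : (D'.φ (k ≫ x₀) (k ≫ x₁) hx q').1 = k ≫ (D'.φ x₀ x₁ h q).1 :=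
        D'.φ_natural k x₀ x₁ h _ _ rfl rfl hx q q' rfl
      have h₂ : (D.φ (k ≫ x₀) (k ≫ x₁) hx p').1 = k ≫ (D.φ x₀ x₁ h p).1 :=
        D.φ_natural k x₀ x₁ h _ _ rfl rfl hx p p' rfl
      rw [← h₁, hq', F_trans, ← Category.assoc, ← h₂]
      exact (hb i₁ T' (k ≫ x₁) (D.φ _ _ hx p') i y (e.trans hx)).symm⟩
    refine ⟨a, ?_⟩
    ext i
    let P := pullback (D.obj (α i)).hom (g i)
    let q : P ⟶ U i := pullback.snd _ _
    let p : Lifts (D.obj (α i)) (q ≫ g i) := ⟨pullback.fst _ _, pullback.condition⟩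
    have e : q ≫ u' i = (q ≫ g i) ≫ v (α i) := by rw [Category.assoc, hw, Category.comp_id]
    show pullback.map _ _ _ _ (b (α i)) (𝟙 _) (𝟙 _) (by simp [hover]) (by simp) = (a'.hom i).left
    apply pullback.hom_ext
    · rw [pullback.lift_fst]
      refine (hb (α i) P (q ≫ g i) p i q e).trans ?_
      rw [F, φ_eq_self D' _ _ rfl]
      show (pullback.lift _ q _ ≫ (a'.hom i).left) ≫ pullback.fst _ _ = _
      congr 1
      refine (congrArg (· ≫ (a'.hom i).left) ?_).trans (Category.id_comp _)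
      refine pullback.hom_ext ?_ (by rw [pullback.lift_snd, Category.id_comp])
      rw [pullback.lift_fst, Category.id_comp]
      exact φ_eq_self D _ _ rfl _ p
    · rw [pullback.lift_snd, Category.comp_id]
      exact (Over.w (a'.hom i)).symm
  · refine ⟨fun {D D' a₁ a₂} h => ?_⟩
    ext j
    refine hom_ext_sieve (R := (sieve u' v j).pullback (D.obj j).hom)
      (Scheme.fpqcTopology.pullback_stable _ (hcov j)) _ _ fun T k ⟨i, y, e⟩ => ?_
    have h₁ := F_map hw a₁ (⟨k, rfl⟩ : Lifts (D.obj j) (k ≫ (D.obj j).hom)) y e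
    have h₂ := F_map hw a₂ (⟨k, rfl⟩ : Lifts (D.obj j) (k ≫ (D.obj j).hom)) y e
    rw [h] at h₁
    exact congrArg Subtype.val (h₁.symm.trans h₂)

end DescLib.RefineFF
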