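import Groth.Agent.DescLib.CechB
import Mathlib.Topology.IsLocalHomeomorph

/-! Stability properties of universal cohomological descent of maps of spaces. -/

set_option backward.isDefEq.respectTransparency false
set_option backward.isDefEq.respectTransparency.types false
set_option linter.style.haveILetI false

universe u

open CategoryTheory CategoryTheory.Limits TopologicalSpace Opposite Topology

namespace Groth.DescLib

noncomputable section

variable {X Y S : TopCat.{u}}

/-- Universal descent is stable under base change. -/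
theorem univ_snd {f : X ⟶ S} (h : FibDesc.IsUnivCohDescentMap f) {T : TopCat.{u}} (g : T ⟶ S) :
    FibDesc.IsUnivCohDescentMap (pullback.snd f g) := fun T' g' =>
  isCohDescentMap_of_iso (pullback.snd f (g' ≫ g)) (pullbackLeftPullbackSndIso f g g')
    (pullbackLeftPullbackSndIso_hom_snd f g g') (h T' (g' ≫ g))

/-- Universal descent only depends on the map up to isomorphism of the source. -/
theorem univ_of_iso {X' : TopCat.{u}} {f : X ⟶ S} {f' : X' ⟶ S} (e : X' ≅ X) (he : e.hom ≫ f = f')
    (h : FibDesc.IsUnivCohDescentMap f) : FibDesc.IsUnivCohDescentMap f' := fun T g => by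
  have h1 : f' ≫ 𝟙 S = e.hom ≫ f := (Category.comp_id f').trans he.symm
  have h2 : g ≫ 𝟙 S = 𝟙 T ≫ g := (Category.comp_id g).trans (Category.id_comp g).symm
  exact isCohDescentMap_of_iso (pullback.snd f g)
    (asIso (pullback.map f' g f g e.hom (𝟙 T) (𝟙 S) h1 h2))
    ((pullback.lift_snd _ _ _).trans (Category.comp_id _)) (h T g)

/-- A cartesian square transports universal descent. -/
theorem univ_of_isPullback {P T : TopCat.{u}} {f : X ⟶ S} {g : T ⟶ S} {fst : P ⟶ X} {snd : P ⟶ T}
    (sq : IsPullback fst snd f g) (h : FibDesc.IsUnivCohDescentMap f) :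
    FibDesc.IsUnivCohDescentMap snd :=
  univ_of_iso sq.isoPullback sq.isoPullback_hom_snd (univ_snd h g)

/-- The projection from a member of a nerve factors through the map. -/
lemma exists_factor_nerve (v : Y ⟶ S) (m : SimplexCategoryᵒᵖ) :
    ∃ a : (cech v).obj m ⟶ Y, a ≫ v = (cechEps v).app m :=
  ⟨WidePullback.π (fun _ => v) 0, WidePullback.π_arrow (fun _ => v) 0⟩

/-- A map dominated by a map of universal descent is of descent. -/
theorem isCohDescentMap_of_dominated {u : X ⟶ S} (v : Y ⟶ S) (hv : FibDesc.IsUnivCohDescentMap v)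
    (w : Y ⟶ X) (hw : w ≫ u = v) : FibDesc.IsCohDescentMap u := by
  refine isCohDescentMap_of_bc u v hv fun m => ?_
  obtain ⟨a, ha⟩ := exists_factor_nerve v m
  exact FibDescSec.isCohDescentMap_of_section _
    (pullback.lift (a ≫ w) (𝟙 _) (by rw [Category.assoc, hw, ha, Category.id_comp]))
    (pullback.lift_snd _ _ _)

/-- The right factor of a composite of universal descent is of universal descent. -/
theorem univ_of_comp (f : X ⟶ Y) (g : Y ⟶ S) (h : FibDesc.IsUnivCohDescentMap (f ≫ g)) :
    FibDesc.IsUnivCohDescentMap g := fun T k =>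
  isCohDescentMap_of_dominated (pullback.snd (f ≫ g) k) (univ_snd h k)
    (pullback.lift (pullback.fst (f ≫ g) k ≫ f) (pullback.snd (f ≫ g) k)
      (by rw [Category.assoc, pullback.condition]))
    (pullback.lift_snd _ _ _)

/-- Composites of maps of universal descent. -/
theorem univ_comp (f : X ⟶ Y) (g : Y ⟶ S) (hf : FibDesc.IsUnivCohDescentMap f)
    (hg : FibDesc.IsUnivCohDescentMap g) : FibDesc.IsUnivCohDescentMap (f ≫ g) := by
  intro T h
  refine isCohDescentMap_of_bc _ (pullback.snd g h) (univ_snd hg h) fun m => ?_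
  obtain ⟨a, ha⟩ := exists_factor_nerve (pullback.snd g h) m
  let hm := (cechEps (pullback.snd g h)).app m
  let k : (cech (pullback.snd g h)).obj m ⟶ Y := a ≫ pullback.fst g h
  have hk : k ≫ g = hm ≫ h := by
    rw [Category.assoc, pullback.condition, ← Category.assoc, ha]
  refine isCohDescentMap_of_iso (pullback.snd (f ≫ g) (hm ≫ h))
    (pullbackLeftPullbackSndIso (f ≫ g) h hm) (pullbackLeftPullbackSndIso_hom_snd _ _ _) ?_
  exact isCohDescentMap_of_dominated (pullback.snd f k) (univ_snd hf k)
    (pullback.lift (pullback.fst f k) (pullback.snd f k)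
      (by rw [← Category.assoc, pullback.condition, Category.assoc, hk]))
    (pullback.lift_snd _ _ _)

/-- Universal descent may be checked after a base change of universal descent. -/
theorem univ_of_baseChange {S' : TopCat.{u}} (f : X ⟶ S) (g : S' ⟶ S)
    (hg : FibDesc.IsUnivCohDescentMap g) (h : FibDesc.IsUnivCohDescentMap (pullback.snd f g)) :
    FibDesc.IsUnivCohDescentMap f := by
  intro T t
  refine isCohDescentMap_of_bc _ (pullback.snd g t) (univ_snd hg t) fun m => ?_
  obtain ⟨a, ha⟩ := exists_factor_nerve (pullback.snd g t) m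
  let hm := (cechEps (pullback.snd g t)).app m
  let k : (cech (pullback.snd g t)).obj m ⟶ S' := a ≫ pullback.fst g t
  have hk : hm ≫ t = k ≫ g := by
    rw [Category.assoc, pullback.condition, ← Category.assoc, ha]
  refine isCohDescentMap_of_iso (pullback.snd f (k ≫ g))
    (pullbackLeftPullbackSndIso f t hm ≪≫ pullback.congrHom rfl hk) ?_ ?_
  · simp
    rfl
  · exact isCohDescentMap_of_iso (pullback.snd (pullback.snd f g) k)
      (pullbackLeftPullbackSndIso f g k).symm
      ((Iso.inv_comp_eq _).2 (pullbackLeftPullbackSndIso_hom_snd f g k).symm) (h _ k)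

/-- The map induced on fibre products. -/
theorem univ_pullback_map {X' Y' : TopCat.{u}} (pX : X' ⟶ S) (pY : Y' ⟶ S) (f : X ⟶ X')
    (g : Y ⟶ Y') (hf : FibDesc.IsUnivCohDescentMap f) (hg : FibDesc.IsUnivCohDescentMap g) :
    FibDesc.IsUnivCohDescentMap (pullback.map (f ≫ pX) (g ≫ pY) pX pY f g (𝟙 S)
      (Category.comp_id _) (Category.comp_id _)) := by
  let a : pullback (f ≫ pX) (g ≫ pY) ⟶ pullback pX (g ≫ pY) :=
    pullback.lift (pullback.fst _ _ ≫ f) (pullback.snd _ _)
      (by rw [Category.assoc]; exact pullback.condition)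
  let b : pullback pX (g ≫ pY) ⟶ pullback pX pY :=
    pullback.lift (pullback.fst _ _) (pullback.snd _ _ ≫ g)
      (by rw [Category.assoc]; exact pullback.condition)
  have hab : pullback.map (f ≫ pX) (g ≫ pY) pX pY f g (𝟙 S) (Category.comp_id _)
      (Category.comp_id _) = a ≫ b := by
    apply pullback.hom_ext <;> simp [a, b, pullback.map]
  rw [hab]
  refine univ_comp a b ?_ ?_
  · have ha : a ≫ pullback.snd pX (g ≫ pY) = pullback.snd (f ≫ pX) (g ≫ pY) :=
      pullback.lift_snd _ _ _
    exact univ_of_isPullback (IsPullback.of_bot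
      (h₁₁ := pullback.fst (f ≫ pX) (g ≫ pY)) (v₁₁ := a) (v₁₂ := f)
      (by rw [ha]; exact IsPullback.of_hasPullback _ _)
      (pullback.lift_fst _ _ _).symm (IsPullback.of_hasPullback pX (g ≫ pY))) hf
  · have hb : b ≫ pullback.fst pX pY = pullback.fst pX (g ≫ pY) := pullback.lift_fst _ _ _
    exact univ_of_isPullback (IsPullback.of_bot
      (h₁₁ := pullback.snd pX (g ≫ pY)) (v₁₁ := b) (v₁₂ := g)
      (by rw [hb]; exact (IsPullback.of_hasPullback _ _).flip)
      (pullback.lift_snd _ _ _).symm (IsPullback.of_hasPullback pX pY).flip) hg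

/-- Descent is local on the base. -/
theorem isCohDescentMap_of_openCover (u : X ⟶ S) {ι : Type u} {T : ι → TopCat.{u}}
    (j : ∀ a, T a ⟶ S) (hj : ∀ a, IsOpenEmbedding (j a)) (hcov : ∀ x, ∃ a, x ∈ Set.range (j a))
    (h : ∀ a, FibDesc.IsCohDescentMap (pullback.snd u (j a))) : FibDesc.IsCohDescentMap u := by
  rw [isCohDescentMap_iff_desc]
  refine Desc.of_cover (cechEps u) j hj hcov (fun a => bc u (j a)) (fun a => bcEps u (j a))
    (fun a => bcFst u (j a)) (fun a s => TopCat.fst_isOpenEmbedding_of_right _ (hj a))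
    (fun a s x => ?_) (fun a s x y e => ?_) (fun a => (isCohDescentMap_snd_iff u (j a)).1 (h a))
  · exact (ConcreteCategory.congr_hom (pullback.condition (f := (cechEps u).app s) (g := j a)) x).symm
  · exact (TopCat.pullback_fst_range ((cechEps u).app s) (j a)).ge ⟨y, e⟩

/-- The inclusion of an open subspace. -/
abbrev openIncl (V : Opens S) : TopCat.of V ⟶ S :=
  TopCat.ofHom ⟨Subtype.val, continuous_subtype_val⟩

/-- Descent is local on the base, for open subspaces. -/
theorem isCohDescentMap_of_openSubspaces (u : X ⟶ S) {ι : Type u} (V : ι → Opens S)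
    (hV : iSup V = ⊤) (h : ∀ a, FibDesc.IsCohDescentMap (pullback.snd u (openIncl (V a)))) :
    FibDesc.IsCohDescentMap u :=
  isCohDescentMap_of_openCover u (fun a => openIncl (V a))
    (fun a => (V a).isOpen.isOpenEmbedding_subtypeVal)
    (fun x => by
      obtain ⟨a, ha⟩ := Opens.mem_iSup.1 (hV.symm ▸ (Opens.mem_top x) : x ∈ iSup V)
      exact ⟨a, ⟨x, ha⟩, rfl⟩) h

/-- A map with local sections is of universal descent. -/
theorem univ_of_localHomeo (f : X ⟶ S) (hf : IsLocalHomeomorph f)
    (hsurj : Function.Surjective f) : FibDesc.IsUnivCohDescentMap f := by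
  intro T g
  choose e he hfe using hf
  let W : X → Opens S := fun x => ⟨(e x).target, (e x).open_target⟩
  let V : X → Opens T := fun x => (Opens.map g).obj (W x)
  refine isCohDescentMap_of_openSubspaces _ V ?_ fun x => ?_
  · rw [eq_top_iff]
    intro t _
    obtain ⟨x, hx⟩ := hsurj (g t)
    refine Opens.mem_iSup.2 ⟨x, ?_⟩
    change g t ∈ (e x).target
    rw [← hx, hfe x]
    exact (e x).map_source (he x)
  let s₀ : TopCat.of (V x) ⟶ X := TopCat.ofHom ⟨fun t => (e x).symm (g t.1),
    (e x).continuousOn_symm.comp_continuous (g.hom.continuous.comp continuous_subtype_val)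
      fun t => t.2⟩
  have hs₀ : s₀ ≫ f = openIncl (V x) ≫ g := by
    apply ConcreteCategory.hom_ext
    intro t
    change f ((e x).symm (g t.1)) = g t.1
    rw [hfe x]
    exact (e x).right_inv t.2
  exact FibDescSec.isCohDescentMap_of_section _
    (pullback.lift (pullback.lift s₀ (openIncl (V x)) hs₀) (𝟙 _)
      (by rw [pullback.lift_snd, Category.id_comp]))
    (pullback.lift_snd _ _ _)

end

end Groth.DescLib
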