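/-
Universal effective epimorphisms and the canonical topology.
-/
import Mathlib.CategoryTheory.Sites.Canonical
import Mathlib.CategoryTheory.Sites.EffectiveEpimorphic
import Mathlib.CategoryTheory.MorphismProperty.Limits
import Mathlib.CategoryTheory.Limits.Shapes.Pullback.HasPullback

set_option autoImplicit false

universe v u

open CategoryTheory Limits

namespace DescLib

variable {C : Type u} [Category.{v} C]

lemma sheaf_yoneda (Z : C) : Presieve.IsSheaf (Sheaf.canonicalTopology C) (yoneda.obj Z) :=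
  GrothendieckTopology.Subcanonical.isSheaf_of_isRepresentable _

/-- The sieve generated by one morphism. -/
abbrev sv {X Y : C} (f : X ⟶ Y) : Sieve Y := Sieve.generate (Presieve.singleton f)

lemma mem_sv {X Y V : C} (f : X ⟶ Y) (v : V ⟶ Y) : sv f v ↔ ∃ a : V ⟶ X, a ≫ f = v := by
  constructor
  · rintro ⟨_, a, _, ⟨⟩, h⟩
    exact ⟨a, h⟩
  · rintro ⟨a, h⟩
    exact ⟨_, a, f, ⟨⟩, h⟩

variable [HasPullbacks C]

lemma sv_pullback {X Y Z : C} (f : X ⟶ Y) (g : Z ⟶ Y) : (sv f).pullback g = sv (pullback.snd f g) := by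
  rw [sv, sv, ← Presieve.pullback_singleton, Sieve.pullbackArrows_comm]

/-- Universal effective epimorphisms are exactly the singleton canonical coverings. -/
theorem uee_iff {X Y : C} (f : X ⟶ Y) :
    (MorphismProperty.universally (fun (A B : C) (p : A ⟶ B) => EffectiveEpi p)) f ↔
      sv f ∈ Sheaf.canonicalTopology C Y := by
  constructor
  · intro h
    refine Sheaf.mem_finestTopology_of_forall_isSheafFor ?_
    rintro P ⟨Z, rfl⟩ T g
    haveI : EffectiveEpi (pullback.snd f g) := h _ _ _ (IsPullback.of_hasPullback f g).flip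
    rw [sv_pullback, sv, ← Presieve.isSheafFor_iff_generate]
    exact Presieve.IsSheafFor.singleton_of_isRepresentable_of_effectiveEpi _ _
  · intro h X' Y' i₁ i₂ f' hp
    have hs : (sv f).pullback i₂ = sv f' := by
      apply Sieve.ext
      intro V v
      rw [Sieve.pullback_apply, mem_sv, mem_sv]
      exact ⟨fun ⟨a, ha⟩ => ⟨hp.lift v a ha.symm, hp.lift_fst _ _ _⟩,
        fun ⟨a, ha⟩ => ⟨a ≫ i₁, by rw [Category.assoc, ← hp.w, ← ha, Category.assoc]⟩⟩
    have h' : sv f' ∈ Sheaf.canonicalTopology C Y' :=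
      hs ▸ (Sheaf.canonicalTopology C).pullback_stable i₂ h
    exact (Sieve.effectiveEpimorphic_singleton _).1
      ((Sieve.EffectiveEpimorphic.iff_forall_isSheafFor_yoneda _).2 fun Z => sheaf_yoneda Z _ h')

omit [HasPullbacks C]

lemma hom_ext {W Z : C} {S : Sieve W} (hS : S ∈ Sheaf.canonicalTopology C W) {a b : W ⟶ Z}
    (h : ∀ ⦃V : C⦄ (v : V ⟶ W), S v → v ≫ a = v ≫ b) : a = b :=
  (sheaf_yoneda Z S hS).isSeparatedFor.ext fun _ v hv => h v hv

/-- A morphism factors through a monomorphism if it does so locally. -/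
lemma exists_factor {W A B : C} {S : Sieve W} (hS : S ∈ Sheaf.canonicalTopology C W) (m : A ⟶ B) [Mono m]
    (b : W ⟶ B) (h : ∀ ⦃V : C⦄ (v : V ⟶ W), S v → ∃ a, a ≫ m = v ≫ b) : ∃ a, a ≫ m = b := by
  choose x hx using h
  obtain ⟨t, ht, -⟩ := sheaf_yoneda A S hS (fun V v hv => x v hv) fun Y₁ Y₂ Z g₁ g₂ f₁ f₂ h₁ h₂ e => by
    change g₁ ≫ x f₁ h₁ = g₂ ≫ x f₂ h₂
    rw [← cancel_mono m, Category.assoc, hx, Category.assoc, hx, reassoc_of% e]
  exact ⟨t, hom_ext hS fun V v hv => by
    rw [← hx v hv, ← Category.assoc]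
    exact congrArg (· ≫ m) (ht v hv)⟩

end DescLib
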